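import Mathlib
import Cfsg.Agent.Lib.CharTheory.ExtendChar
import Cfsg.Agent.Lib.CharTheory.NormalSylow.Extend

/-!
# Characters of subgroups as functions on the whole group

`Irr H f` says that `f : G → ℂ` restricts to an irreducible character of `H`.  `Ext K θ x y` says
that `θ` extends to `K ⊔ ⟨x, y⟩`.
-/

set_option autoImplicit false
set_option linter.style.haveILetI false
set_option linter.unusedSectionVars false

open Subgroup
open scoped ComplexConjugate

namespace Cfsg.Agent.CharTheory.RelMcKay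

open Cfsg.Agent.Characters Cfsg.Agent.CharTheory

universe u

variable {G : Type u} [Group G]

/-- Restriction of a function to a subgroup. -/
def res (H : Subgroup G) (f : G → ℂ) : H → ℂ := fun h => f h

open scoped Classical in
/-- Extension of a function on a subgroup by zero. -/
noncomputable def ext0 (H : Subgroup G) (f : H → ℂ) : G → ℂ :=
  fun g => if h : g ∈ H then f ⟨g, h⟩ else 0

theorem ext0_apply (H : Subgroup G) (f : H → ℂ) {g : G} (hg : g ∈ H) :
    ext0 H f g = f ⟨g, hg⟩ := by rw [ext0, dif_pos hg]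

theorem res_ext0 (H : Subgroup G) (f : H → ℂ) : res H (ext0 H f) = f :=
  funext fun h => by rw [res, ext0_apply H f h.2]

theorem res_eq_iff {H : Subgroup G} {f g : G → ℂ} : res H f = res H g ↔ ∀ h ∈ H, f h = g h :=
  ⟨fun e h hh => congrFun e ⟨h, hh⟩, fun e => funext fun h => e h h.2⟩

/-- The multiplicity of `g` in `f` on `H`. -/
noncomputable def mult (H : Subgroup G) (f g : G → ℂ) : ℂ :=
  (Nat.card H : ℂ)⁻¹ * ∑ᶠ h : H, f h * conj (g h)

theorem mult_eq (H : Subgroup G) [Fintype H] (f g : G → ℂ) :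
    mult H f g = Cfsg.classInner (res H f) (res H g) := by
  rw [mult, finsum_eq_sum_of_fintype]; rfl

theorem mult_congr {H : Subgroup G} {f f' g g' : G → ℂ} (hf : ∀ h ∈ H, f h = f' h)
    (hg : ∀ h ∈ H, g h = g' h) : mult H f g = mult H f' g' := by
  unfold mult
  congr 1
  exact finsum_congr fun h => by rw [hf h h.2, hg h h.2]

/-- `f` is an irreducible character on `H`. -/
def Irr (H : Subgroup G) (f : G → ℂ) : Prop := Cfsg.IsIrrCharacter H (res H f)

/-- `f` is a character on `H`. -/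
def Chr (H : Subgroup G) (f : G → ℂ) : Prop := Cfsg.IsCharacter H (res H f)

/-- `f` is invariant under conjugation by `x` on `H`. -/
def Inv (H : Subgroup G) (f : G → ℂ) (x : G) : Prop := ∀ h ∈ H, f (x * h * x⁻¹) = f h

/-- The conjugate of a function. -/
def cj (x : G) (f : G → ℂ) : G → ℂ := fun g => f (x * g * x⁻¹)

theorem Irr.chr {H : Subgroup G} {f : G → ℂ} (h : Irr H f) : Chr H f := isCharacter_of_isIrr h

theorem Irr.congr {H : Subgroup G} {f f' : G → ℂ} (h : Irr H f) (he : ∀ x ∈ H, f' x = f x) :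
    Irr H f' := by
  rw [Irr, res_eq_iff.2 he]; exact h

theorem Chr.congr {H : Subgroup G} {f f' : G → ℂ} (h : Chr H f) (he : ∀ x ∈ H, f' x = f x) :
    Chr H f' := by
  rw [Chr, res_eq_iff.2 he]; exact h

theorem Chr.mono {H B : Subgroup G} {f : G → ℂ} (h : Chr B f) (hHB : H ≤ B) : Chr H f :=
  isCharacter_comp (Subgroup.inclusion hHB) h

theorem Chr.conj_apply {H : Subgroup G} {f : G → ℂ} (h : Chr H f) {a g : G} (ha : a ∈ H)
    (hg : g ∈ H) : f (a * g * a⁻¹) = f g :=
  char_isClassFunction h ⟨g, hg⟩ ⟨a, ha⟩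

theorem Irr.inv_mem {H : Subgroup G} {f : G → ℂ} (h : Irr H f) {a : G} (ha : a ∈ H) : Inv H f a :=
  fun _ hg => h.chr.conj_apply ha hg

theorem Irr.one_ne {H : Subgroup G} [Finite G] {f : G → ℂ} (h : Irr H f) : f 1 ≠ 0 := by
  have := irr_one_ne_zero h
  simpa [res] using this

theorem conj_mem_iff {H : Subgroup G} {x : G} (hx : x ∈ normalizer (H : Set G)) (g : G) :
    g ∈ H ↔ x * g * x⁻¹ ∈ H :=
  mem_normalizer_iff.1 hx g

theorem conj_mem {H : Subgroup G} {x : G} (hx : x ∈ normalizer (H : Set G)) {g : G} (hg : g ∈ H) :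
    x * g * x⁻¹ ∈ H :=
  (conj_mem_iff hx g).1 hg

theorem Inv.one (H : Subgroup G) (f : G → ℂ) : Inv H f 1 := fun h _ => by simp

theorem Inv.mul {H : Subgroup G} {f : G → ℂ} {x y : G} (hy : y ∈ normalizer (H : Set G))
    (h1 : Inv H f x) (h2 : Inv H f y) : Inv H f (x * y) := fun h hh => by
  rw [show x * y * h * (x * y)⁻¹ = x * (y * h * y⁻¹) * x⁻¹ by group, h1 _ (conj_mem hy hh), h2 h hh]

theorem Inv.inv {H : Subgroup G} {f : G → ℂ} {x : G} (hx : x ∈ normalizer (H : Set G))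
    (h1 : Inv H f x) : Inv H f x⁻¹ := fun h hh => by
  have h2 := h1 _ (conj_mem (inv_mem hx) hh)
  rw [← h2]
  congr 1
  group

theorem Inv.mono {H H' : Subgroup G} {f : G → ℂ} {x : G} (h : Inv H f x) (hle : H' ≤ H) :
    Inv H' f x := fun g hg => h g (hle hg)

/-- The elements of the normalizer leaving `f` invariant. -/
def stab (H : Subgroup G) (f : G → ℂ) : Subgroup G where
  carrier := {x | x ∈ normalizer (H : Set G) ∧ Inv H f x}
  one_mem' := ⟨one_mem _, Inv.one H f⟩
  mul_mem' := fun ha hb => ⟨mul_mem ha.1 hb.1, ha.2.mul hb.1 hb.2⟩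
  inv_mem' := fun ha => ⟨inv_mem ha.1, ha.2.inv ha.1⟩

theorem Inv.pow {H : Subgroup G} {f : G → ℂ} {x : G} (hx : x ∈ normalizer (H : Set G))
    (h1 : Inv H f x) (n : ℕ) : Inv H f (x ^ n) :=
  ((stab H f).pow_mem ⟨hx, h1⟩ n).2

variable [Finite G]

theorem cj_irr {H : Subgroup G} {f : G → ℂ} {x : G} (hx : x ∈ normalizer (H : Set G))
    (h : Irr H f) : Irr H (cj x f) := by
  let e : H ≃* H :=
    { toFun := fun g => ⟨x * g * x⁻¹, conj_mem hx g.2⟩
      invFun := fun g => ⟨x⁻¹ * g * x, by simpa using conj_mem (inv_mem hx) g.2⟩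
      left_inv := fun g => Subtype.ext (by simp [mul_assoc])
      right_inv := fun g => Subtype.ext (by simp [mul_assoc])
      map_mul' := fun a b => Subtype.ext (by simp [mul_assoc]) }
  exact (isIrrCharacter_comp_mulEquiv e).2 h

theorem mult_cj {H : Subgroup G} {x : G} (hx : x ∈ normalizer (H : Set G)) (f g : G → ℂ) :
    mult H (cj x f) (cj x g) = mult H f g := by
  unfold mult cj
  congr 1
  let e : H ≃ H :=
    { toFun := fun h => ⟨x * h * x⁻¹, conj_mem hx h.2⟩
      invFun := fun h => ⟨x⁻¹ * h * x, by simpa using conj_mem (inv_mem hx) h.2⟩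
      left_inv := fun h => Subtype.ext (by simp [mul_assoc])
      right_inv := fun h => Subtype.ext (by simp [mul_assoc]) }
  exact finsum_eq_of_bijective e e.bijective fun h => rfl

theorem mult_irr_self {H : Subgroup G} {f : G → ℂ} (hf : Irr H f) : mult H f f = 1 := by
  haveI := Fintype.ofFinite H
  rw [mult_eq]; exact classInner_isIrr_self hf

theorem mult_irr_ne {H : Subgroup G} {f g : G → ℂ} (hf : Irr H f) (hg : Irr H g)
    (h : mult H f g ≠ 0) : ∀ x ∈ H, f x = g x := by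
  haveI := Fintype.ofFinite H
  rw [mult_eq] at h
  exact res_eq_iff.1 (by_contra fun hne => h (classInner_isIrr_ne hf hg hne))

/-- A character extending an irreducible character is irreducible. -/
theorem irr_of_restrict {K B : Subgroup G} (hKB : K ≤ B) {θ η : G → ℂ} (hη : Chr B η)
    (hθ : Irr K θ) (he : ∀ k ∈ K, η k = θ k) : Irr B η :=
  NormalSylow.isIrr_of_restrict (Subgroup.inclusion hKB) hη (hθ.congr he)

/-- Extension over a cyclic quotient. -/
theorem exists_ext_cyclic {K B : Subgroup G} (hKB : K ≤ B) (hB : B ≤ normalizer (K : Set G))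
    {θ : G → ℂ} (hθ : Irr K θ) (hinv : ∀ b ∈ B, Inv K θ b) {x : G}
    (hgen : B ≤ K ⊔ zpowers x) (hx : x ∈ B) :
    ∃ η : G → ℂ, Irr B η ∧ ∀ k ∈ K, η k = θ k := by
  haveI : (K.subgroupOf B).Normal := normal_subgroupOf_of_le_normalizer hB
  set e := Subgroup.subgroupOfEquivOfLe hKB
  have hθ' : Cfsg.IsIrrCharacter (K.subgroupOf B) (res K θ ∘ e) :=
    (isIrrCharacter_comp_mulEquiv e).2 hθ
  have hcyc : IsCyclic (B ⧸ K.subgroupOf B) := by
    refine ⟨⟨QuotientGroup.mk (⟨x, hx⟩ : B), fun q => ?_⟩⟩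
    induction q using QuotientGroup.induction_on with | _ b => ?_
    have hb : (b : G) ∈ K ⊔ zpowers x := hgen b.2
    rw [← SetLike.mem_coe, coe_mul_of_right_le_normalizer_left K (zpowers x) (zpowers_le_of_mem (hB hx))] at hb
    obtain ⟨k, hk, z, hz, hkz⟩ := hb
    obtain ⟨i, hi⟩ := mem_zpowers_iff.1 hz
    refine mem_zpowers_iff.2 ⟨i, ?_⟩
    rw [← QuotientGroup.mk_zpow, eq_comm, QuotientGroup.eq, mem_subgroupOf]
    have hbe : (b : G) = k * x ^ i := by rw [hi]; exact hkz.symm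
    simp only [Subgroup.coe_mul, InvMemClass.coe_inv, SubgroupClass.coe_zpow, hbe]
    rw [show (k * x ^ i)⁻¹ * x ^ i = (x ^ i)⁻¹ * k⁻¹ * x ^ i by group]
    have h1 := conj_mem (hB (B.inv_mem (B.zpow_mem hx i))) (K.inv_mem hk)
    rwa [inv_inv] at h1
  obtain ⟨η, hη, hηK⟩ := ExtendChar.exists_extension_cyclic (K.subgroupOf B) hcyc hθ'
    (fun g => funext fun k => by
      have := hinv g g.2 ((k : B) : G) k.2
      exact this)
  refine ⟨ext0 B η, by rw [Irr, res_ext0]; exact hη, fun k hk => ?_⟩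
  rw [ext0_apply B η (hKB hk)]
  exact hηK ⟨⟨k, hKB hk⟩, hk⟩

/-- Two extensions differ by a linear character. -/
theorem exists_linear {K B : Subgroup G} (hKB : K ≤ B) (hB : B ≤ normalizer (K : Set G))
    {θ η η' : G → ℂ} (hθ : Irr K θ) (hη : Irr B η) (hηK : ∀ k ∈ K, η k = θ k) (hη' : Irr B η')
    (hη'K : ∀ k ∈ K, η' k = θ k) :
    ∃ lam : B →* ℂˣ, (∀ k (hk : k ∈ K), lam ⟨k, hKB hk⟩ = 1) ∧
      ∀ b : B, η' b = (lam b : ℂ) * η b := by
  haveI : (K.subgroupOf B).Normal := normal_subgroupOf_of_le_normalizer hB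
  haveI := Fintype.ofFinite B
  haveI := Fintype.ofFinite (K.subgroupOf B)
  set e := Subgroup.subgroupOfEquivOfLe hKB
  obtain ⟨lam, hl, hl1, hlK, hlm⟩ := ExtendChar.extension_eq_linear_mul (K.subgroupOf B)
    (θ := res K θ ∘ e) ((isIrrCharacter_comp_mulEquiv e).2 hθ) hη (fun k => hηK _ k.2) hη'
    (fun k => hη'K _ k.2)
  obtain ⟨f, hf⟩ := ExtendChar.exists_hom hl hl1
  refine ⟨f, fun k hk => Units.ext ?_, fun b => ?_⟩
  · rw [hf, hlK ⟨⟨k, hKB hk⟩, hk⟩, Units.val_one]
  · rw [hf]; exact (congrFun hlm b).symm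

/-- The subgroup over which extendibility is tested. -/
def pairSub (K : Subgroup G) (x y : G) : Subgroup G := K ⊔ Subgroup.closure {x, y}

/-- `θ` extends to `K ⊔ ⟨x, y⟩`. -/
def Ext (K : Subgroup G) (θ : G → ℂ) (x y : G) : Prop :=
  ∃ η : G → ℂ, Irr (pairSub K x y) η ∧ ∀ k ∈ K, η k = θ k

omit [Finite G] in
theorem le_pairSub (K : Subgroup G) (x y : G) : K ≤ pairSub K x y := le_sup_left

omit [Finite G] in
theorem left_mem_pairSub (K : Subgroup G) (x y : G) : x ∈ pairSub K x y :=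
  le_sup_right (a := K) (Subgroup.subset_closure (Set.mem_insert x _))

omit [Finite G] in
theorem right_mem_pairSub (K : Subgroup G) (x y : G) : y ∈ pairSub K x y :=
  le_sup_right (a := K) (Subgroup.subset_closure (Set.mem_insert_of_mem _ rfl))

omit [Finite G] in
theorem pairSub_le {K H : Subgroup G} {x y : G} (hK : K ≤ H) (hx : x ∈ H) (hy : y ∈ H) :
    pairSub K x y ≤ H :=
  sup_le hK ((Subgroup.closure_le _).2 (by rintro z (rfl | rfl); exacts [hx, hy]))

/-- Extendibility passes to smaller pairs. -/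
theorem Ext.mono {K : Subgroup G} {θ : G → ℂ} (hθ : Irr K θ) {x y x' y' : G} (h : Ext K θ x y)
    (hx : x' ∈ pairSub K x y) (hy : y' ∈ pairSub K x y) : Ext K θ x' y' := by
  obtain ⟨η, hη, he⟩ := h
  exact ⟨η, irr_of_restrict (le_pairSub K x' y')
    (hη.chr.mono (pairSub_le (le_pairSub K x y) hx hy)) hθ he, he⟩

end Cfsg.Agent.CharTheory.RelMcKay
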