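import Mathlib
import Cfsg.Agent.Lib.CharTheory.RelMcKay.Basic
import Cfsg.Agent.Lib.CharTheory.RegularSupport.Coset

/-!
# Extendibility to a pair of commuting elements of the quotient

For `x, y` commuting modulo `K` and fixing `θ`, extendibility to `K ⊔ ⟨x, y⟩` is the invariance under
`x` of an extension to `K ⊔ ⟨y⟩`; it can be tested on powers.
-/

set_option autoImplicit false
set_option linter.style.haveILetI false
set_option linter.unusedSectionVars false

open Subgroup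
open scoped ComplexConjugate

namespace Cfsg.Agent.CharTheory.RelMcKay

open Cfsg.Agent.Characters Cfsg.Agent.CharTheory

universe u

variable {G : Type u} [Group G] [Finite G] {K : Subgroup G} {θ : G → ℂ}

/-- `K ⊔ ⟨y⟩`. -/
def one (K : Subgroup G) (y : G) : Subgroup G := K ⊔ zpowers y

theorem le_one (K : Subgroup G) (y : G) : K ≤ one K y := le_sup_left

theorem mem_one (K : Subgroup G) (y : G) : y ∈ one K y := le_sup_right (a := K) (mem_zpowers y)

theorem one_le {K H : Subgroup G} {y : G} (hK : K ≤ H) (hy : y ∈ H) : one K y ≤ H :=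
  sup_le hK (zpowers_le_of_mem hy)

theorem one_le_normalizer {y : G} (hy : y ∈ normalizer (K : Set G)) :
    one K y ≤ normalizer (K : Set G) := sup_le le_normalizer (zpowers_le_of_mem hy)

theorem mem_one_iff {y : G} (hy : y ∈ normalizer (K : Set G)) {g : G} :
    g ∈ one K y ↔ ∃ k ∈ K, ∃ i : ℤ, g = k * y ^ i := by
  rw [one, ← SetLike.mem_coe, coe_mul_of_right_le_normalizer_left K (zpowers y)
    (zpowers_le_of_mem hy)]
  constructor
  · rintro ⟨k, hk, z, hz, rfl⟩
    obtain ⟨i, rfl⟩ := mem_zpowers_iff.1 hz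
    exact ⟨k, hk, i, rfl⟩
  · rintro ⟨k, hk, i, rfl⟩
    exact ⟨k, hk, _, zpow_mem (mem_zpowers y) i, rfl⟩

theorem comm_conj {x y : G} (hc : x * y * x⁻¹ * y⁻¹ ∈ K) : x * y * x⁻¹ ∈ one K y := by
  have h := (one K y).mul_mem (le_one K y hc) (mem_one K y)
  simpa [mul_assoc] using h

theorem normalizes_one {x y : G} (hx : x ∈ normalizer (K : Set G))
    (hy : y ∈ normalizer (K : Set G)) (hc : x * y * x⁻¹ * y⁻¹ ∈ K) :
    x ∈ normalizer (one K y : Set G) := by
  have hmap : ∀ g ∈ one K y, x * g * x⁻¹ ∈ one K y := by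
    intro g hg
    obtain ⟨k, hk, i, rfl⟩ := (mem_one_iff hy).1 hg
    rw [show x * (k * y ^ i) * x⁻¹ = (x * k * x⁻¹) * (x * y ^ i * x⁻¹) by group, ← conj_zpow]
    exact mul_mem (le_one K y (conj_mem hx hk)) (zpow_mem (comm_conj hc) i)
  rw [mem_normalizer_iff]
  refine fun g => ⟨hmap g, fun h => ?_⟩
  have heq : (one K y).map (MulAut.conj x).toMonoidHom = one K y := by
    apply Subgroup.eq_of_le_of_card_ge
    · rintro _ ⟨g, hg, rfl⟩; exact hmap g hg
    · rw [Subgroup.card_map_of_injective (MulEquiv.injective _)]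
  obtain ⟨g', hg', he⟩ := (heq.symm ▸ h : x * g * x⁻¹ ∈ (one K y).map (MulAut.conj x).toMonoidHom)
  have : g' = g := by simpa using he
  exact this ▸ hg'

/-- A homomorphism trivial on `K` is unchanged by conjugation by `x`. -/
theorem linear_conj {x y : G} (hx : x ∈ normalizer (K : Set G))
    (hy : y ∈ normalizer (K : Set G)) (hc : x * y * x⁻¹ * y⁻¹ ∈ K)
    (lam : one K y →* ℂˣ) (h1 : ∀ k (hk : k ∈ K), lam ⟨k, le_one K y hk⟩ = 1) {g : G}
    (hg : g ∈ one K y) (hg' : x * g * x⁻¹ ∈ one K y) : lam ⟨x * g * x⁻¹, hg'⟩ = lam ⟨g, hg⟩ := by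
  obtain ⟨k, hk, i, rfl⟩ := (mem_one_iff hy).1 hg
  have e : (⟨x * (k * y ^ i) * x⁻¹, hg'⟩ : one K y) = ⟨x * k * x⁻¹, le_one K y (conj_mem hx hk)⟩ *
      (⟨x * y * x⁻¹ * y⁻¹, le_one K y hc⟩ * ⟨y, mem_one K y⟩) ^ i := by
    apply Subtype.ext
    simp only [Subgroup.coe_mul, SubgroupClass.coe_zpow, inv_mul_cancel_right, conj_zpow]
    group
  have e2 : (⟨k * y ^ i, hg⟩ : one K y) = ⟨k, le_one K y hk⟩ * ⟨y, mem_one K y⟩ ^ i :=
    Subtype.ext (by simp)
  rw [e, e2, map_mul, map_mul, map_zpow, map_zpow, map_mul, h1 _ (conj_mem hx hk), h1 _ hc, h1 _ hk]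
  simp only [one_mul]

/-- An extension with irreducible restriction is only fixed by the trivial linear character. -/
theorem linear_eq_one {B : Subgroup G} (hKB : K ≤ B) (hB : B ≤ normalizer (K : Set G)) {η : G → ℂ}
    (hη : Irr B η) (hθ : Irr K η) (lam : B →* ℂˣ)
    (h1 : ∀ k (hk : k ∈ K), lam ⟨k, hKB hk⟩ = 1) (he : ∀ b : B, (lam b : ℂ) * η b = η b)
    (b : B) : lam b = 1 := by
  haveI : (K.subgroupOf B).Normal := normal_subgroupOf_of_le_normalizer hB
  haveI := Fintype.ofFinite B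
  haveI := Fintype.ofFinite (K.subgroupOf B)
  have h := RegularSupport.sum_coset_norm (K.subgroupOf B) hη
    ((isIrrCharacter_comp_mulEquiv (Subgroup.subgroupOfEquivOfLe hKB)).2 hθ) b
  obtain ⟨k, hk⟩ : ∃ k : K.subgroupOf B, res B η ((k : B) * b) ≠ 0 := by
    by_contra hcon
    push Not at hcon
    rw [Finset.sum_eq_zero fun k _ => by rw [hcon k, zero_mul]] at h
    exact Nat.cast_ne_zero.2 Nat.card_pos.ne' h.symm
  have h2 := he ((k : B) * b)
  have hk1 : lam (k : B) = 1 := h1 _ k.2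
  rw [map_mul, hk1, one_mul] at h2
  exact Units.ext (mul_right_cancel₀ hk (h2.trans (one_mul _).symm))

variable (hθ : Irr K θ) {x y : G} (hx : x ∈ normalizer (K : Set G)) (hxi : Inv K θ x)
  (hy : y ∈ normalizer (K : Set G)) (hyi : Inv K θ y) (hc : x * y * x⁻¹ * y⁻¹ ∈ K)

include hθ hy hyi in
theorem exists_ext_one : ∃ η : G → ℂ, Irr (one K y) η ∧ ∀ k ∈ K, η k = θ k := by
  refine exists_ext_cyclic (le_one K y) (one_le_normalizer hy) hθ (fun b hb => ?_) le_rfl
    (mem_one K y)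
  have : one K y ≤ stab K θ :=
    one_le (fun k hk => ⟨le_normalizer hk, hθ.inv_mem hk⟩) ⟨hy, hyi⟩
  exact (this hb).2

include hθ hx hxi hy hyi hc in
/-- Extendibility is invariance of an extension. -/
theorem ext_iff_inv {η : G → ℂ} (hη : Irr (one K y) η) (hηK : ∀ k ∈ K, η k = θ k) :
    Ext K θ x y ↔ Inv (one K y) η x := by
  constructor
  · rintro ⟨η', hη', hη'K⟩
    have hle : one K y ≤ pairSub K x y := one_le (le_pairSub K x y) (right_mem_pairSub K x y)
    obtain ⟨lam, h1, he⟩ := exists_linear (le_one K y) (one_le_normalizer hy) hθ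
      (irr_of_restrict (le_one K y) (hη'.chr.mono hle) hθ hη'K) hη'K hη hηK
    intro g hg
    have hg' := conj_mem (normalizes_one hx hy hc) hg
    rw [he ⟨_, hg'⟩, he ⟨g, hg⟩, linear_conj hx hy hc lam h1 hg hg']
    exact congrArg _ (hη'.inv_mem (left_mem_pairSub K x y) g (hle hg))
  · intro hinv
    have hnorm : pairSub K x y ≤ normalizer (one K y : Set G) :=
      pairSub_le ((le_one K y).trans le_normalizer) (normalizes_one hx hy hc)
        (le_normalizer (mem_one K y))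
    have hgen : pairSub K x y ≤ one K y ⊔ zpowers x :=
      pairSub_le ((le_one K y).trans le_sup_left) (le_sup_right (a := one K y) (mem_zpowers x))
        (le_sup_left (b := zpowers x) (mem_one K y))
    have hst : pairSub K x y ≤ stab (one K y) η := by
      refine pairSub_le (fun k hk => ⟨le_normalizer (le_one K y hk),
        hη.inv_mem (le_one K y hk)⟩) ⟨normalizes_one hx hy hc, hinv⟩
        ⟨le_normalizer (mem_one K y), hη.inv_mem (mem_one K y)⟩
    obtain ⟨η', hη', he⟩ := exists_ext_cyclic (one_le (le_pairSub K x y) (right_mem_pairSub K x y))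
      hnorm hη (fun b hb => (hst hb).2) hgen (left_mem_pairSub K x y)
    exact ⟨η', hη', fun k hk => by rw [he k (le_one K y hk), hηK k hk]⟩

omit [Finite G] in
theorem pairSub_comm (K : Subgroup G) (x y : G) : pairSub K x y = pairSub K y x := by
  rw [pairSub, pairSub, Set.pair_comm]

omit [Finite G] in
theorem Ext.symm {x y : G} (h : Ext K θ x y) : Ext K θ y x := by
  obtain ⟨η, hη, he⟩ := h
  exact ⟨η, by rw [pairSub_comm]; exact hη, he⟩

/-- The commutator condition for powers. -/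
theorem comm_pow (hx : x ∈ normalizer (K : Set G)) (hy : y ∈ normalizer (K : Set G))
    (hc : x * y * x⁻¹ * y⁻¹ ∈ K) (a b : ℕ) :
    x ^ a * y ^ b * (x ^ a)⁻¹ * (y ^ b)⁻¹ ∈ K := by
  let N : Subgroup G := normalizer (K : Set G)
  haveI : (K.subgroupOf N).Normal := normal_in_normalizer
  let q := QuotientGroup.mk' (K.subgroupOf N)
  have h1 : q (⟨x, hx⟩ * ⟨y, hy⟩ * ⟨x, hx⟩⁻¹ * ⟨y, hy⟩⁻¹) = 1 :=
    (QuotientGroup.eq_one_iff _).2 hc
  have h2 : Commute (q ⟨x, hx⟩) (q ⟨y, hy⟩) := by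
    rw [map_mul, map_mul, map_mul, map_inv, map_inv, mul_inv_eq_one, mul_inv_eq_iff_eq_mul] at h1
    exact h1
  have h3 : q (⟨x, hx⟩ ^ a * ⟨y, hy⟩ ^ b * (⟨x, hx⟩ ^ a)⁻¹ * (⟨y, hy⟩ ^ b)⁻¹) = 1 := by
    simp only [map_mul, map_inv, map_pow]
    rw [(h2.pow_pow a b).eq, mul_inv_cancel_right, mul_inv_cancel]
  exact mem_subgroupOf.1 ((QuotientGroup.eq_one_iff (N := K.subgroupOf N)
    ((⟨x, hx⟩ : N) ^ a * (⟨y, hy⟩ : N) ^ b * ((⟨x, hx⟩ : N) ^ a)⁻¹ *
      ((⟨y, hy⟩ : N) ^ b)⁻¹)).1 h3)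

include hθ hx hxi hy hyi hc in
/-- Extendibility can be tested prime by prime. -/
theorem ext_of_forall_prime {n : ℕ} (hxn : x ^ n ∈ K)
    (h : ∀ r : ℕ, r.Prime → r ∣ n → ∃ a b : ℕ, ¬ r ∣ a * b ∧ Ext K θ (x ^ a) (y ^ b)) :
    Ext K θ x y := by
  obtain ⟨η, hη, hηK⟩ := exists_ext_one hθ hy hyi
  rw [ext_iff_inv hθ hx hxi hy hyi hc hη hηK]
  have hnx := normalizes_one hx hy hc
  obtain ⟨lam, h1, he⟩ := exists_linear (le_one K y) (one_le_normalizer hy) hθ hη hηK
    (cj_irr hnx hη) fun k hk => by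
      show η (x * k * x⁻¹) = θ k
      rw [hηK _ (conj_mem hx hk), hxi k hk]
  have hpow : ∀ (m : ℕ) (g : one K y), η (x ^ m * g * (x ^ m)⁻¹) = (lam g : ℂ) ^ m * η g := by
    intro m
    induction m with
    | zero => intro g; simp
    | succ m ih =>
      intro g
      have e : (lam ⟨x * g * x⁻¹, conj_mem hnx g.2⟩ : ℂ) = (lam g : ℂ) :=
        congrArg Units.val (linear_conj hx hy hc lam h1 g.2 _)
      have h2 := ih ⟨x * g * x⁻¹, conj_mem hnx g.2⟩
      have h3 : η (x * g * x⁻¹) = (lam g : ℂ) * η g := he g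
      rw [e, h3] at h2
      rw [pow_succ x, show x ^ m * x * g * (x ^ m * x)⁻¹ = x ^ m * (x * g * x⁻¹) * (x ^ m)⁻¹ by
        group, h2, pow_succ]
      ring
  have hηK' : Irr K η := hθ.congr hηK
  have htriv : ∀ g : one K y, lam g ^ n = 1 := by
    intro g
    refine linear_eq_one (le_one K y) (one_le_normalizer hy) hη hηK' (lam ^ n) (fun k hk => ?_)
      (fun b => ?_) g
    · rw [MonoidHom.pow_apply, h1 k hk, one_pow]
    · rw [MonoidHom.pow_apply, Units.val_pow_eq_pow_val, ← hpow n b]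
      exact hη.inv_mem (le_one K y hxn) b b.2
  have hy1 : lam ⟨y, mem_one K y⟩ = 1 := by
    by_contra hne
    have hd := orderOf_dvd_of_pow_eq_one (htriv ⟨y, mem_one K y⟩)
    have ho : orderOf (lam ⟨y, mem_one K y⟩) ≠ 1 := fun h => hne (orderOf_eq_one_iff.1 h)
    obtain ⟨r, hr, hrd⟩ := Nat.exists_prime_and_dvd ho
    obtain ⟨a, b, hab, hext⟩ := h r hr (hrd.trans hd)
    have hyb : y ^ b ∈ normalizer (K : Set G) := pow_mem hy b
    have hle : one K (y ^ b) ≤ one K y := one_le (le_one K y) (pow_mem (mem_one K y) b)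
    have hη' : Irr (one K (y ^ b)) η :=
      irr_of_restrict (le_one K _) (hη.chr.mono hle) hθ hηK
    rw [ext_iff_inv hθ (pow_mem hx a) (hxi.pow hx a) hyb (hyi.pow hy b) (comm_pow hx hy hc a b)
      hη' hηK] at hext
    have h4 : lam ⟨y ^ b, hle (mem_one K _)⟩ ^ a = 1 := by
      refine linear_eq_one (le_one K _) (one_le_normalizer hyb) hη' hηK'
        ((lam.comp (Subgroup.inclusion hle)) ^ a) (fun k hk => ?_) (fun g => ?_)
        ⟨y ^ b, mem_one K _⟩
      · rw [MonoidHom.pow_apply, MonoidHom.comp_apply]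
        exact (congrArg (· ^ a) (h1 k hk)).trans (one_pow a)
      · rw [MonoidHom.pow_apply, MonoidHom.comp_apply, Units.val_pow_eq_pow_val]
        exact (hpow a (Subgroup.inclusion hle g)).symm.trans (hext g g.2)
    rw [show (⟨y ^ b, hle (mem_one K _)⟩ : one K y) = ⟨y, mem_one K y⟩ ^ b from rfl, map_pow,
      ← pow_mul] at h4
    exact hab ((mul_comm b a) ▸ hrd.trans (orderOf_dvd_of_pow_eq_one h4))
  intro g hg
  have hg1 : lam ⟨g, hg⟩ = 1 := by
    obtain ⟨k, hk, i, rfl⟩ := (mem_one_iff hy).1 hg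
    rw [show (⟨k * y ^ i, hg⟩ : one K y) = ⟨k, le_one K y hk⟩ * ⟨y, mem_one K y⟩ ^ i from
      Subtype.ext (by simp), map_mul, map_zpow, h1 k hk, hy1, one_zpow, one_mul]
  have := he ⟨g, hg⟩
  rw [hg1, Units.val_one, one_mul] at this
  exact this

end Cfsg.Agent.CharTheory.RelMcKay
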