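import Mathlib
import Cfsg.Agent.Lib.CharTheory.RelMcKay.Pair

/-!
# Counting the characters over an invariant character

The irreducible characters over an invariant `θ ∈ Irr M` are as many as the classes of `G ⧸ M` all
of whose representatives are `θ`-good.
-/

set_option autoImplicit false
set_option linter.style.haveILetI false
set_option linter.unusedSectionVars false

open Subgroup
open scoped ComplexConjugate

namespace Cfsg.Agent.CharTheory.RelMcKay

open Cfsg.Agent.Characters Cfsg.Agent.CharTheory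

universe u

variable {G : Type u} [Group G] [Finite G] {M : Subgroup G} [hMn : M.Normal] {θ : G → ℂ}

/-- `x` is good for `θ`. -/
def Good (M : Subgroup G) (θ : G → ℂ) (x : G) : Prop :=
  ∀ y : G, y * x * y⁻¹ * x⁻¹ ∈ M → Ext M θ y x

/-- The good classes. -/
def GoodClass (M : Subgroup G) [M.Normal] (θ : G → ℂ) : Type u :=
  {c : ConjClasses (G ⧸ M) // ∀ x : G, ConjClasses.mk (x : G ⧸ M) = c → Good M θ x}

theorem mem_normalizer_of_normal (g : G) : g ∈ normalizer (M : Set G) := by
  rw [Subgroup.normalizer_eq_top]; exact mem_top g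

/-- Invariance on one coset is enough. -/
theorem ext_iff_coset (hθ : Irr M θ) (hinv : ∀ g, Inv M θ g) {x y : G}
    (hc : y * x * y⁻¹ * x⁻¹ ∈ M) {η : G → ℂ} (hη : Irr (one M x) η)
    (hηM : ∀ m ∈ M, η m = θ m) :
    Ext M θ y x ↔ ∀ m ∈ M, η (y * (m * x) * y⁻¹) = η (m * x) := by
  have hy := mem_normalizer_of_normal (M := M) y
  have hx := mem_normalizer_of_normal (M := M) x
  rw [ext_iff_inv hθ hy (hinv y) hx (hinv x) hc hη hηM]
  refine ⟨fun h m hm => h _ (mul_mem (le_one M x hm) (mem_one M x)), fun h => ?_⟩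
  obtain ⟨lam, h1, he⟩ := exists_linear (le_one M x) (one_le_normalizer hx) hθ hη hηM
    (cj_irr (normalizes_one hy hx hc) hη) fun k hk => by
      show η (y * k * y⁻¹) = θ k
      rw [hηM _ (conj_mem hy hk), hinv y k hk]
  haveI : (M.subgroupOf (one M x)).Normal := normal_subgroupOf_of_le_normalizer (one_le_normalizer hx)
  haveI := Fintype.ofFinite (one M x)
  haveI := Fintype.ofFinite (M.subgroupOf (one M x))
  have hsum := RegularSupport.sum_coset_norm (M.subgroupOf (one M x)) hη
    ((isIrrCharacter_comp_mulEquiv (Subgroup.subgroupOfEquivOfLe (le_one M x))).2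
      (hθ.congr hηM)) ⟨x, mem_one M x⟩
  obtain ⟨k, hk⟩ : ∃ k : M.subgroupOf (one M x),
      res (one M x) η ((k : one M x) * ⟨x, mem_one M x⟩) ≠ 0 := by
    by_contra hcon
    push Not at hcon
    rw [Finset.sum_eq_zero fun k _ => by rw [hcon k, zero_mul]] at hsum
    exact Nat.cast_ne_zero.2 Nat.card_pos.ne' hsum.symm
  have h2 := he ((k : one M x) * ⟨x, mem_one M x⟩)
  have hk1 : lam (k : one M x) = 1 := h1 _ k.2
  rw [map_mul, hk1, one_mul] at h2
  have h3 := h _ k.2
  have hlx : lam ⟨x, mem_one M x⟩ = 1 :=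
    Units.ext (mul_right_cancel₀ hk ((h2.symm.trans h3).trans (one_mul _).symm))
  intro g hg
  obtain ⟨m, hm, i, rfl⟩ := (mem_one_iff hx).1 hg
  have hl : lam ⟨m * x ^ i, hg⟩ = 1 := by
    rw [show (⟨m * x ^ i, hg⟩ : one M x) = ⟨m, le_one M x hm⟩ * ⟨x, mem_one M x⟩ ^ i from
      Subtype.ext (by simp), map_mul, map_zpow, h1 m hm, hlx, one_zpow, one_mul]
  have := he ⟨_, hg⟩
  rw [hl, Units.val_one, one_mul] at this
  exact this

/-- The coefficient of `η` in `f` on the coset of `x`. -/
noncomputable def coef (M : Subgroup G) (η : G → ℂ) (x : G) (f : G → ℂ) : ℂ :=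
  (Nat.card M : ℂ)⁻¹ * ∑ᶠ m : M, f (m * x) * conj (η (m * x))

theorem sum_subgroupOf {B : Subgroup G} [Fintype (M.subgroupOf B)] [Fintype M] (hMB : M ≤ B)
    (f : G → ℂ) : ∑ n : M.subgroupOf B, f ((n : B) : G) = ∑ m : M, f m :=
  Fintype.sum_equiv (Subgroup.subgroupOfEquivOfLe hMB).toEquiv _ _ fun _ => rfl

theorem sum_norm (hθ : Irr M θ) {x : G} {η : G → ℂ} (hη : Irr (one M x) η)
    (hηM : ∀ m ∈ M, η m = θ m) : coef M η x η = 1 := by
  haveI : (M.subgroupOf (one M x)).Normal :=
    normal_subgroupOf_of_le_normalizer (one_le_normalizer (mem_normalizer_of_normal x))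
  haveI := Fintype.ofFinite M
  haveI := Fintype.ofFinite (one M x)
  haveI := Fintype.ofFinite (M.subgroupOf (one M x))
  have h := RegularSupport.sum_coset_norm (M.subgroupOf (one M x)) hη
    ((isIrrCharacter_comp_mulEquiv (Subgroup.subgroupOfEquivOfLe (le_one M x))).2
      (hθ.congr hηM)) ⟨x, mem_one M x⟩
  rw [coef, finsum_eq_sum_of_fintype]
  rw [Nat.card_congr (Subgroup.subgroupOfEquivOfLe (le_one M x)).toEquiv] at h
  have h' : ∑ m : M, η (m * x) * conj (η (m * x)) = (Nat.card M : ℂ) := by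
    refine Eq.trans ?_ h
    exact (sum_subgroupOf (le_one M x) fun g => η (g * x) * conj (η (g * x))).symm
  rw [h', inv_mul_cancel₀ (Nat.cast_ne_zero.2 Nat.card_pos.ne')]

/-- A character over an invariant `θ` is proportional to an extension on each coset. -/
theorem over_coset [Fintype G] [Fintype M] (hθ : Irr M θ) (hinv : ∀ g, Inv M θ g)
    (χ : Cfsg.IrrCharacter G) (hχ : mult M (χ : G → ℂ) θ ≠ 0) {x : G} {η : G → ℂ}
    (hη : Irr (one M x) η) (hηM : ∀ m ∈ M, η m = θ m) (m : M) :
    (χ : G → ℂ) (m * x) = coef M η x (χ : G → ℂ) * η (m * x) := by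
  haveI : (M.subgroupOf (one M x)).Normal :=
    normal_subgroupOf_of_le_normalizer (one_le_normalizer (mem_normalizer_of_normal x))
  haveI := Fintype.ofFinite (one M x)
  haveI := Fintype.ofFinite (M.subgroupOf (one M x))
  have hM : (fun n : M => (χ : G → ℂ) n) = mult M (χ : G → ℂ) θ • res M θ := by
    rw [mult_eq]
    exact Clifford.restrict_eq_smul_of_invariant M χ.2 hθ (by rwa [mult_eq] at hχ)
      fun g => funext fun n => hinv g n n.2
  have h := RegularSupport.quotChar_mul_eq (M.subgroupOf (one M x)) hη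
    ((isIrrCharacter_comp_mulEquiv (Subgroup.subgroupOfEquivOfLe (le_one M x))).2 (hθ.congr hηM))
    (Φ := res (one M x) (χ : G → ℂ)) (isCharacter_restrict _ (irr_isCharacter χ))
    (c := mult M (χ : G → ℂ) θ) (fun n => by
      show (χ : G → ℂ) ((n : one M x) : G) = _ * η ((n : one M x) : G)
      rw [hηM _ (mem_subgroupOf.1 n.2)]
      exact congrFun hM ⟨_, mem_subgroupOf.1 n.2⟩)
  have h1 := congrFun h (⟨m, le_one M x m.2⟩ * ⟨x, mem_one M x⟩)
  rw [Pi.mul_apply, show (⟨(m : G), le_one M x m.2⟩ : one M x) =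
    ((⟨⟨m, le_one M x m.2⟩, m.2⟩ : M.subgroupOf (one M x)) : one M x) from rfl,
    Average.quotChar_mul_left, Average.quotChar_apply] at h1
  refine h1.symm.trans (congrArg₂ (· * ·) ?_ rfl)
  rw [coef, finsum_eq_sum_of_fintype, Nat.card_congr (Subgroup.subgroupOfEquivOfLe (le_one M x)).toEquiv]
  exact congrArg _ (sum_subgroupOf (le_one M x)
    fun g => (χ : G → ℂ) (g * x) * conj (η (g * x)))

/-- The number of characters over an invariant character. -/
theorem card_over (hθ : Irr M θ) (hinv : ∀ g, Inv M θ g) :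
    Nat.card {χ : Cfsg.IrrCharacter G // mult M (χ : G → ℂ) θ ≠ 0} = Nat.card (GoodClass M θ) := by
  classical
  haveI := Fintype.ofFinite G
  haveI := Fintype.ofFinite M
  haveI : Finite (ConjClasses (G ⧸ M)) := inferInstance
  haveI : Finite (GoodClass M θ) := Subtype.finite
  haveI := Fintype.ofFinite (Cfsg.IrrCharacter G)
  haveI := Fintype.ofFinite (GoodClass M θ)
  set A := {χ : Cfsg.IrrCharacter G // mult M (χ : G → ℂ) θ ≠ 0}
  have hrep : ∀ c : ConjClasses (G ⧸ M), ∃ x : G, ConjClasses.mk (x : G ⧸ M) = c := by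
    intro c
    obtain ⟨q, rfl⟩ := ConjClasses.mk_surjective c
    obtain ⟨x, rfl⟩ := QuotientGroup.mk_surjective q
    exact ⟨x, rfl⟩
  choose rep hrepc using hrep
  have hext : ∀ x : G, ∃ η : G → ℂ, Irr (one M x) η ∧ ∀ m ∈ M, η m = θ m := fun x =>
    exists_ext_one hθ (mem_normalizer_of_normal x) (hinv x)
  choose η hη hηM using hext
  have hcls : ∀ a : A, Cfsg.IsClassFunction G (a.1 : G → ℂ) := fun a => irr_isClassFunction a.1
  let F : (A → ℂ) → G → ℂ := fun a g => ∑ χ : A, a χ * (χ.1 : G → ℂ) g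
  have hFc : ∀ (a : A → ℂ) (g u : G), F a (u * g * u⁻¹) = F a g := fun a g u =>
    Finset.sum_congr rfl fun χ _ => by rw [hcls χ g u]
  let Φ : (A → ℂ) →ₗ[ℂ] (GoodClass M θ → ℂ) :=
    { toFun := fun a c => ∑ χ : A, a χ * coef M (η (rep c.1)) (rep c.1) (χ.1 : G → ℂ)
      map_add' := fun a b => funext fun c => by
        simp only [Pi.add_apply, add_mul, Finset.sum_add_distrib]
      map_smul' := fun t a => funext fun c => by
        simp only [Pi.smul_apply, smul_eq_mul, RingHom.id_apply, Finset.mul_sum, mul_assoc] }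
  have hFcoset : ∀ (a : A → ℂ) (x : G) (m : M),
      F a (m * x) = (∑ χ : A, a χ * coef M (η x) x (χ.1 : G → ℂ)) * η x (m * x) := by
    intro a x m
    rw [Finset.sum_mul]
    exact Finset.sum_congr rfl fun χ _ => by
      rw [mul_assoc, ← over_coset hθ hinv χ.1 χ.2 (hη x) (hηM x) m]
  have hconj : ∀ {g x : G}, ConjClasses.mk (g : G ⧸ M) = ConjClasses.mk (x : G ⧸ M) →
      ∃ u : G, u * g * u⁻¹ * x⁻¹ ∈ M := by
    intro g x h
    obtain ⟨q, hq⟩ := isConj_iff.1 (ConjClasses.mk_eq_mk_iff_isConj.1 h)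
    obtain ⟨u, rfl⟩ := QuotientGroup.mk_surjective q
    refine ⟨u, (QuotientGroup.eq_one_iff _).1 ?_⟩
    rw [QuotientGroup.mk_mul, QuotientGroup.mk_mul, QuotientGroup.mk_mul, QuotientGroup.mk_inv,
      QuotientGroup.mk_inv, hq, mul_inv_cancel]
  have hinj : Function.Injective Φ := by
    rw [injective_iff_map_eq_zero]
    intro a ha
    have hzero : ∀ g, F a g = 0 := by
      intro g
      set c := ConjClasses.mk (g : G ⧸ M) with hc
      obtain ⟨u, hu⟩ := hconj (g := g) (x := rep c) (by rw [hrepc, hc])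
      have hg : F a g = F a ((⟨_, hu⟩ : M) * rep c) := by
        rw [← hFc a g u, inv_mul_cancel_right]
      rw [hg, hFcoset]
      by_cases hgood : ∀ x : G, ConjClasses.mk (x : G ⧸ M) = c → Good M θ x
      · have : ∑ χ : A, a χ * coef M (η (rep c)) (rep c) (χ.1 : G → ℂ) = 0 :=
          congrFun ha (⟨c, hgood⟩ : GoodClass M θ)
        rw [this, zero_mul]
      · push Not at hgood
        obtain ⟨x, hxc, hbad⟩ := hgood
        simp only [Good, not_forall] at hbad
        obtain ⟨y, hy, hne⟩ := hbad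
        rw [ext_iff_coset hθ hinv hy (hη x) (hηM x)] at hne
        push Not at hne
        obtain ⟨m, hm, hne⟩ := hne
        have h1 := hFcoset a x ⟨m, hm⟩
        have hm' : y * (m * x) * y⁻¹ * x⁻¹ ∈ M := by
          have := M.mul_mem (hMn.conj_mem m hm y) hy
          simpa [mul_assoc] using this
        have h2 := hFcoset a x ⟨_, hm'⟩
        rw [inv_mul_cancel_right, hFc a (m * x) y, h1] at h2
        have h0 : ∑ χ : A, a χ * coef M (η x) x (χ.1 : G → ℂ) = 0 :=
          (mul_eq_mul_left_iff.1 h2).resolve_left fun h => hne h.symm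
        obtain ⟨v, hv⟩ := hconj (g := rep c) (x := x) (by rw [hrepc, hxc])
        have h3 : F a ((⟨_, hu⟩ : M) * rep c) = 0 := by
          rw [← hFc a _ v]
          have h4 : v * ((u * g * u⁻¹ * (rep c)⁻¹) * rep c) * v⁻¹ * x⁻¹ ∈ M := by
            have := M.mul_mem (hMn.conj_mem _ hu v) hv
            simpa [mul_assoc] using this
          have h5 := hFcoset a x ⟨_, h4⟩
          rw [inv_mul_cancel_right] at h5
          rw [h5, h0, zero_mul]
        rw [hFcoset] at h3
        exact h3
    funext χ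
    have hli := linearIndependent_irr (G := G)
    rw [Fintype.linearIndependent_iff] at hli
    have h0 : ∑ ψ : Cfsg.IrrCharacter G,
        (if h : mult M (ψ : G → ℂ) θ ≠ 0 then a ⟨ψ, h⟩ else 0) • (ψ : G → ℂ) = 0 := by
      funext g
      rw [Finset.sum_apply, Pi.zero_apply]
      refine Eq.trans ?_ (hzero g)
      rw [← Finset.sum_filter_add_sum_filter_not (Finset.univ : Finset (Cfsg.IrrCharacter G))
        (fun ψ => mult M (ψ : G → ℂ) θ ≠ 0)]
      rw [Finset.sum_eq_zero (s := Finset.univ.filter fun ψ : Cfsg.IrrCharacter G =>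
        ¬ mult M (ψ : G → ℂ) θ ≠ 0) (fun ψ hψ => by
          rw [Pi.smul_apply, dif_neg (Finset.mem_filter.1 hψ).2, zero_smul]), add_zero]
      rw [Finset.sum_subtype (p := fun ψ : Cfsg.IrrCharacter G => mult M (ψ : G → ℂ) θ ≠ 0)
        (Finset.univ.filter fun ψ : Cfsg.IrrCharacter G => mult M (ψ : G → ℂ) θ ≠ 0)
        (fun ψ => by simp)]
      exact Finset.sum_congr rfl fun ψ _ => by
        rw [Pi.smul_apply, dif_pos ψ.2, smul_eq_mul]
    have := hli _ h0 χ.1
    rwa [dif_pos χ.2] at this
  have hsurj : Function.Surjective Φ := by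
    rw [← LinearMap.range_eq_top, eq_top_iff]
    intro b _
    rw [show b = ∑ c : GoodClass M θ, b c • Pi.single c (1 : ℂ) from by
      funext d; simp [Finset.sum_apply, Pi.single_apply]]
    refine Submodule.sum_mem _ fun c _ => Submodule.smul_mem _ _ ?_
    set x := rep c.1
    have hgood : Good M θ x := c.2 x (hrepc c.1)
    have hwell : ∀ g u u' : G, u * g * u⁻¹ * x⁻¹ ∈ M → u' * g * u'⁻¹ * x⁻¹ ∈ M →
        η x (u * g * u⁻¹) = η x (u' * g * u'⁻¹) := by
      intro g u u' hu hu'
      set y := u * u'⁻¹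
      have e : y * (u' * g * u'⁻¹ * x⁻¹ * x) * y⁻¹ = u * g * u⁻¹ := by simp [y, mul_assoc]
      have hy : y * x * y⁻¹ * x⁻¹ ∈ M := by
        have h1 := M.mul_mem (M.inv_mem (hMn.conj_mem _ hu' y)) hu
        refine (congrArg (· ∈ M) ?_).mp h1
        simp [y, mul_assoc]
      have := (ext_iff_coset hθ hinv hy (hη x) (hηM x)).1 (hgood y hy) _ hu'
      rw [e, inv_mul_cancel_right] at this
      exact this
    let f : G → ℂ := fun g =>
      if h : ∃ u, u * g * u⁻¹ * x⁻¹ ∈ M then η x (h.choose * g * h.choose⁻¹) else 0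
    have hf1 : ∀ g u, u * g * u⁻¹ * x⁻¹ ∈ M → f g = η x (u * g * u⁻¹) := fun g u hu => by
      simp only [f, dif_pos (show ∃ u, u * g * u⁻¹ * x⁻¹ ∈ M from ⟨u, hu⟩)]
      exact hwell g _ u (Exists.choose_spec (⟨u, hu⟩ : ∃ u, u * g * u⁻¹ * x⁻¹ ∈ M)) hu
    have hf0 : ∀ g, (∀ u, u * g * u⁻¹ * x⁻¹ ∉ M) → f g = 0 := fun g hg =>
      dif_neg fun ⟨u, hu⟩ => hg u hu
    have hfcl : Cfsg.IsClassFunction G f := by
      intro g v
      by_cases h : ∃ u, u * g * u⁻¹ * x⁻¹ ∈ M
      · obtain ⟨u, hu⟩ := h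
        rw [hf1 g u hu, hf1 (v * g * v⁻¹) (u * v⁻¹) (by simpa [mul_assoc] using hu)]
        congr 1
        simp [mul_assoc]
      · push Not at h
        rw [hf0 g h, hf0 _ fun u hu => h (u * v) (by simpa [mul_assoc] using hu)]
    have horth : ∀ ψ : Cfsg.IrrCharacter G, mult M (ψ : G → ℂ) θ = 0 →
        Cfsg.classInner f (ψ : G → ℂ) = 0 := by
      intro ψ hψ
      have hinner : ∀ g : G, ∑ m : M, f (m * g) * conj ((ψ : G → ℂ) (m * g)) = 0 := by
        intro g
        by_cases h : ∃ u, u * g * u⁻¹ * x⁻¹ ∈ M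
        · obtain ⟨u, hu⟩ := h
          have hk : ∀ m : M, u * (m * g) * u⁻¹ * x⁻¹ ∈ M := fun m => by
            have := M.mul_mem (hMn.conj_mem (m : G) m.2 u) hu
            simpa [mul_assoc] using this
          have hbij : ∑ m : M, η x ((m : G) * x) * conj ((ψ : G → ℂ) ((m : G) * x)) = 0 := by
            haveI : (M.subgroupOf (one M x)).Normal :=
              normal_subgroupOf_of_le_normalizer (one_le_normalizer (mem_normalizer_of_normal x))
            haveI := Fintype.ofFinite (one M x)
            haveI := Fintype.ofFinite (M.subgroupOf (one M x))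
            have h2 := RegularSupport.sum_coset_orth (M.subgroupOf (one M x))
              (χ := res (one M x) (ψ : G → ℂ)) (Φ := res (one M x) (η x))
              (isCharacter_restrict _ (irr_isCharacter ψ)) (hη x).chr ?_ ⟨x, mem_one M x⟩
            · exact ((sum_subgroupOf (le_one M x)
                fun g => η x (g * x) * conj ((ψ : G → ℂ) (g * x))).symm.trans h2)
            · rw [classInner_conj_symm]
              have h3 : mult M (η x) (ψ : G → ℂ) = 0 := by
                rw [mult_congr (hηM x) (fun _ _ => rfl), mult_eq, classInner_conj_symm, ← mult_eq,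
                  hψ, map_zero]
              rw [← classInner_conj_symm]
              rw [classInner_def]
              rw [mult, finsum_eq_sum_of_fintype] at h3
              rw [Nat.card_congr (Subgroup.subgroupOfEquivOfLe (le_one M x)).toEquiv]
              refine Eq.trans (congrArg _ ?_) h3
              exact sum_subgroupOf (le_one M x) fun g => η x g * conj ((ψ : G → ℂ) g)
          refine Eq.trans ?_ hbij
          refine Fintype.sum_bijective (fun m : M => (⟨_, hk m⟩ : M)) ?_ _ _ fun m => ?_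
          · refine Finite.injective_iff_bijective.1 fun a b e => ?_
            simpa using congrArg Subtype.val e
          · simp only [inv_mul_cancel_right]
            rw [hf1 _ u (hk m), irr_isClassFunction ψ ((m : G) * g) u]
        · push Not at h
          refine Finset.sum_eq_zero fun m _ => ?_
          rw [hf0 _ fun u hu => h u ?_, zero_mul]
          have := M.mul_mem (M.inv_mem (hMn.conj_mem (m : G) m.2 u)) hu
          simpa [mul_assoc] using this
      have hshift : ∀ m : M, ∑ g : G, f (m * g) * conj ((ψ : G → ℂ) (m * g)) =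
          ∑ g : G, f g * conj ((ψ : G → ℂ) g) := fun m =>
        Fintype.sum_equiv (Equiv.mulLeft (m : G)) _ _ fun g => rfl
      have hz : (Fintype.card M : ℂ) * ∑ g : G, f g * conj ((ψ : G → ℂ) g) = 0 := by
        rw [← nsmul_eq_mul, ← Finset.card_univ, ← Finset.sum_const,
          ← Finset.sum_congr rfl (fun m _ => hshift m), Finset.sum_comm]
        exact Finset.sum_eq_zero fun g _ => hinner g
      rw [classInner_def, (mul_eq_zero.1 hz).resolve_left (Nat.cast_ne_zero.2 Fintype.card_ne_zero),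
        mul_zero]
    refine ⟨fun χ => Cfsg.classInner f (χ.1 : G → ℂ), ?_⟩
    have hF : ∀ g, F (fun χ => Cfsg.classInner f (χ.1 : G → ℂ)) g = f g := by
      intro g
      have h := congrFun (classFun_eq_sum hfcl) g
      simp only [Finset.sum_apply, Pi.smul_apply, smul_eq_mul] at h
      rw [h, ← Finset.sum_filter_add_sum_filter_not (Finset.univ : Finset (Cfsg.IrrCharacter G))
        (fun ψ => mult M (ψ : G → ℂ) θ ≠ 0),
        Finset.sum_eq_zero (s := Finset.univ.filter fun ψ : Cfsg.IrrCharacter G =>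
        ¬ mult M (ψ : G → ℂ) θ ≠ 0) (fun ψ hψ => by
          rw [horth ψ (not_not.1 (Finset.mem_filter.1 hψ).2), zero_mul]), add_zero,
        Finset.sum_subtype (p := fun ψ : Cfsg.IrrCharacter G => mult M (ψ : G → ℂ) θ ≠ 0)
        (Finset.univ.filter fun ψ : Cfsg.IrrCharacter G => mult M (ψ : G → ℂ) θ ≠ 0)
        (fun ψ => by simp)]
    funext d
    simp only [Φ, LinearMap.coe_mk, AddHom.coe_mk]
    have h6 : ∑ χ : A, Cfsg.classInner f (χ.1 : G → ℂ) *
        coef M (η (rep d.1)) (rep d.1) (χ.1 : G → ℂ) = coef M (η (rep d.1)) (rep d.1) f := by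
      simp only [coef, finsum_eq_sum_of_fintype]
      rw [Finset.sum_congr rfl fun χ _ => mul_left_comm _ _ _, ← Finset.mul_sum]
      congr 1
      simp only [Finset.mul_sum]
      rw [Finset.sum_comm]
      refine Finset.sum_congr rfl fun m _ => ?_
      rw [← hF, Finset.sum_mul]
      exact Finset.sum_congr rfl fun χ _ => by ring
    rw [h6]
    by_cases hd : d = c
    · subst hd
      rw [Pi.single_eq_same, ← sum_norm hθ (hη x) (hηM x)]
      unfold coef
      congr 1
      refine finsum_congr fun m => ?_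
      rw [hf1 _ 1 (by simp [x])]
      simp [x]
    · rw [Pi.single_eq_of_ne hd]
      unfold coef
      rw [finsum_eq_zero_of_forall_eq_zero fun m => ?_, mul_zero]
      rw [hf0 _ fun u hu => hd (Subtype.ext ?_), zero_mul]
      rw [← hrepc d.1, ← hrepc c.1]
      refine ConjClasses.mk_eq_mk_iff_isConj.2 (isConj_iff.2 ⟨(u : G ⧸ M), ?_⟩)
      have h7 := (QuotientGroup.eq_one_iff _).2 hu
      rw [QuotientGroup.mk_mul, QuotientGroup.mk_mul, QuotientGroup.mk_mul, QuotientGroup.mk_mul,
        (QuotientGroup.eq_one_iff (m : G)).2 m.2, one_mul, QuotientGroup.mk_inv,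
        QuotientGroup.mk_inv, mul_inv_eq_one] at h7
      exact h7
  have h := LinearEquiv.finrank_eq (LinearEquiv.ofBijective Φ ⟨hinj, hsurj⟩)
  rw [Module.finrank_fintype_fun_eq_card, Module.finrank_fintype_fun_eq_card] at h
  rw [Nat.card_eq_fintype_card, Nat.card_eq_fintype_card]
  exact h

end Cfsg.Agent.CharTheory.RelMcKay
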