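import Mathlib
import Cfsg.Agent.Lib.Coprime.Generation
import Cfsg.Agent.Lib.Coprime.Action

/-!
# One step down in a `p`-group acted on by two commuting `r`-elements

If `x, y` act as commuting `r`-elements, `r ≠ p`, on the `p`-group `S ≠ 1`, then there is an
invariant proper normal subgroup `P₁` such that, after a change of generators, `y` fixes a
complement of it: `S = C_S(y) P₁`.
-/

set_option autoImplicit false
set_option linter.style.haveILetI false

open Subgroup

namespace Cfsg.Agent.CharTheory.RelMcKay.Action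

universe u

variable {G : Type u} [Group G]

/-- A cyclic `r`-group: one of two elements is a power of the other. -/
theorem mem_zpowers_or {A : Type*} [Group A] [IsCyclic A] [Finite A] {r e : ℕ} [Fact r.Prime]
    {a b : A} (ha : a ^ r ^ e = 1) (hb : b ^ r ^ e = 1) :
    a ∈ zpowers b ∨ b ∈ zpowers a := by
  obtain ⟨i, -, hi⟩ := (Nat.dvd_prime_pow Fact.out).1 (orderOf_dvd_of_pow_eq_one ha)
  obtain ⟨j, -, hj⟩ := (Nat.dvd_prime_pow Fact.out).1 (orderOf_dvd_of_pow_eq_one hb)
  have key : ∀ c d : A, orderOf c ∣ orderOf d → c ∈ zpowers d := by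
    intro c d h
    classical
    haveI := Fintype.ofFinite A
    letI : CommGroup A := IsCyclic.commGroup
    have h1 : zpowers d = (powMonoidHom (orderOf d) : A →* A).ker := by
      apply Subgroup.eq_of_le_of_card_ge
      · rw [zpowers_le, MonoidHom.mem_ker]
        exact pow_orderOf_eq_one d
      · rw [Nat.card_zpowers]
        refine le_trans (le_of_eq ?_) (IsCyclic.card_pow_eq_one_le (α := A) (orderOf_pos d))
        rw [Nat.card_eq_fintype_card, Fintype.card_subtype]
        congr 1
        ext z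
        simp [MonoidHom.mem_ker]
    rw [h1, MonoidHom.mem_ker]
    exact orderOf_dvd_iff_pow_eq_one.1 h
  rcases le_total i j with h | h
  · exact Or.inl (key a b (hi ▸ hj ▸ pow_dvd_pow r h))
  · exact Or.inr (key b a (hi ▸ hj ▸ pow_dvd_pow r h))

/-- The change of generators. -/
theorem closure_pair_eq (x y : G) (i : ℕ) :
    closure ({x, y * (x ^ i)⁻¹} : Set G) = closure ({x, y} : Set G) := by
  have hx : x ∈ closure ({x, y} : Set G) := subset_closure (Set.mem_insert x _)
  have hy : y ∈ closure ({x, y} : Set G) := subset_closure (Set.mem_insert_of_mem _ rfl)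
  have hx' : x ∈ closure ({x, y * (x ^ i)⁻¹} : Set G) := subset_closure (Set.mem_insert x _)
  have hy' : y * (x ^ i)⁻¹ ∈ closure ({x, y * (x ^ i)⁻¹} : Set G) :=
    subset_closure (Set.mem_insert_of_mem _ rfl)
  refine le_antisymm ((closure_le _).2 ?_) ((closure_le _).2 ?_)
  · rintro z (rfl | rfl)
    exacts [hx, mul_mem hy (inv_mem (pow_mem hx i))]
  · rintro z (rfl | rfl)
    · exact hx'
    · have := mul_mem hy' (pow_mem hx' i)
      simpa using this

variable [Finite G] {p r : ℕ} [hp : Fact p.Prime] [hr : Fact r.Prime]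

set_option maxHeartbeats 400000 in
theorem exists_step (hpr : p ≠ r) {S : Subgroup G} (hS : IsPGroup p S) (hS1 : S ≠ ⊥) {x y : G}
    (hx : x ∈ normalizer (S : Set G)) (hy : y ∈ normalizer (S : Set G))
    (hpo : ∀ g ∈ closure ({x, y} : Set G), ¬ p ∣ orderOf g) {e : ℕ}
    (hxe : x ^ r ^ e ∈ centralizer (S : Set G)) (hye : y ^ r ^ e ∈ centralizer (S : Set G))
    (hc : x * y * x⁻¹ * y⁻¹ ∈ centralizer (S : Set G)) :
    ∃ P₁ : Subgroup G, P₁ < S ∧ S ≤ normalizer (P₁ : Set G) ∧ x ∈ normalizer (P₁ : Set G) ∧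
      y ∈ normalizer (P₁ : Set G) ∧ ∃ x' y' : G, closure ({x', y'} : Set G) = closure {x, y} ∧
        S ≤ (S ⊓ centralizer ({y'} : Set G)) ⊔ P₁ := by
  classical
  have hss : ⁅S, S⁆ < S := by
    refine lt_of_le_of_ne (commutator_le_self S) fun h => ?_
    haveI : Nontrivial S := (Subgroup.nontrivial_iff_ne_bot S).2 hS1
    haveI := hS.isNilpotent
    haveI : Group.IsSolvable S := inferInstance
    refine (Group.IsSolvable.commutator_lt_top_of_nontrivial S).ne ?_
    apply Subgroup.map_injective S.subtype_injective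
    rw [Subgroup.map_subtype_commutator, h, ← MonoidHom.range_eq_map, Subgroup.range_subtype]
  have hconj : ∀ g ∈ normalizer (S : Set G), g ∈ normalizer ((⁅S, S⁆ : Subgroup G) : Set G) := fun g hg => by
    have hm : S.map (MulAut.conj g).toMonoidHom = S := Subgroup.mem_normalizer_iff_map_conj_eq.1 hg
    have h2 := Subgroup.map_commutator S S (MulAut.conj g).toMonoidHom
    rw [hm] at h2
    exact Subgroup.mem_normalizer_iff_map_conj_eq.2 h2
  obtain ⟨P₁, ⟨hcP, hPS, hxP, hyP⟩, hmax⟩ : ∃ P₁, Maximal (fun P : Subgroup G =>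
      ⁅S, S⁆ ≤ P ∧ P < S ∧ x ∈ normalizer (P : Set G) ∧ y ∈ normalizer (P : Set G)) P₁ :=
    (Set.toFinite _).exists_maximal ⟨⁅S, S⁆, le_rfl, hss, hconj x hx, hconj y hy⟩
  have hSP : S ≤ normalizer (P₁ : Set G) := le_normalizer_iff.mpr fun s hs q hq => by
    have h := mul_mem (hcP (commutator_mem_commutator hs (hPS.le hq))) hq
    simpa [commutatorElement_def, mul_assoc] using h
  refine ⟨P₁, hPS, hSP, hxP, hyP, ?_⟩
  -- the abelian quotient
  haveI : (P₁.subgroupOf S).Normal := normal_subgroupOf_of_le_normalizer hSP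
  set V := S ⧸ P₁.subgroupOf S
  letI : CommGroup V :=
    { (inferInstance : Group V) with
      mul_comm := fun a b => by
        induction a using QuotientGroup.induction_on with | _ a => ?_
        induction b using QuotientGroup.induction_on with | _ b => ?_
        rw [← QuotientGroup.mk_mul, ← QuotientGroup.mk_mul, QuotientGroup.eq, mem_subgroupOf]
        have h := hcP (commutator_mem_commutator (S.inv_mem b.2) (S.inv_mem a.2))
        simpa [commutatorElement_def, mul_assoc] using h }
  set N₀ : Subgroup G := normalizer (S : Set G) ⊓ normalizer (P₁ : Set G)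
  let cS : N₀ → (S ≃* S) := fun g =>
    { toFun := fun s => ⟨g * s * (g : G)⁻¹, (mem_normalizer_iff.1 g.2.1 s).1 s.2⟩
      invFun := fun s => ⟨(g : G)⁻¹ * s * g, by
        simpa using (mem_normalizer_iff.1 (inv_mem g.2.1) (s : G)).1 s.2⟩
      left_inv := fun s => Subtype.ext (by simp [mul_assoc])
      right_inv := fun s => Subtype.ext (by simp [mul_assoc])
      map_mul' := fun a b => Subtype.ext (by simp [mul_assoc]) }
  have hmapP : ∀ g : N₀, (P₁.subgroupOf S).map (cS g).toMonoidHom = P₁.subgroupOf S := fun g => by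
    ext s
    rw [Subgroup.mem_map]
    constructor
    · rintro ⟨t, ht, rfl⟩
      exact (mem_normalizer_iff.1 g.2.2 _).1 ht
    · intro hs
      refine ⟨(cS g).symm s, ?_, (cS g).apply_symm_apply s⟩
      rw [mem_subgroupOf] at hs ⊢
      have := (mem_normalizer_iff.1 (inv_mem g.2.2) (s : G)).1 hs
      rw [inv_inv] at this
      exact this
  let ψ : N₀ →* (V ≃* V) :=
    { toFun := fun g => QuotientGroup.congr _ _ (cS g) (hmapP g)
      map_one' := MulEquiv.ext fun v => by
        induction v using QuotientGroup.induction_on with | _ s => ?_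
        exact congrArg (QuotientGroup.mk) (Subtype.ext (by simp [cS]) : cS 1 s = s)
      map_mul' := fun a b => MulEquiv.ext fun v => by
        induction v using QuotientGroup.induction_on with | _ s => ?_
        exact congrArg (QuotientGroup.mk) (Subtype.ext (by simp [cS, mul_assoc]) :
          cS (a * b) s = cS a (cS b s)) }
  have hψ : ∀ (g : N₀) (s : S), ψ g (s : V) = (((cS g) s : S) : V) := fun g s => rfl
  have hψc : ∀ g : N₀, (g : G) ∈ centralizer (S : Set G) → ψ g = 1 := fun g hg =>
    MulEquiv.ext fun v => by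
      induction v using QuotientGroup.induction_on with | _ s => ?_
      rw [hψ]
      refine congrArg QuotientGroup.mk (Subtype.ext ?_)
      show (g : G) * s * (g : G)⁻¹ = s
      rw [← mem_centralizer_iff.1 hg s s.2, mul_inv_cancel_right]
  set xN : N₀ := ⟨x, hx, hxP⟩
  set yN : N₀ := ⟨y, hy, hyP⟩
  set a := ψ xN
  set b := ψ yN
  have hab : Commute a b := by
    have h := hψc (xN * yN * xN⁻¹ * yN⁻¹) hc
    rw [map_mul, map_mul, map_mul, map_inv, map_inv, mul_inv_eq_one, mul_inv_eq_iff_eq_mul] at h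
    exact h
  have hae : a ^ r ^ e = 1 := by rw [← map_pow]; exact hψc (xN ^ r ^ e) hxe
  have hbe : b ^ r ^ e = 1 := by rw [← map_pow]; exact hψc (yN ^ r ^ e) hye
  haveI : Finite (V ≃* V) :=
    Finite.of_injective (fun f : V ≃* V => (f : V → V)) DFunLike.coe_injective
  set A : Subgroup (V ≃* V) := closure {a, b}
  letI : CommGroup A :=
    letI := Subgroup.isMulCommutative_closure (k := ({a, b} : Set (V ≃* V))) (by
      rintro c (rfl | rfl) d (rfl | rfl)
      exacts [rfl, hab, hab.symm, rfl])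
    { (inferInstance : Group A) with mul_comm := fun c d => mul_comm' c d }
  have hAr : ∀ g ∈ A, g ^ r ^ e = 1 := by
    intro g hg
    have h1 : ∀ c : A, c ^ r ^ e = 1 → (c : V ≃* V) ^ r ^ e = 1 := fun c h =>
      congrArg Subtype.val h
    have h2 : closure ({a, b} : Set (V ≃* V)) ≤ ((powMonoidHom (r ^ e) : A →* A).ker.map A.subtype) := by
      rw [closure_le]
      rintro c (rfl | rfl)
      · exact ⟨⟨a, subset_closure (Set.mem_insert _ _)⟩, Subtype.ext hae, rfl⟩
      · exact ⟨⟨b, subset_closure (Set.mem_insert_of_mem _ rfl)⟩, Subtype.ext hbe, rfl⟩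
    obtain ⟨c, hc', rfl⟩ := h2 hg
    exact h1 c hc'
  have hV : ∀ v : V, ∃ k, orderOf v = p ^ k := fun v => by
    obtain ⟨k, hk⟩ := (hS.to_quotient (P₁.subgroupOf S)) v
    obtain ⟨j, -, hj⟩ := (Nat.dvd_prime_pow hp.out).1 (orderOf_dvd_of_pow_eq_one hk)
    exact ⟨j, hj⟩
  have hcyc : IsCyclic A := by
    by_contra hn
    obtain ⟨q, hq, u, w, hu1, huq, hwq, hwu⟩ :=
      Cfsg.Agent.Coprime.exists_two_independent_of_not_isCyclic A hn
    have hqr : q = r := by
      have h : (u : V ≃* V) ^ r ^ e = 1 := hAr u u.2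
      have h' : u ^ r ^ e = 1 := Subtype.ext h
      have hd := orderOf_dvd_of_pow_eq_one h'
      rw [orderOf_eq_prime (hp := ⟨hq⟩) huq hu1] at hd
      exact (Nat.prime_dvd_prime_iff_eq hq hr.out).1 (hq.dvd_of_dvd_pow hd)
    -- fixed points of a nontrivial element are trivial
    have hfix : ∀ (c : A) (v : V), c ≠ 1 → (c : V ≃* V) v = v → v ∈ (⊥ : Subgroup V) := by
      intro c v hc1 hv
      let W : Subgroup V :=
        { carrier := {v | (c : V ≃* V) v = v}
          one_mem' := map_one _
          mul_mem' := fun {s t} hs ht => by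
            show (c : V ≃* V) (s * t) = s * t
            rw [map_mul, hs, ht]
          inv_mem' := fun {s} hs => by
            show (c : V ≃* V) s⁻¹ = s⁻¹
            rw [map_inv, hs] }
      set P₂ : Subgroup G := (W.comap (QuotientGroup.mk' (P₁.subgroupOf S))).map S.subtype
      have hP12 : P₁ ≤ P₂ := fun q hq' => by
        refine ⟨⟨q, hPS.le hq'⟩, ?_, rfl⟩
        show (c : V ≃* V) _ = _
        rw [show (QuotientGroup.mk' (P₁.subgroupOf S)) ⟨q, hPS.le hq'⟩ = 1 from
          (QuotientGroup.eq_one_iff _).2 hq', map_one]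
      have hP2S : P₂ ≤ S := map_subtype_le _
      have hinv : ∀ g : N₀, ψ g ∈ A → (g : G) ∈ normalizer (P₂ : Set G) := by
        intro g hgA
        rw [Subgroup.mem_normalizer_iff_map_conj_eq]
        apply Subgroup.eq_of_le_of_card_ge
        · rintro _ ⟨_, ⟨s, hs, rfl⟩, rfl⟩
          refine ⟨cS g s, ?_, rfl⟩
          have hcomm : ψ g * (c : V ≃* V) = (c : V ≃* V) * ψ g :=
            congrArg Subtype.val (mul_comm (⟨ψ g, hgA⟩ : A) c)
          show (c : V ≃* V) ((cS g s : S) : V) = ((cS g s : S) : V)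
          rw [← hψ]
          exact (DFunLike.congr_fun hcomm.symm (s : V)).trans (congrArg (ψ g) hs)
        · exact le_of_eq (Subgroup.card_map_of_injective (K := P₂) (MulAut.conj (g : G)).injective).symm
      by_contra hv1
      have hP2 : P₂ = S := by
        by_contra hne
        have hle := hmax ⟨hcP.trans hP12, lt_of_le_of_ne hP2S hne,
          hinv xN (subset_closure (Set.mem_insert _ _)),
          hinv yN (subset_closure (Set.mem_insert_of_mem _ rfl))⟩ hP12
        apply hv1
        induction v using QuotientGroup.induction_on with | _ s => ?_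
        rw [Subgroup.mem_bot, QuotientGroup.eq_one_iff, mem_subgroupOf]
        exact hle ⟨s, hv, rfl⟩
      apply hc1
      refine Subtype.ext (MulEquiv.ext fun w => ?_)
      induction w using QuotientGroup.induction_on with | _ s => ?_
      obtain ⟨t, ht, hts⟩ := hP2.symm.le s.2
      obtain rfl : t = s := Subtype.ext hts
      exact ht
    obtain ⟨s, hsS, hsP⟩ := SetLike.exists_of_lt hPS
    have hv := Cfsg.Agent.Coprime.pow_mem_of_fixed_mem (A.subtype) (⊥ : Subgroup V) hq
      (x := w) (y := u) (Commute.all w u) huq hwq hu1 (fun j hj => hwu (by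
        rw [eq_inv_of_mul_eq_one_left hj]
        exact inv_mem (pow_mem (mem_zpowers u) j))) hfix (QuotientGroup.mk ⟨s, hsS⟩)
    rw [Subgroup.mem_bot] at hv
    obtain ⟨k, hk⟩ := hV (QuotientGroup.mk ⟨s, hsS⟩)
    have hd := orderOf_dvd_of_pow_eq_one hv
    rw [hk, hqr] at hd
    rcases Nat.eq_zero_or_pos k with rfl | hk0
    · rw [pow_zero, orderOf_eq_one_iff, QuotientGroup.eq_one_iff] at hk
      exact hsP hk
    · exact hpr ((Nat.prime_dvd_prime_iff_eq hp.out hr.out).1 ((dvd_pow_self p hk0.ne').trans hd))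
  -- a generator among the images
  have hpow : ∀ {c d : V ≃* V} (hc : c ∈ A) (hd : d ∈ A),
      (⟨c, hc⟩ : A) ∈ zpowers (⟨d, hd⟩ : A) → ∃ i : ℕ, d ^ i = c := by
    intro c d hcA hdA h
    obtain ⟨i, hi⟩ := (mem_zpowers_iff_mem_range_orderOf.1 h |> Finset.mem_image.1)
    exact ⟨i, congrArg Subtype.val hi.2⟩
  have hfin : ∀ (g : N₀), ψ g = 1 → ¬ p ∣ orderOf (g : G) →
      S ≤ (S ⊓ centralizer ({(g : G)} : Set G)) ⊔ P₁ := by
    intro g hg hgo s hs
    have hcop : (Nat.card (zpowers (g : G))).Coprime (Nat.card S) := by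
      obtain ⟨k, hk⟩ := hS.exists_card_eq
      rw [Nat.card_zpowers, hk]
      exact Nat.Coprime.pow_right k ((Nat.Prime.coprime_iff_not_dvd hp.out).2 hgo).symm
    obtain ⟨c, hcm, hsc⟩ := Cfsg.Agent.Coprime.exists_fixed_mod (A := zpowers (g : G)) hcop
      (Or.inl (Cfsg.Agent.Coprime.isSolvable_of_isMulCommutative _)) hPS.le hSP
      (zpowers_le_of_mem g.2.2) hs (fun z hz => by
        obtain ⟨i, rfl⟩ := mem_zpowers_iff.1 hz
        have h1 : ψ (g ^ i) = 1 := by rw [map_zpow, hg, one_zpow]
        have h2 := DFunLike.congr_fun h1 ((⟨s, hs⟩ : S) : V)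
        rw [hψ, MulAut.one_apply, QuotientGroup.eq, mem_subgroupOf] at h2
        have h3 := inv_mem h2
        have h4 := (mem_normalizer_iff.1 (hSP hs) _).1 h3
        simpa [cS, mul_assoc] using h4)
    have hcS : c ∈ S ⊓ centralizer ({(g : G)} : Set G) := ⟨hcm.1, by
      exact mem_centralizer_singleton_iff.2 (mem_centralizer_iff.1 hcm.2 g (mem_zpowers _)).symm⟩
    have := mul_mem_sup hcS (inv_mem hsc)
    simpa using this
  -- choose the generators
  have hord : ∀ {u w : N₀} (i : ℕ), ψ w = ψ u ^ i → ψ (w * (u ^ i)⁻¹) = 1 := fun {u w} i h => by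
    rw [map_mul, map_inv, map_pow, h, mul_inv_cancel]
  have hpg : ∀ (g : N₀), (g : G) ∈ closure ({x, y} : Set G) → ¬ p ∣ orderOf (g : G) :=
    fun g hg => hpo g hg
  haveI := hcyc
  have hxC : x ∈ closure ({x, y} : Set G) := subset_closure (Set.mem_insert x _)
  have hyC : y ∈ closure ({x, y} : Set G) := subset_closure (Set.mem_insert_of_mem _ rfl)
  have hcl : ∀ u w : G, u ∈ closure ({x, y} : Set G) → w ∈ closure ({x, y} : Set G) → ∀ i : ℕ,
      u * (w ^ i)⁻¹ ∈ closure ({x, y} : Set G) := fun u w hu hw i =>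
    (closure ({x, y} : Set G)).mul_mem hu ((closure ({x, y} : Set G)).inv_mem
      ((closure ({x, y} : Set G)).pow_mem hw i))
  have haA : a ∈ A := subset_closure (Set.mem_insert _ _)
  have hbA : b ∈ A := subset_closure (Set.mem_insert_of_mem _ rfl)
  rcases mem_zpowers_or (A := A) (r := r) (e := e) (a := (⟨a, haA⟩ : A)) (b := ⟨b, hbA⟩) (Subtype.ext hae)
    (Subtype.ext hbe) with h | h
  · obtain ⟨i, hi⟩ := hpow haA hbA h
    refine ⟨y, x * (y ^ i)⁻¹, by rw [closure_pair_eq, Set.pair_comm], ?_⟩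
    have h1 : ψ (xN * (yN ^ i)⁻¹) = 1 := hord (u := yN) (w := xN) i hi.symm
    have h2 : ((xN * (yN ^ i)⁻¹ : N₀) : G) = x * (y ^ i)⁻¹ := rfl
    rw [← h2]
    refine hfin _ h1 (hpg _ ?_)
    rw [h2]
    exact hcl _ _ hxC hyC i
  · obtain ⟨i, hi⟩ := hpow hbA haA h
    refine ⟨x, y * (x ^ i)⁻¹, closure_pair_eq x y i, ?_⟩
    have h1 : ψ (yN * (xN ^ i)⁻¹) = 1 := hord (u := xN) (w := yN) i hi.symm
    have h2 : ((yN * (xN ^ i)⁻¹ : N₀) : G) = y * (x ^ i)⁻¹ := rfl
    rw [← h2]
    refine hfin _ h1 (hpg _ ?_)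
    rw [h2]
    exact hcl _ _ hyC hxC i

end Cfsg.Agent.CharTheory.RelMcKay.Action
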