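import Mathlib
import Cfsg.Agent.S4444
import Cfsg.Agent.Lib.CharTheory.RelMcKay.Pair
import Cfsg.Agent.Lib.CharTheory.RelMcKay.Action

/-!
# Extendibility is preserved by the Glauberman correspondence

`Corr p C θ φ` says that the multiplicity of `φ` in `θ` on `C` is prime to `p`.  If `φ` corresponds
to `θ` under the action of the `p`-group `S` on the `p'`-group `K`, then `θ` and `φ` extend to the
same pairs of commuting `r`-elements normalising `S`.
-/

set_option autoImplicit false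
set_option linter.style.haveILetI false
set_option linter.unusedSectionVars false

open Subgroup
open scoped ComplexConjugate

namespace Cfsg.Agent.CharTheory.RelMcKay

open Cfsg.Agent.Characters Cfsg.Agent.CharTheory

universe u

variable {G : Type u} [Group G] [Finite G] {p : ℕ} [hp : Fact p.Prime]

/-- The multiplicity is a natural number prime to `p`. -/
def Corr (p : ℕ) (C : Subgroup G) (θ φ : G → ℂ) : Prop :=
  ∃ m : ℕ, mult C θ φ = (m : ℂ) ∧ ¬ p ∣ m

theorem mult_nat {C : Subgroup G} {f g : G → ℂ} (hf : Chr C f) (hg : Chr C g) :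
    ∃ m : ℕ, mult C f g = (m : ℂ) := by
  haveI := Fintype.ofFinite C
  obtain ⟨m, hm⟩ := classInner_char_nat hf hg
  exact ⟨m, by rw [mult_eq]; exact hm⟩

theorem Corr.congr {C : Subgroup G} {θ θ' φ φ' : G → ℂ} (h : Corr p C θ φ)
    (h1 : ∀ c ∈ C, θ' c = θ c) (h2 : ∀ c ∈ C, φ' c = φ c) : Corr p C θ' φ' := by
  obtain ⟨m, hm, hmp⟩ := h
  exact ⟨m, (mult_congr h1 h2).trans hm, hmp⟩

theorem Corr.cj {C : Subgroup G} {θ φ : G → ℂ} (h : Corr p C θ φ) {x : G}
    (hx : x ∈ normalizer (C : Set G)) : Corr p C (RelMcKay.cj x θ) (RelMcKay.cj x φ) := by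
  obtain ⟨m, hm, hmp⟩ := h
  exact ⟨m, (mult_cj hx θ φ).trans hm, hmp⟩

/-- Multiplicity through an intermediate subgroup in which one constituent has multiplicity prime
to `p`. -/
theorem mult_trans {C D : Subgroup G} (hCD : C ≤ D) {f ξ φ : G → ℂ} (hf : Chr D f) (hξ : Irr D ξ)
    (hφ : Chr C φ) {a : ℕ} (ha : mult D f ξ = (a : ℂ))
    (hoth : ∀ ξ', Irr D ξ' → (∃ d ∈ D, ξ' d ≠ ξ d) → ∀ m : ℕ, mult D f ξ' = (m : ℂ) → p ∣ m)
    {b m : ℕ} (hb : mult C ξ φ = (b : ℂ)) (hm : mult C f φ = (m : ℂ)) :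
    m ≡ a * b [MOD p] := by
  classical
  haveI := Fintype.ofFinite C
  haveI := Fintype.ofFinite D
  haveI := Fintype.ofFinite (Cfsg.IrrCharacter D)
  choose c hc using fun ψ : Cfsg.IrrCharacter D => classInner_char_nat hf (irr_isCharacter ψ)
  have hψC : ∀ ψ : Cfsg.IrrCharacter D, Chr C (ext0 D (ψ : D → ℂ)) := fun ψ =>
    Chr.mono (B := D) (show Cfsg.IsCharacter D _ by rw [res_ext0]; exact irr_isCharacter ψ) hCD
  choose d hd using fun ψ : Cfsg.IrrCharacter D => mult_nat (hψC ψ) hφ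
  have hexp : res C f = ∑ ψ : Cfsg.IrrCharacter D, (c ψ : ℂ) • res C (ext0 D (ψ : D → ℂ)) := by
    funext x
    have h := congrFun (classFun_eq_sum (char_isClassFunction hf)) ⟨x, hCD x.2⟩
    simp only [Finset.sum_apply, Pi.smul_apply, smul_eq_mul, hc] at h
    simp only [Finset.sum_apply, Pi.smul_apply, smul_eq_mul, res, ext0_apply D _ (hCD x.2)]
    exact h
  have hsum : m = ∑ ψ : Cfsg.IrrCharacter D, c ψ * d ψ := by
    have : (m : ℂ) = ((∑ ψ : Cfsg.IrrCharacter D, c ψ * d ψ : ℕ) : ℂ) := by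
      rw [← hm, mult_eq, hexp, classInner_sum_left]
      push_cast
      refine Finset.sum_congr rfl fun ψ _ => ?_
      rw [classInner_smul_left, ← mult_eq, hd]
    exact_mod_cast this
  let ξ₀ : Cfsg.IrrCharacter D := ⟨res D ξ, hξ⟩
  have he : ∀ x ∈ D, ext0 D (ξ₀ : D → ℂ) x = ξ x := fun x hx => ext0_apply D _ hx
  have hc0 : c ξ₀ = a := by
    have h : (c ξ₀ : ℂ) = (a : ℂ) := by rw [← hc, ← ha, mult_eq]
    exact_mod_cast h
  have hd0 : d ξ₀ = b := by
    have h : (d ξ₀ : ℂ) = (b : ℂ) := by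
      rw [← hd, ← hb]
      exact mult_congr (fun x hx => he x (hCD hx)) fun _ _ => rfl
    exact_mod_cast h
  rw [hsum, Finset.sum_eq_add_sum_sdiff_singleton_of_mem (Finset.mem_univ ξ₀), hc0, hd0]
  conv_rhs => rw [← add_zero (a * b)]
  refine Nat.ModEq.add_left _ (Nat.modEq_zero_iff_dvd.2 (Finset.dvd_sum fun ψ hψ => ?_))
  have hψne : ψ ≠ ξ₀ := by
    simp only [Finset.mem_sdiff, Finset.mem_singleton] at hψ
    exact hψ.2
  refine Dvd.dvd.mul_right (hoth (ext0 D (ψ : D → ℂ)) (by rw [Irr, res_ext0]; exact ψ.2) ?_ (c ψ)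
    ((mult_eq D _ _).trans (by rw [res_ext0]; exact hc ψ))) _
  by_contra hcon
  push Not at hcon
  refine hψne (Subtype.ext (funext fun x => ?_))
  have := hcon x x.2
  rwa [ext0_apply D _ x.2] at this

variable {K S : Subgroup G}

/-- The Glauberman correspondence in multiplicity form. -/
theorem glauberman (hSK : S ≤ normalizer (K : Set G)) (hK : ¬ p ∣ Nat.card K) (hS : IsPGroup p S) :
    (∀ θ, Irr K θ → (∀ s ∈ S, Inv K θ s) →
      ∃ φ, Irr (K ⊓ centralizer (S : Set G)) φ ∧ Corr p (K ⊓ centralizer (S : Set G)) θ φ) ∧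
    (∀ θ φ φ', Irr K θ → (∀ s ∈ S, Inv K θ s) → Irr (K ⊓ centralizer (S : Set G)) φ →
      Irr (K ⊓ centralizer (S : Set G)) φ' → Corr p (K ⊓ centralizer (S : Set G)) θ φ →
      Corr p (K ⊓ centralizer (S : Set G)) θ φ' →
      ∀ c ∈ K ⊓ centralizer (S : Set G), φ c = φ' c) ∧
    (∀ θ θ' φ, Irr K θ → (∀ s ∈ S, Inv K θ s) → Irr K θ' → (∀ s ∈ S, Inv K θ' s) →
      Irr (K ⊓ centralizer (S : Set G)) φ → Corr p (K ⊓ centralizer (S : Set G)) θ φ →
      Corr p (K ⊓ centralizer (S : Set G)) θ' φ → ∀ k ∈ K, θ k = θ' k) ∧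
    (∀ φ, Irr (K ⊓ centralizer (S : Set G)) φ →
      ∃ θ, Irr K θ ∧ (∀ s ∈ S, Inv K θ s) ∧ Corr p (K ⊓ centralizer (S : Set G)) θ φ) := by
  classical
  set C := K ⊓ centralizer (S : Set G)
  haveI := Fintype.ofFinite G
  haveI := Fintype.ofFinite K
  haveI := Fintype.ofFinite C
  have hcop : (Nat.card K).Coprime (Nat.card S) := by
    obtain ⟨k, hk⟩ := hS.exists_card_eq
    rw [hk]
    exact Nat.Coprime.pow_right k ((Nat.Prime.coprime_iff_not_dvd hp.out).2 hK).symm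
  obtain ⟨huniq, -, hinj, hsurj⟩ := S4444.result K S (fun s hs g hg => conj_mem (hSK hs) hg) hcop p
    hp.out hS C rfl inf_le_left
  have hI : ∀ {θ : G → ℂ}, (∀ s ∈ S, Inv K θ s) →
      ∀ s ∈ S, ∀ g g' : K, (g' : G) = s * g * s⁻¹ → res K θ g' = res K θ g := fun {θ} h s hs g g' e => by
    show θ g' = θ g
    rw [e]; exact h s hs g g.2
  have hM : ∀ (θ : G → ℂ) (φ : G → ℂ),
      Cfsg.classInner (fun c : C => res K θ ⟨c, (inf_le_left : C ≤ K) c.2⟩) (res C φ) =
        mult C θ φ := fun θ φ => (mult_eq C θ φ).symm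
  have hM0 : ∀ (θ : G → ℂ) (β : Cfsg.IrrCharacter C),
      Cfsg.classInner (fun c : C => res K θ ⟨c, (inf_le_left : C ≤ K) c.2⟩) (β : C → ℂ) =
        mult C θ (ext0 C (β : C → ℂ)) := fun θ β => by rw [← hM, res_ext0]
  refine ⟨fun θ hθ hi => ?_, fun θ φ φ' hθ hi hφ hφ' h h' => ?_,
    fun θ θ' φ hθ hi hθ' hi' hφ h h' => ?_, fun φ hφ => ?_⟩
  · obtain ⟨β, ⟨m, hm, hmp⟩, -⟩ := huniq ⟨_, hθ⟩ (hI hi)
    exact ⟨ext0 C (β : C → ℂ), by rw [Irr, res_ext0]; exact β.2, m, (hM0 θ β).symm.trans hm, hmp⟩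
  · obtain ⟨β, -, hu⟩ := huniq ⟨_, hθ⟩ (hI hi)
    obtain ⟨m, hm, hmp⟩ := h
    obtain ⟨m', hm', hmp'⟩ := h'
    have e1 := hu ⟨_, hφ⟩ ⟨m, (hM θ φ).trans hm, hmp⟩
    have e2 := hu ⟨_, hφ'⟩ ⟨m', (hM θ φ').trans hm', hmp'⟩
    exact res_eq_iff.1 (congrArg Subtype.val (e1.trans e2.symm))
  · obtain ⟨m, hm, hmp⟩ := h
    obtain ⟨m', hm', hmp'⟩ := h'
    have e := hinj ⟨_, hθ⟩ ⟨_, hθ'⟩ (hI hi) (hI hi') ⟨_, hφ⟩ m m' ((hM θ φ).trans hm) hmp
      ((hM θ' φ).trans hm') hmp'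
    exact res_eq_iff.1 (congrArg Subtype.val e)
  · obtain ⟨χ, hχ, m, hm, hmp⟩ := hsurj ⟨_, hφ⟩
    refine ⟨ext0 K (χ : K → ℂ), by rw [Irr, res_ext0]; exact χ.2, fun s hs k hk => ?_, m, ?_, hmp⟩
    · rw [ext0_apply K _ (conj_mem (hSK hs) hk), ext0_apply K _ hk]
      exact hχ s hs ⟨k, hk⟩ ⟨_, conj_mem (hSK hs) hk⟩ rfl
    · rw [← hm, ← hM, res_ext0]

theorem centralizer_normalizes {x : G} (hxK : x ∈ normalizer (K : Set G))
    (hxS : x ∈ normalizer (S : Set G)) :
    x ∈ normalizer ((K ⊓ centralizer (S : Set G) : Subgroup G) : Set G) := by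
  have hc : x ∈ normalizer ((centralizer (S : Set G) : Subgroup G) : Set G) := by
    rw [mem_normalizer_iff]
    intro h
    simp only [mem_centralizer_iff, SetLike.mem_coe]
    constructor
    · intro hh s hs
      have h1 := hh _ (conj_mem (inv_mem hxS) hs)
      rw [inv_inv] at h1
      calc s * (x * h * x⁻¹) = x * (x⁻¹ * s * x * h) * x⁻¹ := by group
        _ = x * (h * (x⁻¹ * s * x)) * x⁻¹ := by rw [h1]
        _ = x * h * x⁻¹ * s := by group
    · intro hh s hs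
      have h1 := hh _ (conj_mem hxS hs)
      calc s * h = x⁻¹ * ((x * s * x⁻¹) * (x * h * x⁻¹)) * x := by group
        _ = x⁻¹ * ((x * h * x⁻¹) * (x * s * x⁻¹)) * x := by rw [h1]
        _ = h * s := by group
  exact inf_normalizer_le_normalizer_inf ⟨hxK, hc⟩

/-- The correspondent of an invariant character is invariant. -/
theorem Corr.inv (hSK : S ≤ normalizer (K : Set G)) (hK : ¬ p ∣ Nat.card K) (hS : IsPGroup p S)
    {θ φ : G → ℂ} (hθ : Irr K θ) (hθS : ∀ s ∈ S, Inv K θ s)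
    (hφ : Irr (K ⊓ centralizer (S : Set G)) φ) (h : Corr p (K ⊓ centralizer (S : Set G)) θ φ)
    {x : G} (hxK : x ∈ normalizer (K : Set G)) (hxS : x ∈ normalizer (S : Set G))
    (hxi : Inv K θ x) : Inv (K ⊓ centralizer (S : Set G)) φ x := by
  have hxC := centralizer_normalizes hxK hxS
  exact (glauberman hSK hK hS).2.1 θ (RelMcKay.cj x φ) φ hθ hθS (cj_irr hxC hφ) hφ
    ((h.cj hxC).congr (fun c hc => (hxi c hc.1).symm) fun _ _ => rfl) h

theorem card_one_dvd {L : Subgroup G} (y : G) (hy : y ∈ normalizer (L : Set G)) {n : ℕ}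
    (hyn : y ^ n ∈ L) : Nat.card (one L y) ∣ Nat.card L * n := by
  haveI : (L.subgroupOf (one L y)).Normal :=
    normal_subgroupOf_of_le_normalizer (one_le_normalizer hy)
  set q := QuotientGroup.mk' (L.subgroupOf (one L y))
  have htop : ∀ z : one L y ⧸ L.subgroupOf (one L y), z ∈ zpowers (q ⟨y, mem_one L y⟩) := by
    intro z
    induction z using QuotientGroup.induction_on with | _ g => ?_
    obtain ⟨k, hk, i, hi⟩ := (mem_one_iff hy).1 g.2
    refine mem_zpowers_iff.2 ⟨i, ?_⟩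
    rw [show g = (⟨k, le_one L y hk⟩ : one L y) * ⟨y, mem_one L y⟩ ^ i from
      Subtype.ext (by simp [hi]), ← map_zpow]
    show _ = q _
    rw [map_mul q, show q ⟨k, le_one L y hk⟩ = 1 from (QuotientGroup.eq_one_iff _).2 hk, one_mul]
  rw [Subgroup.card_eq_card_quotient_mul_card_subgroup (L.subgroupOf (one L y)),
    Nat.card_congr (Subgroup.subgroupOfEquivOfLe (le_one L y)).toEquiv, mul_comm (Nat.card L) n]
  refine mul_dvd_mul_right ?_ _
  rw [← orderOf_eq_card_of_forall_mem_zpowers htop]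
  refine orderOf_dvd_of_pow_eq_one ?_
  rw [← map_pow]
  exact (QuotientGroup.eq_one_iff _).2 hyn

variable {r : ℕ} [hr : Fact r.Prime]

/-- One step: a group `L` on which `S₀` acts, commuting with `y`. -/
theorem ext_iff_step (hpr : p ≠ r) {L S₀ : Subgroup G} (hL : ¬ p ∣ Nat.card L)
    (hS : IsPGroup p S₀) (hSL : S₀ ≤ normalizer (L : Set G)) {x y : G}
    (hxL : x ∈ normalizer (L : Set G)) (hyL : y ∈ normalizer (L : Set G))
    (hxS : x ∈ normalizer (S₀ : Set G)) (hyS : y ∈ centralizer (S₀ : Set G))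
    {e : ℕ} (hye : y ^ r ^ e ∈ L ⊓ centralizer (S₀ : Set G))
    (hc : x * y * x⁻¹ * y⁻¹ ∈ L ⊓ centralizer (S₀ : Set G))
    {θ φ : G → ℂ} (hθ : Irr L θ) (hθS : ∀ s ∈ S₀, Inv L θ s) (hxi : Inv L θ x) (hyi : Inv L θ y)
    (hφ : Irr (L ⊓ centralizer (S₀ : Set G)) φ) (h : Corr p (L ⊓ centralizer (S₀ : Set G)) θ φ) :
    Ext L θ x y ↔ Ext (L ⊓ centralizer (S₀ : Set G)) φ x y := by
  classical
  set C := L ⊓ centralizer (S₀ : Set G) with hC
  have hyS' : y ∈ normalizer (S₀ : Set G) := centralizer_le_normalizer _ hyS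
  have hxC : x ∈ normalizer (C : Set G) := centralizer_normalizes hxL hxS
  have hyC : y ∈ normalizer (C : Set G) := centralizer_normalizes hyL hyS'
  have hxiC := h.inv hSL hL hS hθ hθS hφ hxL hxS hxi
  have hyiC := h.inv hSL hL hS hθ hθS hφ hyL hyS' hyi
  obtain ⟨η, hη, hηL⟩ := exists_ext_one hθ hyL hyi
  set K' := one L y
  set D := one C y
  have hK' : ¬ p ∣ Nat.card K' := fun hd => by
    rcases hp.out.dvd_mul.1 (hd.trans (card_one_dvd y hyL hye.1)) with h1 | h1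
    · exact hL h1
    · exact hpr ((Nat.prime_dvd_prime_iff_eq hp.out hr.out).1 (hp.out.dvd_of_dvd_pow h1))
  have hsy : ∀ s ∈ S₀, s * y * s⁻¹ = y := fun s hs => by
    rw [mem_centralizer_iff.1 hyS s hs, mul_inv_cancel_right]
  have hcs : ∀ s ∈ S₀, s * y * s⁻¹ * y⁻¹ ∈ L := fun s hs => by
    rw [hsy s hs, mul_inv_cancel]; exact L.one_mem
  have hSK' : S₀ ≤ normalizer (K' : Set G) := fun s hs =>
    normalizes_one (hSL hs) hyL (hcs s hs)
  have hD : K' ⊓ centralizer (S₀ : Set G) = D := by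
    refine le_antisymm (fun g hg => ?_) (one_le (fun c hc => ⟨le_one L y hc.1, hc.2⟩)
      ⟨mem_one L y, hyS⟩)
    obtain ⟨k, hk, i, rfl⟩ := (mem_one_iff hyL).1 hg.1
    refine (mem_one_iff hyC).2 ⟨k, ⟨hk, ?_⟩, i, rfl⟩
    have := (centralizer (S₀ : Set G)).mul_mem hg.2
      ((centralizer (S₀ : Set G)).inv_mem ((centralizer (S₀ : Set G)).zpow_mem hyS i))
    rwa [mul_inv_cancel_right] at this
  have hηS : ∀ s ∈ S₀, Inv K' η s := by
    intro s hs
    have hs' := hSK' hs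
    obtain ⟨lam, h1, he⟩ := exists_linear (le_one L y) (one_le_normalizer hyL) hθ hη hηL
      (cj_irr hs' hη) fun k hk => by
        show η (s * k * s⁻¹) = θ k
        rw [hηL _ (conj_mem (hSL hs) hk), hθS s hs k hk]
    have hpow : ∀ (m : ℕ) (g : K'), η (s ^ m * g * (s ^ m)⁻¹) = (lam g : ℂ) ^ m * η g := by
      intro m
      induction m with
      | zero => intro g; simp
      | succ m ih =>
        intro g
        have e : (lam ⟨s * g * s⁻¹, conj_mem hs' g.2⟩ : ℂ) = (lam g : ℂ) :=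
          congrArg Units.val (linear_conj (hSL hs) hyL (hcs s hs) lam h1 g.2 _)
        have h2 := ih ⟨s * g * s⁻¹, conj_mem hs' g.2⟩
        rw [e, show η (s * g * s⁻¹) = (lam g : ℂ) * η g from he g] at h2
        rw [pow_succ s, show s ^ m * s * g * (s ^ m * s)⁻¹ = s ^ m * (s * g * s⁻¹) * (s ^ m)⁻¹ by
          group, h2, pow_succ]
        ring
    intro g hg
    have hl : lam ⟨g, hg⟩ = 1 := by
      have hcard : lam ⟨g, hg⟩ ^ Nat.card S₀ = 1 := by
        refine linear_eq_one (le_one L y) (one_le_normalizer hyL) hη (hθ.congr hηL)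
          (lam ^ Nat.card S₀) (fun k hk => ?_) (fun b => ?_) ⟨g, hg⟩
        · rw [MonoidHom.pow_apply, h1 k hk, one_pow]
        · rw [MonoidHom.pow_apply, Units.val_pow_eq_pow_val, ← hpow]
          rw [show s ^ Nat.card S₀ = 1 from congrArg Subtype.val (pow_card_eq_one' (x := (⟨s, hs⟩ : S₀)))]
          simp
      have hcard' : lam ⟨g, hg⟩ ^ Nat.card K' = 1 := by
        rw [← map_pow, pow_card_eq_one', map_one]
      rw [← orderOf_eq_one_iff]
      obtain ⟨k, hk⟩ := hS.exists_card_eq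
      rw [hk] at hcard
      exact Nat.eq_one_of_dvd_coprimes
        (Nat.Coprime.pow_left k ((Nat.Prime.coprime_iff_not_dvd hp.out).2 hK'))
        (orderOf_dvd_of_pow_eq_one hcard) (orderOf_dvd_of_pow_eq_one hcard')
    have := he ⟨g, hg⟩
    rw [hl, Units.val_one, one_mul] at this
    exact this
  obtain ⟨hex, huniq, hinj, -⟩ := glauberman hSK' hK' hS
  rw [hD] at hex huniq hinj
  obtain ⟨μ, hμ, hμc⟩ := hex η hη hηS
  -- `μ` lies over `φ`
  have hxK' := normalizes_one hxL hyL hc.1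
  have hxD : x ∈ normalizer (D : Set G) := normalizes_one hxC hyC hc
  have hμC : ∀ c ∈ C, μ c = φ c := by
    obtain ⟨a, ha, hap⟩ := hμc
    obtain ⟨m, hm, hmp⟩ := h
    have hm' : mult C η φ = (m : ℂ) := (mult_congr (fun c hc => hηL c ((inf_le_left : C ≤ L) hc)) fun _ _ => rfl).trans hm
    have hCD : C ≤ D := le_one C y
    obtain ⟨b, hb⟩ := mult_nat (hμ.chr.mono hCD) hφ.chr
    have hηD : Chr D η := hη.chr.mono (fun g hg => (hD.symm.le hg).1)
    have hmod := mult_trans (p := p) hCD hηD hμ hφ.chr ha (fun ξ hξ hne m' hm' => by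
      by_contra hm'p
      obtain ⟨d, hd, hne⟩ := hne
      exact hne (huniq η ξ μ hη hηS hξ hμ ⟨m', hm', hm'p⟩ ⟨a, ha, hap⟩ d hd)) hb hm'
    have hb0 : b ≠ 0 := fun h0 => hmp (Nat.modEq_zero_iff_dvd.1 (by rw [h0, mul_zero] at hmod; exact hmod))
    -- a constituent over an invariant character with cyclic quotient
    obtain ⟨φ', hφ', hφ'C⟩ := exists_ext_one hφ hyC hyiC
    haveI : (C.subgroupOf D).Normal := normal_subgroupOf_of_le_normalizer (one_le_normalizer hyC)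
    haveI := Fintype.ofFinite D
    haveI := Fintype.ofFinite (C.subgroupOf D)
    set eC := Subgroup.subgroupOfEquivOfLe hCD
    have hφD : (fun n : C.subgroupOf D => res D φ' n) = res C φ ∘ eC := funext fun n =>
      hφ'C _ n.2
    have hcon : Cfsg.classInner (fun n : C.subgroupOf D => res D μ n)
        (fun n : C.subgroupOf D => res D φ' n) ≠ 0 := by
      haveI := Fintype.ofFinite C
      rw [hφD, show (fun n : C.subgroupOf D => res D μ n) = res C μ ∘ eC from funext fun n => rfl,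
        Basics.classInner_comp_equiv, ← mult_eq, hb]
      exact Nat.cast_ne_zero.2 hb0
    have hg := Average.gallagher (C.subgroupOf D) hφ'
      (hφD ▸ (isIrrCharacter_comp_mulEquiv eC).2 hφ) hμ hcon
    set lam := Average.quotChar (C.subgroupOf D) (res D φ') (res D μ)
    have hlam1 : lam 1 = 1 := by
      haveI : IsCyclic (D ⧸ C.subgroupOf D) := by
        refine ⟨⟨QuotientGroup.mk (⟨y, mem_one C y⟩ : D), fun z => ?_⟩⟩
        induction z using QuotientGroup.induction_on with | _ g => ?_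
        obtain ⟨k, hk, i, hi⟩ := (mem_one_iff hyC).1 g.2
        refine mem_zpowers_iff.2 ⟨i, ?_⟩
        rw [show g = (⟨k, le_one C y hk⟩ : D) * ⟨y, mem_one C y⟩ ^ i from
          Subtype.ext (by simp [hi]), QuotientGroup.mk_mul, (QuotientGroup.eq_one_iff _).2
          (show (⟨k, le_one C y hk⟩ : D) ∈ C.subgroupOf D from hk), one_mul, QuotientGroup.mk_zpow]
      obtain ⟨β, -, hβ, hβi⟩ := exists_deflate_quotient (C.subgroupOf D) (isCharacter_of_isIrr hg.1)
        (fun n hn => by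
          have := Average.quotChar_mul_left (C.subgroupOf D) (res D φ') (res D μ) ⟨n, hn⟩ 1
          simpa using this)
      have := irr_degree_one_of_comm (G := D ⧸ C.subgroupOf D)
        (fun a b => (IsCyclic.commGroup (α := D ⧸ C.subgroupOf D)).mul_comm a b) (hβi hg.1)
      rw [← this]
      exact (hβ 1).symm
    intro c hc'
    have h1 := congrFun hg.2 ⟨c, hCD hc'⟩
    have h2 : lam ⟨c, hCD hc'⟩ = 1 := by
      have := Average.quotChar_mul_left (C.subgroupOf D) (res D φ') (res D μ) ⟨⟨c, hCD hc'⟩, hc'⟩ 1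
      rw [mul_one] at this
      exact this.trans hlam1
    rw [Pi.mul_apply, h2, one_mul] at h1
    exact h1.symm.trans (hφ'C c hc')
  rw [ext_iff_inv hθ hxL hxi hyL hyi hc.1 hη hηL,
    ext_iff_inv hφ hxC hxiC hyC hyiC hc hμ hμC]
  have hxη : Irr K' (cj x η) := cj_irr hxK' hη
  have hxηS : ∀ s ∈ S₀, Inv K' (cj x η) s := fun s hs g hg => by
    show η (x * (s * g * s⁻¹) * x⁻¹) = η (x * g * x⁻¹)
    rw [show x * (s * g * s⁻¹) * x⁻¹ = (x * s * x⁻¹) * (x * g * x⁻¹) * (x * s * x⁻¹)⁻¹ by group]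
    exact hηS _ (conj_mem hxS hs) _ (conj_mem hxK' hg)
  have hxμ := hμc.cj hxD
  constructor
  · intro hinv
    exact huniq η (cj x μ) μ hη hηS (cj_irr hxD hμ) hμ
      (hxμ.congr (fun d hd => (hinv d (hD.symm.le hd).1).symm) fun _ _ => rfl) hμc
  · intro hinv
    exact hinj (cj x η) η μ hxη hxηS hη hηS hμ
      (hxμ.congr (fun _ _ => rfl) fun d hd => (hinv d hd).symm) hμc

theorem closure_pair_mem {C : Subgroup G} {x y : G} (hx : x ∈ normalizer (C : Set G))
    (hy : y ∈ normalizer (C : Set G)) {m : ℕ} (hxm : x ^ m ∈ C) (hym : y ^ m ∈ C)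
    (hc : x * y * x⁻¹ * y⁻¹ ∈ C) : ∀ a ∈ closure ({x, y} : Set G),
    a ∈ normalizer (C : Set G) ∧ a ^ m ∈ C ∧
      ∀ b ∈ closure ({x, y} : Set G), a * b * a⁻¹ * b⁻¹ ∈ C := by
  classical
  set N := normalizer (C : Set G) with hN
  haveI : (C.subgroupOf N).Normal := normal_in_normalizer
  let q := QuotientGroup.mk' (C.subgroupOf N)
  have hcomm : Commute (q ⟨x, hx⟩) (q ⟨y, hy⟩) := by
    have h1 : q (⟨x, hx⟩ * ⟨y, hy⟩ * ⟨x, hx⟩⁻¹ * ⟨y, hy⟩⁻¹) = 1 :=
      (QuotientGroup.eq_one_iff _).2 hc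
    rw [map_mul, map_mul, map_mul, map_inv, map_inv, mul_inv_eq_one, mul_inv_eq_iff_eq_mul] at h1
    exact h1
  set Q := closure ({q ⟨x, hx⟩, q ⟨y, hy⟩} : Set (N ⧸ C.subgroupOf N))
  haveI hA : IsMulCommutative Q := Subgroup.isMulCommutative_closure (by
    rintro a (rfl | rfl) b (rfl | rfl)
    exacts [rfl, hcomm, hcomm.symm, rfl])
  have hxQ : q ⟨x, hx⟩ ∈ Q := subset_closure (Set.mem_insert _ _)
  have hyQ : q ⟨y, hy⟩ ∈ Q := subset_closure (Set.mem_insert_of_mem _ rfl)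
  have hle : closure ({x, y} : Set G) ≤ (Q.comap q).map N.subtype := (closure_le _).2 (by
    rintro z (rfl | rfl)
    exacts [⟨⟨_, hx⟩, hxQ, rfl⟩, ⟨⟨_, hy⟩, hyQ, rfl⟩])
  have hpm : ∀ z ∈ Q, z ^ m = 1 := by
    intro z hz
    letI : CommGroup Q :=
      { (inferInstance : Group Q) with mul_comm := fun c d => mul_comm' c d }
    have h2 : Q ≤ (powMonoidHom m : Q →* Q).ker.map Q.subtype := (closure_le _).2 (by
      rintro c (rfl | rfl)
      · refine ⟨⟨_, hxQ⟩, Subtype.ext ?_, rfl⟩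
        show q ⟨x, hx⟩ ^ m = 1
        rw [← map_pow]; exact (QuotientGroup.eq_one_iff _).2 hxm
      · refine ⟨⟨_, hyQ⟩, Subtype.ext ?_, rfl⟩
        show q ⟨y, hy⟩ ^ m = 1
        rw [← map_pow]; exact (QuotientGroup.eq_one_iff _).2 hym)
    obtain ⟨c, hc', rfl⟩ := h2 hz
    exact congrArg Subtype.val (show c ^ m = 1 from hc')
  intro a ha
  obtain ⟨a', haQ, rfl⟩ := hle ha
  refine ⟨a'.2, ?_, fun b hb => ?_⟩
  · have h1 : q (a' ^ m) = 1 := by rw [map_pow]; exact hpm _ haQ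
    exact mem_subgroupOf.1 ((QuotientGroup.eq_one_iff _).1 h1)
  · obtain ⟨b', hbQ, rfl⟩ := hle hb
    have h2 : q a' * q b' = q b' * q a' :=
      congrArg Subtype.val (mul_comm' (⟨_, haQ⟩ : Q) ⟨_, hbQ⟩)
    have h1 : q (a' * b' * a'⁻¹ * b'⁻¹) = 1 := by
      rw [map_mul, map_mul, map_mul, map_inv, map_inv, h2, mul_inv_cancel_right, mul_inv_cancel]
    exact mem_subgroupOf.1 ((QuotientGroup.eq_one_iff _).1 h1)

/-- Extendibility is preserved by the correspondence. -/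
theorem ext_iff_corr (hpr : p ≠ r) : ∀ (n : ℕ) (S K : Subgroup G), Nat.card S ≤ n →
    S ≤ normalizer (K : Set G) → ¬ p ∣ Nat.card K → IsPGroup p S → ∀ (x y : G),
    x ∈ normalizer (K : Set G) → y ∈ normalizer (K : Set G) →
    x ∈ normalizer (S : Set G) → y ∈ normalizer (S : Set G) → ∀ e : ℕ,
    x ^ r ^ e ∈ K ⊓ centralizer (S : Set G) → y ^ r ^ e ∈ K ⊓ centralizer (S : Set G) →
    x * y * x⁻¹ * y⁻¹ ∈ K ⊓ centralizer (S : Set G) → ∀ θ φ : G → ℂ,
    Irr K θ → (∀ s ∈ S, Inv K θ s) → Inv K θ x → Inv K θ y →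
    Irr (K ⊓ centralizer (S : Set G)) φ → Corr p (K ⊓ centralizer (S : Set G)) θ φ →
    (Ext K θ x y ↔ Ext (K ⊓ centralizer (S : Set G)) φ x y) := by
  intro n
  induction n with
  | zero => intro S K h; exact absurd h (Nat.not_le.2 Nat.card_pos)
  | succ n ih =>
    intro S K hn hSK hK hS x y hxK hyK hxS hyS e hxe hye hc θ φ hθ hθS hxi hyi hφ h
    by_cases hS1 : S = ⊥
    · subst hS1
      have hC : K ⊓ centralizer ((⊥ : Subgroup G) : Set G) = K := by
        refine inf_eq_left.2 fun k _ => mem_centralizer_iff.2 fun s hs => ?_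
        rw [mem_bot.1 hs, one_mul, mul_one]
      rw [hC] at hφ h ⊢
      obtain ⟨m, hm, hmp⟩ := h
      have hne : mult K θ φ ≠ 0 := by
        rw [hm]; exact Nat.cast_ne_zero.2 fun h0 => hmp (h0 ▸ dvd_zero p)
      have he := mult_irr_ne hθ hφ hne
      constructor <;> rintro ⟨η, hη, hηK⟩ <;> refine ⟨η, hη, fun k hk => ?_⟩
      · rw [hηK k hk, he k hk]
      · rw [hηK k hk, he k hk]
    · -- elements of the pair generate a `p'`-group modulo the fixed points
      set C := K ⊓ centralizer (S : Set G) with hCdef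
      have hxC := centralizer_normalizes hxK hxS
      have hyC := centralizer_normalizes hyK hyS
      have hcls := closure_pair_mem hxC hyC (m := r ^ e) hxe hye hc
      have hpo : ∀ g ∈ closure ({x, y} : Set G), ¬ p ∣ orderOf g := by
        intro g hg hpg
        have hgC : g ^ r ^ e ∈ C := (hcls g hg).2.1
        have hd : orderOf g ∣ r ^ e * Nat.card C := orderOf_dvd_of_pow_eq_one (by
          rw [pow_mul]
          exact congrArg Subtype.val (pow_card_eq_one' (x := (⟨g ^ r ^ e, hgC⟩ : C))))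
        rcases hp.out.dvd_mul.1 (hpg.trans hd) with h1 | h1
        · exact hpr ((Nat.prime_dvd_prime_iff_eq hp.out hr.out).1 (hp.out.dvd_of_dvd_pow h1))
        · exact hK (h1.trans (card_dvd_of_le inf_le_left))
      obtain ⟨P₁, hP₁, hSP, hxP, hyP, x', y', hcl, hcov⟩ :=
        Action.exists_step (r := r) hpr hS hS1 hxS hyS hpo (e := e) hxe.2 hye.2 hc.2
      have hpair : ∀ L : Subgroup G, pairSub L x y = pairSub L x' y' := fun L => by
        rw [pairSub, pairSub, hcl]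
      have hExt : ∀ (L : Subgroup G) (f : G → ℂ), Ext L f x y ↔ Ext L f x' y' := fun L f => by
        rw [Ext, Ext, hpair]
      set C₁ := K ⊓ centralizer (P₁ : Set G) with hC1
      have hP1S : P₁ ≤ S := hP₁.le
      have hCC1 : C ≤ C₁ := inf_le_inf_left _ (centralizer_le hP1S)
      have hlt : Nat.card P₁ < Nat.card S := lt_of_le_of_ne (card_le_of_le hP1S) fun h' =>
        hP₁.ne (eq_of_le_of_card_ge hP1S h'.ge)
      have hθP : ∀ s ∈ P₁, Inv K θ s := fun s hs => hθS s (hP1S hs)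
      have hP1p := hS.to_le hP1S
      obtain ⟨φ₁, hφ₁, h₁⟩ := (glauberman (hP1S.trans hSK) hK hP1p).1 θ hθ hθP
      have hi₁ := fun {g : G} => Corr.inv (x := g) (hP1S.trans hSK) hK hP1p hθ hθP hφ₁ h₁
      -- the step from `C₁` to `C`
      set S₀ := S ⊓ centralizer ({y'} : Set G) with hS0
      have hC : C₁ ⊓ centralizer (S₀ : Set G) = C := by
        refine le_antisymm (fun g hg => ⟨hg.1.1, ?_⟩) (le_inf hCC1
          (inf_le_right.trans (centralizer_le inf_le_left)))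
        have hle : S ≤ centralizer ({g} : Set G) := hcov.trans (sup_le
          (fun s hs => mem_centralizer_singleton_iff.2 (mem_centralizer_iff.1 hg.2 s hs))
          (fun s hs => mem_centralizer_singleton_iff.2 (mem_centralizer_iff.1 hg.1.2 s hs)))
        exact mem_centralizer_iff.2 fun s hs => mem_centralizer_singleton_iff.1 (hle hs)
      have hx' : x' ∈ closure ({x, y} : Set G) := hcl ▸ subset_closure (Set.mem_insert _ _)
      have hy' : y' ∈ closure ({x, y} : Set G) :=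
        hcl ▸ subset_closure (Set.mem_insert_of_mem _ rfl)
      set T := normalizer (K : Set G) ⊓ normalizer (S : Set G) ⊓ normalizer (P₁ : Set G) ⊓
        stab K θ with hT
      have hclT : closure ({x, y} : Set G) ≤ T := (closure_le _).2 (by
        rintro z (rfl | rfl)
        exacts [⟨⟨⟨hxK, hxS⟩, hxP⟩, hxK, hxi⟩, ⟨⟨⟨hyK, hyS⟩, hyP⟩, hyK, hyi⟩])
      obtain ⟨⟨⟨hx'K, hx'S⟩, hx'P⟩, -, hx'i⟩ := hclT hx'
      obtain ⟨⟨⟨hy'K, hy'S⟩, hy'P⟩, -, hy'i⟩ := hclT hy'
      have hab : ∀ a ∈ closure ({x, y} : Set G), ∀ b ∈ closure ({x, y} : Set G),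
          a * b * a⁻¹ * b⁻¹ ∈ C ∧ a ^ r ^ e ∈ C := fun a ha b hb =>
        ⟨(hcls a ha).2.2 b hb, (hcls a ha).2.1⟩
      obtain ⟨hc', -⟩ := hab x' hx' y' hy'
      obtain ⟨-, hye'⟩ := hab y' hy' x' hx'
      have hS0S : S₀ ≤ S := inf_le_left
      have hSC1 : S₀ ≤ normalizer (C₁ : Set G) := fun s hs =>
        centralizer_normalizes (hSK (hS0S hs)) (hSP (hS0S hs))
      have hC1p : ¬ p ∣ Nat.card C₁ := fun hd => hK (hd.trans (card_dvd_of_le inf_le_left))
      have hx'S0 : x' ∈ normalizer (S₀ : Set G) := by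
        rw [mem_normalizer_iff_map_conj_eq]
        refine eq_of_le_of_card_ge ?_ (le_of_eq (card_map_of_injective
          (MulAut.conj x').injective).symm)
        rintro _ ⟨s, hs, rfl⟩
        have hxs : x' * s * x'⁻¹ ∈ S := conj_mem hx'S hs.1
        refine ⟨hxs, mem_centralizer_singleton_iff.2 ?_⟩
        show x' * s * x'⁻¹ * y' = y' * (x' * s * x'⁻¹)
        have hcs : (x' * y' * x'⁻¹ * y'⁻¹) * (x' * s * x'⁻¹) =
            (x' * s * x'⁻¹) * (x' * y' * x'⁻¹ * y'⁻¹) :=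
          (mem_centralizer_iff.1 hc'.2 _ hxs).symm
        have hsy : s * y' = y' * s := mem_centralizer_singleton_iff.1 hs.2
        set c := x' * y' * x'⁻¹ * y'⁻¹ with hcdef
        have hy'eq : y' = c⁻¹ * (x' * y' * x'⁻¹) := by rw [hcdef]; group
        have hcs' : (x' * s * x'⁻¹) * c⁻¹ = c⁻¹ * (x' * s * x'⁻¹) := by
          have := congrArg (fun z => c⁻¹ * z * c⁻¹) hcs
          simpa [mul_assoc] using this
        calc x' * s * x'⁻¹ * y' = x' * s * x'⁻¹ * (c⁻¹ * (x' * y' * x'⁻¹)) := by rw [← hy'eq]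
          _ = c⁻¹ * (x' * (s * y') * x'⁻¹) := by rw [← mul_assoc, hcs']; group
          _ = c⁻¹ * (x' * (y' * s) * x'⁻¹) := by rw [hsy]
          _ = c⁻¹ * (x' * y' * x'⁻¹) * (x' * s * x'⁻¹) := by group
          _ = y' * (x' * s * x'⁻¹) := by rw [← hy'eq]
      have hy'S0 : y' ∈ centralizer (S₀ : Set G) :=
        mem_centralizer_iff.2 fun s hs => mem_centralizer_singleton_iff.1 hs.2
      have hφ₁S : ∀ s ∈ S₀, Inv C₁ φ₁ s := fun s hs =>
        hi₁ (hSK (hS0S hs)) (hSP (hS0S hs)) (hθS s (hS0S hs))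
      have h₀ : Corr p C φ₁ φ := by
        obtain ⟨φ', hφ', h'⟩ := (glauberman hSC1 hC1p (hS.to_le hS0S)).1 φ₁ hφ₁ hφ₁S
        rw [hC] at hφ' h'
        obtain ⟨a, ha, hap⟩ := h₁
        obtain ⟨b, hb, hbp⟩ := h'
        obtain ⟨m, hm⟩ := mult_nat (hθ.chr.mono (inf_le_left : C ≤ K)) hφ'.chr
        have hmod := mult_trans (p := p) hCC1 (hθ.chr.mono inf_le_left) hφ₁ hφ'.chr ha
          (fun ξ hξ hne m' hm' => by
            by_contra hm'p
            obtain ⟨d, hd, hne⟩ := hne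
            exact hne ((glauberman (hP1S.trans hSK) hK hP1p).2.1 θ ξ φ₁ hθ hθP hξ hφ₁
              ⟨m', hm', hm'p⟩ ⟨a, ha, hap⟩ d hd)) hb hm
        have hmp : ¬ p ∣ m := fun hd => by
          rcases hp.out.dvd_mul.1 ((Nat.modEq_zero_iff_dvd.1
            (hmod.symm.trans (Nat.modEq_zero_iff_dvd.2 hd)))) with h1 | h1
          exacts [hap h1, hbp h1]
        have e1 := (glauberman hSK hK hS).2.1 θ φ φ' hθ hθS hφ hφ' h ⟨m, hm, hmp⟩
        exact (show Corr p C φ₁ φ' from ⟨b, hb, hbp⟩).congr (fun _ _ => rfl) e1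
      have hstep := ext_iff_step (r := r) hpr hC1p (hS.to_le hS0S) hSC1
        (centralizer_normalizes hx'K hx'P) (centralizer_normalizes hy'K hy'P) hx'S0 hy'S0 (e := e)
        (by rw [hC]; exact hye') (by rw [hC]; exact hc') hφ₁ hφ₁S
        (hi₁ hx'K hx'P hx'i) (hi₁ hy'K hy'P hy'i) (φ := φ) (by rw [hC]; exact hφ)
        (by rw [hC]; exact h₀)
      rw [hC] at hstep
      rw [ih P₁ K (by omega) (hP1S.trans hSK) hK hP1p x y hxK hyK hxP hyP e
        ⟨hxe.1, centralizer_le hP1S hxe.2⟩ ⟨hye.1, centralizer_le hP1S hye.2⟩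
        ⟨hc.1, centralizer_le hP1S hc.2⟩ θ φ₁ hθ hθP hxi hyi hφ₁ h₁, hExt, hstep, ← hExt]

end Cfsg.Agent.CharTheory.RelMcKay
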