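import Mathlib
import Cfsg.Agent.Lib.CharTheory.RelMcKay.Glauberman

/-!
# Commuting lifts of `r`-elements modulo a normal `p`-section
-/

set_option autoImplicit false
set_option linter.style.haveILetI false

open Subgroup

namespace Cfsg.Agent.CharTheory.RelMcKay

universe u

variable {G : Type u} [Group G] [Finite G]

/-- If `D ⧸ C` is a `p`-group and `x, y` commute modulo `D` and have `r`-power order modulo `D`,
their cosets contain elements with the same properties modulo `C`. -/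
theorem exists_lifts {p r : ℕ} [hp : Fact p.Prime] [hr : Fact r.Prime] (hpr : p ≠ r)
    (N : Subgroup G) (C D : Subgroup G) (hCD : C ≤ D) (hDN : D ≤ N)
    (hC : N ≤ normalizer (C : Set G)) (hD : N ≤ normalizer (D : Set G))
    (hidx : ∃ k, C.relIndex D = p ^ k) {x y : G} (hx : x ∈ N) (hy : y ∈ N) {e : ℕ}
    (hxe : x ^ r ^ e ∈ D) (hye : y ^ r ^ e ∈ D) (hc : y * x * y⁻¹ * x⁻¹ ∈ D) :
    ∃ x' y' : G, x' ∈ N ∧ y' ∈ N ∧ x⁻¹ * x' ∈ D ∧ y⁻¹ * y' ∈ D ∧
      x' ^ r ^ e ∈ C ∧ y' ^ r ^ e ∈ C ∧ y' * x' * y'⁻¹ * x'⁻¹ ∈ C := by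
  classical
  set U : Subgroup G := D ⊔ closure {y, x} with hU
  have hUN : U ≤ N := sup_le hDN ((closure_le _).2 (by rintro z (rfl | rfl); exacts [hy, hx]))
  haveI : (C.subgroupOf U).Normal := normal_subgroupOf_of_le_normalizer (hUN.trans hC)
  haveI : (D.subgroupOf U).Normal := normal_subgroupOf_of_le_normalizer (hUN.trans hD)
  let q := QuotientGroup.mk' (C.subgroupOf U)
  set W := (D.subgroupOf U).map q
  haveI : W.Normal := Subgroup.Normal.map inferInstance q (QuotientGroup.mk'_surjective _)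
  have hDU : D ≤ U := le_sup_left
  have hWcard : Nat.card W = C.relIndex D := by
    rw [← Subgroup.relIndex_ker, QuotientGroup.ker_mk', Subgroup.relIndex_subgroupOf hDU]
  have hmem : ∀ g : U, q g ∈ W ↔ (g : G) ∈ D := fun g => by
    constructor
    · rintro ⟨d, hd, he⟩
      have h := mem_subgroupOf.1 (QuotientGroup.eq.1 he)
      have h' := D.mul_mem (mem_subgroupOf.1 hd) (hCD h)
      simpa using h'
    · exact fun hg => ⟨g, hg, rfl⟩
  have hcl := closure_pair_mem (C := D) (hD hy) (hD hx) (m := r ^ e) hye hxe hc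
  -- the quotient is an `r`-group
  have hr' : ∀ z : U ⧸ C.subgroupOf U, z ^ r ^ e ∈ W := by
    intro z
    induction z using QuotientGroup.induction_on with | _ g => ?_
    show q g ^ r ^ e ∈ W
    rw [← map_pow, hmem]
    have hg : (g : G) ∈ D ⊔ closure {y, x} := g.2
    rw [← SetLike.mem_coe, coe_mul_of_right_le_normalizer_left _ _
      (fun z hz => (hcl z hz).1)] at hg
    obtain ⟨d, hd, c, hc', he⟩ := hg
    haveI : (D.subgroupOf (normalizer (D : Set G))).Normal := normal_in_normalizer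
    let qd := QuotientGroup.mk' (D.subgroupOf (normalizer (D : Set G)))
    have h1 : qd (⟨d, le_normalizer hd⟩ * ⟨c, (hcl c hc').1⟩) = qd ⟨c, (hcl c hc').1⟩ := by
      rw [map_mul, show qd ⟨d, le_normalizer hd⟩ = 1 from (QuotientGroup.eq_one_iff _).2 hd, one_mul]
    have h2 : qd ((⟨d, le_normalizer hd⟩ * ⟨c, (hcl c hc').1⟩) ^ r ^ e) = 1 := by
      rw [map_pow, h1, ← map_pow]
      exact (QuotientGroup.eq_one_iff _).2 (hcl c hc').2.1
    have h3 := mem_subgroupOf.1 ((QuotientGroup.eq_one_iff _).1 h2)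
    rw [Subgroup.coe_pow, ← he]
    exact h3
  have hcop : (Nat.card W).Coprime W.index := by
    obtain ⟨k, hk⟩ := hidx
    have hP : IsPGroup r ((U ⧸ C.subgroupOf U) ⧸ W) := fun z => ⟨e, by
      induction z using QuotientGroup.induction_on with | _ z => ?_
      rw [← QuotientGroup.mk_pow, QuotientGroup.eq_one_iff]
      exact hr' z⟩
    obtain ⟨j, hj⟩ := hP.exists_card_eq
    rw [hWcard, hk, Subgroup.index_eq_card, hj]
    exact Nat.Coprime.pow k j ((Nat.coprime_primes hp.out hr.out).2 hpr)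
  obtain ⟨H, hH⟩ := Subgroup.exists_right_complement'_of_coprime hcop
  have hdis : ∀ z, z ∈ W → z ∈ H → z = 1 := fun z h1 h2 => Subgroup.disjoint_def.1 hH.disjoint h1 h2
  have hsplit : ∀ g : U, ∃ h : U, q h ∈ H ∧ (g : G)⁻¹ * h ∈ D := by
    intro g
    obtain ⟨w, hw, z, hz, he⟩ := Subgroup.mem_sup_of_normal_left.1
      (hH.sup_eq_top.symm ▸ mem_top (q g) : q g ∈ W ⊔ H)
    obtain ⟨h, rfl⟩ := QuotientGroup.mk'_surjective (C.subgroupOf U) z
    refine ⟨h, hz, (hmem (g⁻¹ * h)).1 ?_⟩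
    show q (g⁻¹ * h) ∈ W
    rw [map_mul, map_inv, ← he, mul_inv_rev]
    simpa [q] using (inferInstance : W.Normal).conj_mem _ (W.inv_mem hw) (q h)⁻¹
  have hxU : x ∈ U := le_sup_right (a := D) (subset_closure (Set.mem_insert_of_mem _ rfl))
  have hyU : y ∈ U := le_sup_right (a := D) (subset_closure (Set.mem_insert _ _))
  obtain ⟨x', hx'H, hxD⟩ := hsplit ⟨x, hxU⟩
  obtain ⟨y', hy'H, hyD⟩ := hsplit ⟨y, hyU⟩
  have hpow : ∀ g : U, q g ∈ H → (g : G) ^ r ^ e ∈ C := fun g hg => by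
    have h := hdis (q g ^ r ^ e) (hr' _) (H.pow_mem hg _)
    rw [← map_pow] at h
    exact mem_subgroupOf.1 ((QuotientGroup.eq_one_iff _).1 h)
  refine ⟨x', y', hUN x'.2, hUN y'.2, hxD, hyD, hpow x' hx'H, hpow y' hy'H, ?_⟩
  have hcD : (y' : G) * x' * (y' : G)⁻¹ * (x' : G)⁻¹ ∈ D := by
    haveI : (D.subgroupOf (normalizer (D : Set G))).Normal := normal_in_normalizer
    let qd := QuotientGroup.mk' (D.subgroupOf (normalizer (D : Set G)))
    let X' : normalizer (D : Set G) := ⟨x', hD (hUN x'.2)⟩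
    let Y' : normalizer (D : Set G) := ⟨y', hD (hUN y'.2)⟩
    let X : normalizer (D : Set G) := ⟨x, hD hx⟩
    let Y : normalizer (D : Set G) := ⟨y, hD hy⟩
    have e1 : qd X = qd X' := QuotientGroup.eq.2 hxD
    have e2 : qd Y = qd Y' := QuotientGroup.eq.2 hyD
    have h : qd (Y' * X' * Y'⁻¹ * X'⁻¹) = 1 := by
      rw [map_mul, map_mul, map_mul, map_inv, map_inv, ← e1, ← e2, ← map_inv, ← map_inv,
        ← map_mul, ← map_mul, ← map_mul]
      exact (QuotientGroup.eq_one_iff _).2 hc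
    exact mem_subgroupOf.1 ((QuotientGroup.eq_one_iff _).1 h)
  have h := hdis (q (y' * x' * y'⁻¹ * x'⁻¹)) ((hmem _).2 hcD) (by
    rw [map_mul, map_mul, map_mul, map_inv, map_inv]
    exact H.mul_mem (H.mul_mem (H.mul_mem hy'H hx'H) (H.inv_mem hy'H)) (H.inv_mem hx'H))
  exact mem_subgroupOf.1 ((QuotientGroup.eq_one_iff _).1 h)

end Cfsg.Agent.CharTheory.RelMcKay
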