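import Mathlib
import Cfsg.Agent.Lib.CharTheory.RelMcKay.GoodClasses
import Cfsg.Agent.Lib.CharTheory.RelMcKay.Glauberman
import Cfsg.Agent.Lib.CharTheory.RegularSupport.Canonical
import Cfsg.Agent.Lib.CharTheory.DegreeIndex
import Cfsg.Agent.BlocksChars.Degrees
import Cfsg.Agent.S0854

/-!
# Characters of `p'`-degree over an invariant character of a normal `p'`-group

With `S` a Sylow `p`-subgroup, `K` a normal `p'`-subgroup such that `K S` is normal, `R` central and
`θ` invariant, the `p'`-degree characters over `θ` and `λ` are those over one character of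
`K [KS, KS] (S ∩ R)`.
-/

set_option autoImplicit false
set_option linter.style.haveILetI false
set_option linter.unusedSectionVars false

open Subgroup
open scoped ComplexConjugate commutatorElement

namespace Cfsg.Agent.CharTheory.RelMcKay

open Cfsg.Agent.Characters Cfsg.Agent.CharTheory

universe u

variable {G : Type u} [Group G] [Finite G] {p : ℕ} [hp : Fact p.Prime]

/-- Extendibility over a larger normal subgroup. -/
theorem ext_sup_iff {K M : Subgroup G} [K.Normal] [M.Normal] (hKM : K ≤ M) {θ τ : G → ℂ}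
    (hθ : Irr K θ) (hθi : ∀ g, Inv K θ g) (hτ : Irr M τ) (hτi : ∀ g, Inv M τ g)
    (hτK : ∀ k ∈ K, τ k = θ k) {x y : G} (hc : y * x * y⁻¹ * x⁻¹ ∈ K) :
    Ext M τ y x ↔ Ext K θ y x := by
  have hx := mem_normalizer_of_normal (M := M) x
  have hy := mem_normalizer_of_normal (M := M) y
  have hxK := mem_normalizer_of_normal (M := K) x
  have hyK := mem_normalizer_of_normal (M := K) y
  constructor
  · rintro ⟨η, hη, hηM⟩
    have hle : pairSub K y x ≤ pairSub M y x :=
      pairSub_le (hKM.trans (le_pairSub M y x)) (left_mem_pairSub M y x) (right_mem_pairSub M y x)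
    have he : ∀ k ∈ K, η k = θ k := fun k hk => (hηM k (hKM hk)).trans (hτK k hk)
    exact ⟨η, irr_of_restrict (le_pairSub K y x) (hη.chr.mono hle) hθ he, he⟩
  · intro h
    obtain ⟨η, hη, hηM⟩ := exists_ext_one hτ hx (hτi x)
    have hcM := hKM hc
    rw [ext_iff_inv hτ hy (hτi y) hx (hτi x) hcM hη hηM]
    have hle : one K x ≤ one M x := one_le (hKM.trans (le_one M x)) (mem_one M x)
    have hηK : ∀ k ∈ K, η k = θ k := fun k hk => (hηM k (hKM hk)).trans (hτK k hk)
    have hη0 : Irr (one K x) η := irr_of_restrict (le_one K x) (hη.chr.mono hle) hθ hηK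
    rw [ext_iff_inv hθ hyK (hθi y) hxK (hθi x) hc hη0 hηK] at h
    obtain ⟨lam, h1, he⟩ := exists_linear (le_one M x) (one_le_normalizer hx) hτ hη hηM
      (cj_irr (normalizes_one hy hx hcM) hη) fun k hk => by
        show η (y * k * y⁻¹) = τ k
        rw [hηM _ (conj_mem hy hk), hτi y k hk]
    have hlx : lam ⟨x, hle (mem_one K x)⟩ = 1 :=
      linear_eq_one (le_one K x) (one_le_normalizer hxK) hη0 (hθ.congr hηK)
        (lam.comp (Subgroup.inclusion hle)) (fun k hk => h1 k (hKM hk)) (fun b => by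
          show (lam (Subgroup.inclusion hle b) : ℂ) * η b = η b
          exact (he (Subgroup.inclusion hle b)).symm.trans (h b b.2)) ⟨x, mem_one K x⟩
    intro g hg
    obtain ⟨m, hm, i, rfl⟩ := (mem_one_iff hx).1 hg
    have hl : lam ⟨m * x ^ i, hg⟩ = 1 := by
      rw [show (⟨m * x ^ i, hg⟩ : one M x) = ⟨m, le_one M x hm⟩ * ⟨x, hle (mem_one K x)⟩ ^ i from
        Subtype.ext (by simp), map_mul, map_zpow, h1 m hm, hlx, one_zpow, one_mul]
    have := he ⟨_, hg⟩
    rw [hl, Units.val_one, one_mul] at this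
    exact this

/-- A central element acts as a scalar in an irreducible character. -/
theorem central_scalar {H : Subgroup G} {f : G → ℂ} (hf : Irr H f) {z : G} (hz : z ∈ H)
    (hzc : ∀ h ∈ H, h * z = z * h) : ∃ ω : ℂ, ∀ h ∈ H, f (z * h) = ω * f h := by
  obtain ⟨n, ρ, hρ, he⟩ := hf
  haveI := hρ
  obtain ⟨c, hc⟩ := schur_scalar ρ (ρ ⟨z, hz⟩) fun g v => by
    rw [← Module.End.mul_apply, ← Module.End.mul_apply, ← map_mul, ← map_mul,
      show g * (⟨z, hz⟩ : H) = ⟨z, hz⟩ * g from Subtype.ext (hzc g g.2)]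
  refine ⟨c, fun h hh => ?_⟩
  have e1 : f (z * h) = ρ.character (⟨z, hz⟩ * ⟨h, hh⟩) :=
    (congrFun he ((⟨z, hz⟩ : H) * (⟨h, hh⟩ : H))).symm
  rw [e1, show f h = ρ.character ⟨h, hh⟩ from (congrFun he (⟨h, hh⟩ : H)).symm]
  rw [show ρ.character ((⟨z, hz⟩ : H) * ⟨h, hh⟩) =
    LinearMap.trace ℂ _ (ρ ((⟨z, hz⟩ : H) * ⟨h, hh⟩)) from rfl, map_mul ρ, hc]
  simp [Representation.character, Module.End.mul_eq_comp, smul_eq_mul]

/-- The expansion of a multiplicity through an intermediate subgroup. -/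
theorem mult_expand {C D : Subgroup G} (hCD : C ≤ D) {f φ : G → ℂ} (hf : Chr D f) (hφ : Chr C φ) :
    ∃ (I : Finset (Cfsg.IrrCharacter D)) (c d : Cfsg.IrrCharacter D → ℕ),
      (∀ ψ, ψ ∈ I) ∧ (∀ ψ : Cfsg.IrrCharacter D, mult D f (ext0 D (ψ : D → ℂ)) = (c ψ : ℂ)) ∧
      (∀ ψ : Cfsg.IrrCharacter D, mult C (ext0 D (ψ : D → ℂ)) φ = (d ψ : ℂ)) ∧
      mult C f φ = ((∑ ψ ∈ I, c ψ * d ψ : ℕ) : ℂ) ∧
      f 1 = ∑ ψ ∈ I, (c ψ : ℂ) * (ψ : D → ℂ) 1 := by
  classical
  haveI := Fintype.ofFinite C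
  haveI := Fintype.ofFinite D
  haveI := Fintype.ofFinite (Cfsg.IrrCharacter D)
  choose c hc using fun ψ : Cfsg.IrrCharacter D => classInner_char_nat hf (irr_isCharacter ψ)
  have hψC : ∀ ψ : Cfsg.IrrCharacter D, Chr C (ext0 D (ψ : D → ℂ)) := fun ψ =>
    Chr.mono (B := D) (show Cfsg.IsCharacter D _ by rw [res_ext0]; exact irr_isCharacter ψ) hCD
  choose d hd using fun ψ : Cfsg.IrrCharacter D => mult_nat (hψC ψ) hφ
  refine ⟨Finset.univ, c, d, Finset.mem_univ, fun ψ => ?_, hd, ?_, ?_⟩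
  · rw [mult_eq, res_ext0]; exact hc ψ
  · have hexp : res C f =
        ∑ ψ : Cfsg.IrrCharacter D, (c ψ : ℂ) • res C (ext0 D (ψ : D → ℂ)) := by
      funext x
      have h := congrFun (classFun_eq_sum (char_isClassFunction hf)) ⟨x, hCD x.2⟩
      simp only [Finset.sum_apply, Pi.smul_apply, smul_eq_mul, hc] at h
      simp only [Finset.sum_apply, Pi.smul_apply, smul_eq_mul, res, ext0_apply D _ (hCD x.2)]
      exact h
    rw [mult_eq, hexp, classInner_sum_left]
    push_cast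
    exact Finset.sum_congr rfl fun ψ _ => by rw [classInner_smul_left, ← mult_eq, hd]
  · have h := congrFun (classFun_eq_sum (char_isClassFunction hf)) 1
    simp only [Finset.sum_apply, Pi.smul_apply, smul_eq_mul, hc] at h
    exact h

theorem mult_ne_of_mid {C D : Subgroup G} (hCD : C ≤ D) {f ψ φ : G → ℂ} (hf : Chr D f)
    (hψ : Irr D ψ) (hφ : Chr C φ) (h1 : mult D f ψ ≠ 0) (h2 : mult C ψ φ ≠ 0) :
    mult C f φ ≠ 0 := by
  classical
  obtain ⟨I, c, d, hI, hc, hd, hm, -⟩ := mult_expand hCD hf hφ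
  rw [hm, Nat.cast_ne_zero]
  intro h0
  have h := Finset.sum_eq_zero_iff.1 h0 ⟨res D ψ, hψ⟩ (hI _)
  have he : ∀ x ∈ D, ext0 D (res D ψ) x = ψ x := fun x hx => ext0_apply D _ hx
  rcases mul_eq_zero.1 h with h | h
  · exact h1 (by rw [← mult_congr (f := f) (fun _ _ => rfl) he, hc ⟨res D ψ, hψ⟩, h, Nat.cast_zero])
  · exact h2 (by
      rw [← mult_congr (g := φ) (fun x hx => he x (hCD hx)) (fun _ _ => rfl), hd ⟨res D ψ, hψ⟩, h,
        Nat.cast_zero])

/-- A `p'`-degree is inherited from a normal subgroup of `p'`-index. -/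
theorem not_dvd_degree [Fintype G] {L : Subgroup G} [L.Normal] (hidx : ¬ p ∣ L.index)
    (χ : Cfsg.IrrCharacter G) {ψ : G → ℂ} (hψ : Irr L ψ) (h : mult L (χ : G → ℂ) ψ ≠ 0) {a : ℕ}
    (ha : ψ 1 = (a : ℂ)) (hap : ¬ p ∣ a) : ¬ p ∣ Cfsg.charDegree (χ : G → ℂ) := by
  classical
  let T : Subgroup G := stab L ψ
  have hLT : L ≤ T := fun l hl => ⟨le_normalizer hl, hψ.inv_mem hl⟩
  haveI := Fintype.ofFinite T
  haveI := Fintype.ofFinite L
  haveI := Fintype.ofFinite (L.subgroupOf T)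
  rw [mult_eq] at h
  have hT : ∀ g : G, g ∈ T ↔ ∀ n : L,
      res L ψ ⟨g * n * g⁻¹, Subgroup.Normal.conj_mem inferInstance (n : G) n.2 g⟩ = res L ψ n :=
    fun g => ⟨fun hg n => hg.2 n n.2,
      fun hg => ⟨mem_normalizer_of_normal g, fun n hn => hg ⟨n, hn⟩⟩⟩
  obtain ⟨ψ', hψ', hind, hinner⟩ := S0854.result L (res L ψ) hψ T hT hLT (χ : G → ℂ) χ.2 h
  obtain ⟨c, hc⟩ := classInner_char_nat (isCharacter_restrict L (irr_isCharacter χ))
    (isCharacter_of_isIrr hψ)
  have hc0 : c ≠ 0 := fun h0 => h (by rw [show Cfsg.classInner (res L (χ : G → ℂ)) (res L ψ) = _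
    from hc, h0, Nat.cast_zero])
  set e := Subgroup.subgroupOfEquivOfLe hLT
  have hcT : Cfsg.classInner (fun n : L.subgroupOf T => ψ' n) (res L ψ ∘ e) = (c : ℂ) := by
    rw [← hc, ← hinner, show (fun n : L.subgroupOf T => ψ' n) =
      (fun n : L => ψ' ⟨(n : G), hLT n.2⟩) ∘ e from funext fun n => rfl,
      Basics.classInner_comp_equiv]
  have hθ' : Cfsg.IsIrrCharacter (L.subgroupOf T) (res L ψ ∘ e) :=
    (isIrrCharacter_comp_mulEquiv e).2 hψ
  have hinv : ∀ t : T, Clifford.conjBy (L.subgroupOf T) t (res L ψ ∘ e) = res L ψ ∘ e :=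
    fun t => funext fun n => t.2.2 _ n.2
  have hdvd := DegreeIndex.ramification_dvd_index (L.subgroupOf T) hθ' hinv hψ' hcT hc0
  have hψ1 : ψ' 1 = ((c * a : ℕ) : ℂ) := by
    have := congrFun (Clifford.restrict_eq_smul_of_invariant (L.subgroupOf T) hψ' hθ'
      (by rw [hcT]; exact Nat.cast_ne_zero.2 hc0) hinv) 1
    rw [hcT, Pi.smul_apply, smul_eq_mul] at this
    rw [Nat.cast_mul, ← ha]
    exact this
  have hdeg : Cfsg.charDegree (χ : G → ℂ) = T.index * (c * a) := by
    have h1 := congrFun hind 1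
    rw [indFun_one, hψ1] at h1
    have h2 : (Cfsg.charDegree (χ : G → ℂ) : ℂ) = ((T.index * (c * a) : ℕ) : ℂ) := by
      rw [BlocksChars.Degrees.charDegree_cast χ, ← h1]
      push_cast
      ring
    exact_mod_cast h2
  rw [hdeg]
  intro hd
  rcases hp.out.dvd_mul.1 hd with h1 | h1
  · exact hidx (h1.trans (Subgroup.index_dvd_of_le hLT))
  rcases hp.out.dvd_mul.1 h1 with h1 | h1
  · exact hidx ((h1.trans hdvd).trans (relIndex_dvd_index_of_normal L T))
  · exact hap h1

variable (p) in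
/-- The hypotheses of the coprime case. -/
structure Coprime (K S R : Subgroup G) : Prop where
  normal : K.Normal
  card : ¬ p ∣ Nat.card K
  pgroup : IsPGroup p S
  sylow : ¬ p ∣ S.index
  supNormal : (K ⊔ S).Normal
  central : R ≤ Subgroup.center G
  split : R ≤ (S ⊓ R) ⊔ (R ⊓ K)

/-- `λ` extends to a linear character of `S`. -/
def Cond (S R : Subgroup G) (lam : G → ℂ) : Prop :=
  ∃ ξ : S →* ℂˣ, ∀ z (hz : z ∈ S ⊓ R), (ξ ⟨z, hz.1⟩ : ℂ) = lam z

/-- `χ` lies over the linear character `λ` of `R`. -/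
def Lam (R : Subgroup G) (lam : G → ℂ) (χ : G → ℂ) : Prop := ∀ r ∈ R, χ r = lam r * χ 1

/-- The subgroup the counted characters are determined on. -/
def base (K S R : Subgroup G) : Subgroup G := K ⊔ ⁅K ⊔ S, K ⊔ S⁆ ⊔ (S ⊓ R)

theorem base_normal {K S R : Subgroup G} (hS : Coprime p K S R) : (base K S R).Normal := by
  haveI := hS.normal
  haveI := hS.supNormal
  haveI : (S ⊓ R).Normal := ⟨fun z hz g => by
    rwa [Subgroup.mem_center_iff.1 (hS.central hz.2) g, mul_inv_cancel_right]⟩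
  unfold base
  infer_instance

theorem base_le {K S R : Subgroup G} : base K S R ≤ K ⊔ S :=
  sup_le (sup_le le_sup_left (commutator_le_self _)) (inf_le_left.trans le_sup_right)

theorem not_dvd_index {K S R : Subgroup G} (hS : Coprime p K S R) : ¬ p ∣ (K ⊔ S).index :=
  fun h => hS.sylow (h.trans (Subgroup.index_dvd_of_le le_sup_right))

variable {K S R : Subgroup G} (hS : Coprime p K S R) {θ lam : G → ℂ} (hθ : Irr K θ)
  (hinv : ∀ g, Inv K θ g)
  (hlam : ∀ a ∈ R, ∀ b ∈ R, lam (a * b) = lam a * lam b)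
  (hcompat : ∀ r ∈ R ⊓ K, θ r = lam r * θ 1)

include hS hθ hinv in
/-- The canonical extension, twisted onto `λ` on `S ∩ R` when possible, and the criterion. -/
theorem exists_twist : ∃ e : G → ℂ, Irr (K ⊔ S) e ∧ (∀ k ∈ K, e k = θ k) ∧
    (∀ g, Inv (K ⊔ S) e g) ∧ ∃ γ : S →* ℂˣ, ∀ z (hz : z ∈ S ⊓ R), ∀ h ∈ K ⊔ S,
      e (z * h) = (γ ⟨z, hz.1⟩ : ℂ) * e h := by
  classical
  haveI := hS.normal
  haveI := hS.supNormal
  haveI := Fintype.ofFinite G
  set L := K ⊔ S with hLdef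
  have hrel : ∃ k, K.relIndex L = p ^ k := by
    obtain ⟨k, hk⟩ := hS.pgroup.exists_card_eq
    have h : K.relIndex L ∣ p ^ k := by
      rw [hLdef, Subgroup.relIndex_sup_left, ← hk]
      exact Subgroup.index_dvd_card _
    obtain ⟨j, -, hj⟩ := (Nat.dvd_prime_pow hp.out).1 h
    exact ⟨j, hj⟩
  obtain ⟨φ, hφ, hφK, hφi⟩ := RegularSupport.exists_invariant_extension L K le_sup_left (θ := res K θ)
    (by
      obtain ⟨k, hk⟩ := hrel
      rw [hk]
      exact Nat.Coprime.pow_left k ((Nat.Prime.coprime_iff_not_dvd hp.out).2 hS.card)) hθ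
    (fun g => funext fun k => hinv g k k.2)
  let e := ext0 L φ
  have he : Irr L e := by rw [Irr, res_ext0]; exact hφ
  have heK : ∀ k ∈ K, e k = θ k := fun k hk => by
    rw [show e k = φ ⟨k, (le_sup_left : K ≤ L) hk⟩ from ext0_apply L φ _]
    exact hφK ⟨k, hk⟩
  have hei : ∀ g, Inv L e g := fun g h hh => by
    rw [show e (g * h * g⁻¹) = φ ⟨_, Subgroup.Normal.conj_mem inferInstance h hh g⟩ from
      ext0_apply L φ _, show e h = φ ⟨h, hh⟩ from ext0_apply L φ hh]
    exact congrFun (hφi g) ⟨h, hh⟩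
  -- a linear constituent on `S`
  obtain ⟨I, c, d, -, hc, -, -, h1⟩ := mult_expand (C := S) (D := S) le_rfl
    (he.chr.mono le_sup_right) (he.chr.mono le_sup_right)
  obtain ⟨a, ha0, ha⟩ := irr_one_pos hθ
  have hap : ¬ p ∣ a := fun hd => by
    obtain ⟨b, hb, -, hdvd⟩ := irr_degree_dvd_card hθ
    rw [show b = a by exact_mod_cast hb.symm.trans ha] at hdvd
    exact hS.card (hd.trans hdvd)
  choose b hb using fun ψ : Cfsg.IrrCharacter S => char_one_nat (irr_isCharacter ψ)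
  have hsum : a = ∑ ψ ∈ I, c ψ * b ψ := by
    have h2 : (a : ℂ) = ((∑ ψ ∈ I, c ψ * b ψ : ℕ) : ℂ) := by
      push_cast
      rw [← ha, show res K θ 1 = e 1 from (heK 1 K.one_mem).symm, h1]
      exact Finset.sum_congr rfl fun ψ _ => by rw [hb]
    exact_mod_cast h2
  obtain ⟨ψ, -, hψ⟩ : ∃ ψ ∈ I, ¬ p ∣ c ψ * b ψ := by
    by_contra hcon
    push Not at hcon
    exact hap (hsum ▸ Finset.dvd_sum hcon)
  have hb1 : (ψ : S → ℂ) 1 = 1 := by
    obtain ⟨k, hk⟩ := hS.pgroup.exists_card_eq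
    obtain ⟨b', hb', -, hdvd⟩ := irr_degree_dvd_card ψ.2
    rw [hk, show b' = b ψ by exact_mod_cast hb'.symm.trans (hb ψ)] at hdvd
    obtain ⟨j, -, hj⟩ := (Nat.dvd_prime_pow hp.out).1 hdvd
    rcases Nat.eq_zero_or_pos j with rfl | hj0
    · rw [hb, hj, pow_zero, Nat.cast_one]
    · exact absurd (Dvd.dvd.mul_left (hj ▸ dvd_pow_self p hj0.ne') (c ψ)) hψ
  obtain ⟨γ, hγ⟩ := ExtendChar.exists_hom (irr_isCharacter ψ) hb1
  have hm0 : mult S e (ext0 S (ψ : S → ℂ)) ≠ 0 := by
    rw [hc]; exact Nat.cast_ne_zero.2 fun h0 => hψ (by rw [h0, zero_mul]; exact dvd_zero p)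
  refine ⟨e, he, heK, hei, γ, fun z hz h hh => ?_⟩
  obtain ⟨ω, hω⟩ := central_scalar he ((le_sup_right : S ≤ L) hz.1) fun h _ =>
    Subgroup.mem_center_iff.1 (hS.central hz.2) h
  have key : ω = (γ ⟨z, hz.1⟩ : ℂ) := by
    haveI := Fintype.ofFinite S
    rw [mult_eq, res_ext0, classInner_def] at hm0
    have hs : ∑ s : S, res S e s * conj ((ψ : S → ℂ) s) =
        ω * conj (γ ⟨z, hz.1⟩ : ℂ) * ∑ s : S, res S e s * conj ((ψ : S → ℂ) s) := by
      conv_lhs => rw [← Fintype.sum_equiv (Equiv.mulLeft (⟨z, hz.1⟩ : S))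
        (fun s => res S e (⟨z, hz.1⟩ * s) * conj ((ψ : S → ℂ) (⟨z, hz.1⟩ * s))) _ (fun s => rfl)]
      rw [Finset.mul_sum]
      refine Finset.sum_congr rfl fun s _ => ?_
      rw [← hγ, ← hγ, map_mul, Units.val_mul, map_mul,
        show res S e (⟨z, hz.1⟩ * s) = ω * e s from hω s ((le_sup_right : S ≤ L) s.2)]
      simp only [res]
      ring
    have h2 : ω * conj (γ ⟨z, hz.1⟩ : ℂ) = 1 :=
      mul_right_cancel₀ (right_ne_zero_of_mul hm0) (hs.symm.trans (one_mul _).symm)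
    have h3 : (γ ⟨z, hz.1⟩ : ℂ) * conj (γ ⟨z, hz.1⟩ : ℂ) = 1 := by
      rw [Complex.mul_conj']; simp [linear_norm_eq_one]
    calc ω = ω * ((γ ⟨z, hz.1⟩ : ℂ) * conj (γ ⟨z, hz.1⟩ : ℂ)) := by rw [h3, mul_one]
      _ = (ω * conj (γ ⟨z, hz.1⟩ : ℂ)) * γ ⟨z, hz.1⟩ := by ring
      _ = γ ⟨z, hz.1⟩ := by rw [h2, one_mul]
  rw [hω h hh, key]

include hS in
/-- Homomorphisms of `S` extend to `K S`, trivially on `K`. -/
theorem exists_hom_sup (ξ : S →* ℂˣ) : ∃ Ξ : ↥(K ⊔ S) →* ℂˣ,
    (∀ k, k ∈ K → ∀ h : k ∈ K ⊔ S, Ξ ⟨k, h⟩ = 1) ∧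
      ∀ s (hs : s ∈ S) (h : s ∈ K ⊔ S), Ξ ⟨s, h⟩ = ξ ⟨s, hs⟩ := by
  haveI := hS.normal
  set L := K ⊔ S
  let q : S →* L ⧸ K.subgroupOf L :=
    (QuotientGroup.mk' (K.subgroupOf L)).comp (Subgroup.inclusion le_sup_right)
  have hinj : Function.Injective q := by
    rw [injective_iff_map_eq_one]
    intro s hs
    have hsK : (s : G) ∈ K := mem_subgroupOf.1
      ((QuotientGroup.eq_one_iff (Subgroup.inclusion (le_sup_right : S ≤ L) s)).1 hs)
    obtain ⟨k, hk⟩ := hS.pgroup s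
    obtain ⟨j, -, hj⟩ := (Nat.dvd_prime_pow hp.out).1 (orderOf_dvd_of_pow_eq_one hk)
    rcases Nat.eq_zero_or_pos j with rfl | hj0
    · rwa [pow_zero, orderOf_eq_one_iff] at hj
    · refine absurd ((dvd_pow_self p hj0.ne').trans ?_) hS.card
      rw [← hj, ← Subgroup.orderOf_coe, ← Subgroup.orderOf_mk (s : G) hsK]
      exact orderOf_dvd_natCard _
  have hsurj : Function.Surjective q := by
    intro z
    induction z using QuotientGroup.induction_on with | _ g => ?_
    obtain ⟨k, hk, s, hs, he⟩ := Subgroup.mem_sup_of_normal_left.1 g.2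
    refine ⟨⟨s, hs⟩, ?_⟩
    refine QuotientGroup.eq.2 ?_
    rw [mem_subgroupOf]
    show s⁻¹ * (g : G) ∈ K
    rw [← he, ← mul_assoc]
    simpa using hS.normal.conj_mem k hk s⁻¹
  let eq := MulEquiv.ofBijective q ⟨hinj, hsurj⟩
  refine ⟨(ξ.comp eq.symm.toMonoidHom).comp (QuotientGroup.mk' _), fun k hk _ => ?_, fun s hs _ => ?_⟩
  · rw [MonoidHom.comp_apply, show QuotientGroup.mk' (K.subgroupOf L)
      (⟨k, (le_sup_left : K ≤ L) hk⟩ : L) = 1 from (QuotientGroup.eq_one_iff _).2 hk, map_one]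
  · show ξ (eq.symm (q ⟨s, hs⟩)) = ξ ⟨s, hs⟩
    rw [show eq.symm (q ⟨s, hs⟩) = ⟨s, hs⟩ from eq.symm_apply_apply ⟨s, hs⟩]

include hS hlam hcompat in
theorem lam_of_parts (χ : Cfsg.IrrCharacter G) (hK : mult K (χ : G → ℂ) θ ≠ 0)
    (hθ : Irr K θ) (hinv : ∀ g, Inv K θ g)
    (hSR : ∀ z ∈ S ⊓ R, (χ : G → ℂ) z = lam z * (χ : G → ℂ) 1) : Lam R lam (χ : G → ℂ) := by
  haveI := hS.normal
  haveI := Fintype.ofFinite G
  haveI := Fintype.ofFinite K
  intro r hr
  obtain ⟨z, hz, k, hk, rfl⟩ : ∃ z ∈ S ⊓ R, ∃ k ∈ R ⊓ K, z * k = r := by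
    have h1 : S ⊓ R ≤ normalizer ((R ⊓ K : Subgroup G) : Set G) := fun z hz => by
      rw [mem_normalizer_iff]
      intro h
      rw [show z * h * z⁻¹ = h by
        rw [← Subgroup.mem_center_iff.1 (hS.central hz.2) h, mul_inv_cancel_right]]
    have h2 := hS.split hr
    rw [← SetLike.mem_coe, coe_mul_of_left_le_normalizer_right _ _ h1] at h2
    obtain ⟨z, hz, k, hk, he⟩ := h2
    exact ⟨z, hz, k, hk, he⟩
  have hχ : Irr ⊤ (χ : G → ℂ) :=
    (isIrrCharacter_comp_mulEquiv Subgroup.topEquiv).2 χ.2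
  obtain ⟨ω, hω⟩ := central_scalar hχ (mem_top z) fun h _ =>
    Subgroup.mem_center_iff.1 (hS.central hz.2) h
  have hω1 : ω = lam z := by
    have h := hω 1 (mem_top _)
    rw [mul_one, hSR z hz] at h
    exact (mul_right_cancel₀ (irr_one_ne_zero χ.2) h).symm
  have hres : ∀ x (hx : x ∈ K), (χ : G → ℂ) x = mult K (χ : G → ℂ) θ * θ x := fun x hx => by
    rw [mult_eq]
    exact congrFun (Clifford.restrict_eq_smul_of_invariant K χ.2 hθ (by rwa [mult_eq] at hK)
      fun g => funext fun n => hinv g n n.2) ⟨x, hx⟩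
  rw [hω k (mem_top _), hω1, hres k hk.2, hcompat k hk, hlam z hz.2 k hk.1,
    hres 1 K.one_mem]
  ring

include hS hθ hinv hlam hcompat in
/-- The count, when `λ` extends. -/
theorem count_eq (hcond : Cond S R lam) : ∃ τ : G → ℂ,
    Irr (base K S R) τ ∧ (∀ k ∈ K, τ k = θ k) ∧ (∀ g, Inv (base K S R) τ g) ∧
    (∃ ê : G → ℂ, Irr (K ⊔ S) ê ∧ ∀ m ∈ base K S R, ê m = τ m) ∧
    Nat.card {χ : Cfsg.IrrCharacter G // ¬ p ∣ Cfsg.charDegree (χ : G → ℂ) ∧
      mult K (χ : G → ℂ) θ ≠ 0 ∧ Lam R lam (χ : G → ℂ)} =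
    Nat.card {χ : Cfsg.IrrCharacter G // mult (base K S R) (χ : G → ℂ) τ ≠ 0} := by
  classical
  haveI := hS.normal
  haveI := hS.supNormal
  haveI := base_normal hS
  haveI := Fintype.ofFinite G
  obtain ⟨e, he, heK, hei, γ, hγ⟩ := exists_twist hS hθ hinv
  obtain ⟨ξ, hξ⟩ := hcond
  obtain ⟨Ξ, hΞK, hΞS⟩ := exists_hom_sup hS (ξ / γ)
  have hKM : K ≤ base K S R := le_sup_left.trans le_sup_left
  have hML : base K S R ≤ K ⊔ S := base_le
  have hML' : ⁅K ⊔ S, K ⊔ S⁆ ≤ base K S R := le_sup_right.trans le_sup_left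
  have hMle : ∀ X : Subgroup G, K ≤ X → ⁅K ⊔ S, K ⊔ S⁆ ≤ X → S ⊓ R ≤ X → base K S R ≤ X :=
    fun X h1 h2 h3 => sup_le (sup_le h1 h2) h3
  have hKL : K ≤ K ⊔ S := le_sup_left
  have hSL : S ≤ K ⊔ S := le_sup_right
  have hidx := not_dvd_index hS
  have hrel : K.relIndex (K ⊔ S) ∣ Nat.card S := by
    rw [Subgroup.relIndex_sup_left]
    exact Subgroup.index_dvd_card _
  generalize hLdef : K ⊔ S = L at *
  set M := base K S R with hMdef
  haveI := Fintype.ofFinite L
  let τ : G → ℂ := ext0 L fun g => (Ξ g : ℂ) * e g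
  have hτv : ∀ (g : G) (hg : g ∈ L), τ g = (Ξ ⟨g, hg⟩ : ℂ) * e g := fun g hg => ext0_apply L _ hg
  have hτL : Irr L τ := by
    rw [Irr, res_ext0]
    exact Basics.isIrr_mul_linear he (isCharacter_linear Ξ) (by simp) |> fun h => by
      refine (congrArg (Cfsg.IsIrrCharacter L) (funext fun g => ?_)).mp h
      simp [res, mul_comm]
  have hτK : ∀ k ∈ K, τ k = θ k := fun k hk => by
    rw [hτv k (hKL hk), hΞK k hk, Units.val_one, one_mul, heK k hk]
  have hτM : Irr M τ := irr_of_restrict hKM (hτL.chr.mono hML) hθ hτK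
  have hτz : ∀ z ∈ S ⊓ R, τ z = lam z * θ 1 := fun z hz => by
    have h := hγ z hz 1 L.one_mem
    rw [mul_one, heK 1 K.one_mem] at h
    rw [hτv z (hSL hz.1), hΞS z hz.1, h, ← hξ z hz, ← mul_assoc]
    congr 1
    rw [MonoidHom.div_apply, Units.val_div_eq_div_val, div_mul_cancel₀ _ (Units.ne_zero _)]
  -- a linear character of `L` trivial on `K` and on `S ∩ R` is trivial on `M`
  have hlinM : ∀ f : L →* ℂˣ, (∀ k (hk : k ∈ K), f ⟨k, hKL hk⟩ = 1) →
      (∀ z (hz : z ∈ S ⊓ R), f ⟨z, hSL hz.1⟩ = 1) →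
      ∀ m (hm : m ∈ M), f ⟨m, hML hm⟩ = 1 := by
    intro f h1 h2 m hm
    have hle : M ≤ f.ker.map L.subtype := by
      refine hMle _ (fun k hk => ⟨⟨k, _⟩, h1 k hk, rfl⟩) ?_
        (fun z hz => ⟨⟨z, _⟩, h2 z hz, rfl⟩)
      rw [show ⁅L, L⁆ = (commutator L).map L.subtype from (Subgroup.map_subtype_commutator L).symm]
      exact map_mono (Abelianization.commutator_subset_ker f)
    obtain ⟨m', hm', rfl⟩ := hle hm
    exact hm'
  have hτi : ∀ g, Inv M τ g := by
    intro g m hm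
    have hgm : g * m * g⁻¹ ∈ L := Subgroup.Normal.conj_mem inferInstance m (hML hm) g
    rw [hτv _ hgm, hτv m (hML hm), hei g m (hML hm)]
    congr 1
    let c : L →* L := (MulAut.conjNormal g : L ≃* L).toMonoidHom
    have h := hlinM ((Ξ.comp c) / Ξ) (fun k hk => by
        rw [MonoidHom.div_apply, MonoidHom.comp_apply, hΞK k hk, div_one]
        exact hΞK _ (hS.normal.conj_mem k hk g) _) (fun z hz => by
        rw [MonoidHom.div_apply, MonoidHom.comp_apply, div_eq_one]
        exact congrArg Ξ (Subtype.ext (by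
          show g * z * g⁻¹ = z
          rw [Subgroup.mem_center_iff.1 (hS.central hz.2) g, mul_inv_cancel_right]))) m hm
    rw [MonoidHom.div_apply, div_eq_one] at h
    exact congrArg Units.val h
  refine ⟨τ, hτM, hτK, hτi, ⟨τ, hτL, fun _ _ => rfl⟩,
    Nat.card_congr (Equiv.subtypeEquivRight fun χ => ?_)⟩
  have hχL : Chr L (χ : G → ℂ) := isCharacter_restrict L (irr_isCharacter χ)
  have hχ1 : (χ : G → ℂ) 1 ≠ 0 := irr_one_ne_zero χ.2
  constructor
  · rintro ⟨hdeg, hK, hL⟩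
    obtain ⟨I, c, d, -, hc, -, -, h1⟩ := mult_expand (C := L) le_rfl hχL hχL
    choose b hb using fun ψ : Cfsg.IrrCharacter L => char_one_nat (irr_isCharacter ψ)
    have hsum : Cfsg.charDegree (χ : G → ℂ) = ∑ ψ ∈ I, c ψ * b ψ := by
      have h2 : (Cfsg.charDegree (χ : G → ℂ) : ℂ) = ((∑ ψ ∈ I, c ψ * b ψ : ℕ) : ℂ) := by
        push_cast
        rw [BlocksChars.Degrees.charDegree_cast χ, h1]
        exact Finset.sum_congr rfl fun ψ _ => by rw [hb]
      exact_mod_cast h2
    obtain ⟨ψ, -, hψ⟩ : ∃ ψ ∈ I, ¬ p ∣ c ψ * b ψ := by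
      by_contra hcon
      push Not at hcon
      exact hdeg (hsum ▸ Finset.dvd_sum hcon)
    set f := ext0 L (ψ : L → ℂ)
    have hf : Irr L f := by rw [Irr, res_ext0]; exact ψ.2
    have hfm : mult L (χ : G → ℂ) f ≠ 0 := by
      rw [hc]; exact Nat.cast_ne_zero.2 fun h0 => hψ (by rw [h0, zero_mul]; exact dvd_zero p)
    -- it lies over `θ`
    haveI := Fintype.ofFinite K
    have hfK : mult K f θ ≠ 0 := by
      obtain ⟨φ, hφ, hne⟩ := Ito.exists_constituent (hf.chr.mono hKL)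
        (by simpa [res] using hf.one_ne)
      have h1' : mult K f (ext0 K φ) ≠ 0 := by rw [mult_eq, res_ext0]; exact hne
      have h2' := mult_ne_of_mid hKL hχL hf
        (show Chr K (ext0 K φ) by rw [Chr, res_ext0]; exact isCharacter_of_isIrr hφ) hfm h1'
      rw [mult_eq, res_ext0, show res K (χ : G → ℂ) = _ from
        Clifford.restrict_eq_smul_of_invariant K χ.2 hθ (by rwa [mult_eq] at hK)
          fun g => funext fun n => hinv g n n.2, classInner_smul_left] at h2'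
      have heq : res K θ = φ :=
        by_contra fun h' => right_ne_zero_of_mul h2' (classInner_isIrr_ne hθ hφ h')
      rw [mult_eq, heq, ← res_ext0 K φ, ← mult_eq]
      exact h1'
    -- so it is a linear multiple of the canonical extension
    haveI : (K.subgroupOf L).Normal := normal_subgroupOf_of_le_normalizer
      (by rw [Subgroup.normalizer_eq_top]; exact le_top)
    haveI := Fintype.ofFinite (K.subgroupOf L)
    set eK := Subgroup.subgroupOfEquivOfLe hKL
    have heθ : (fun n : K.subgroupOf L => res L e n) = res K θ ∘ eK := funext fun n => heK _ n.2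
    have hg := Average.gallagher (K.subgroupOf L) he
      (heθ ▸ (isIrrCharacter_comp_mulEquiv eK).2 hθ) hf (by
        rw [heθ, show (fun n : K.subgroupOf L => res L f n) = res K f ∘ eK from funext fun n => rfl,
          Basics.classInner_comp_equiv, ← mult_eq]
        exact hfK)
    set β := Average.quotChar (K.subgroupOf L) (res L e) (res L f)
    obtain ⟨nβ, hnβ, -, hβd⟩ := irr_degree_dvd_card hg.1
    have hb' : b ψ = nβ * Cfsg.charDegree (θ ·) := by
      have h := congrFun hg.2 1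
      rw [Pi.mul_apply, hnβ, show res L e 1 = θ 1 from heK 1 K.one_mem, res_ext0, hb] at h
      obtain ⟨a, -, ha⟩ := irr_one_pos hθ
      rw [show θ 1 = (a : ℂ) from ha, ← Nat.cast_mul] at h
      have h' : nβ * a = b ψ := by exact_mod_cast h
      rw [← h', Cfsg.charDegree, show θ 1 = (a : ℂ) from ha]
      simp
    have hβ1 : β 1 = 1 := by
      obtain ⟨β', -, hβ', hβi⟩ := exists_deflate_quotient (K.subgroupOf L)
        (isCharacter_of_isIrr hg.1) (fun n hn => by
          have := Average.quotChar_mul_left (K.subgroupOf L) (res L e) (res L f) ⟨n, hn⟩ 1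
          simpa using this)
      obtain ⟨k, hk⟩ := hS.pgroup.exists_card_eq
      have hcard : Nat.card (L ⧸ K.subgroupOf L) ∣ p ^ k := by
        rw [← hk]; exact hrel
      obtain ⟨m, hm, -, hmd⟩ := irr_degree_dvd_card (hβi hg.1)
      have hmn : m = nβ := by
        have : (m : ℂ) = nβ := by rw [← hm, ← hnβ]; exact hβ' 1
        exact_mod_cast this
      obtain ⟨j, -, hj⟩ := (Nat.dvd_prime_pow hp.out).1 ((hmn ▸ hmd).trans hcard)
      rcases Nat.eq_zero_or_pos j with rfl | hj0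
      · rw [hnβ, hj, pow_zero, Nat.cast_one]
      · exact absurd (Dvd.dvd.mul_left (hb' ▸ Dvd.dvd.mul_right (hj ▸ dvd_pow_self p hj0.ne') _)
          (c ψ)) hψ
    obtain ⟨δ, hδ⟩ := ExtendChar.exists_hom (isCharacter_of_isIrr hg.1) hβ1
    have hfv : ∀ (g : G) (hgL : g ∈ L), f g = (δ ⟨g, hgL⟩ : ℂ) * e g := fun g hgL => by
      rw [hδ]; exact (congrFun hg.2 ⟨g, hgL⟩).symm
    have hδK : ∀ k (hk : k ∈ K), δ ⟨k, hKL hk⟩ = 1 := fun k hk => Units.ext (by
      rw [hδ, Units.val_one]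
      have := Average.quotChar_mul_left (K.subgroupOf L) (res L e) (res L f)
        ⟨⟨k, hKL hk⟩, hk⟩ 1
      rw [mul_one] at this
      exact this.trans hβ1)
    have hfM : ∀ m ∈ M, f m = τ m := by
      have hmain := hlinM (δ / Ξ) (fun k hk => by
        rw [MonoidHom.div_apply, hδK k hk, hΞK k hk, div_one]) (fun z hz => by
        rw [MonoidHom.div_apply, div_eq_one]
        apply Units.ext
        have hzL : z ∈ L := hSL hz.1
        obtain ⟨ω, hω⟩ := central_scalar (show Irr ⊤ (χ : G → ℂ) from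
          (isIrrCharacter_comp_mulEquiv Subgroup.topEquiv).2 χ.2) (mem_top z)
          fun h _ => Subgroup.mem_center_iff.1 (hS.central hz.2) h
        have hω1 : ω = lam z := by
          have h := hω 1 (mem_top _)
          rw [mul_one, hL z hz.2] at h
          exact (mul_right_cancel₀ hχ1 h).symm
        obtain ⟨ω', hω'⟩ := central_scalar hf hzL fun h _ =>
          Subgroup.mem_center_iff.1 (hS.central hz.2) h
        -- the two scalars agree on a constituent
        haveI := Fintype.ofFinite L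
        have hs : ∑ g : L, res L (χ : G → ℂ) g * conj (res L f g) =
            ω * conj ω' * ∑ g : L, res L (χ : G → ℂ) g * conj (res L f g) := by
          conv_lhs => rw [← Fintype.sum_equiv (Equiv.mulLeft (⟨z, hzL⟩ : L))
            (fun g => res L (χ : G → ℂ) (⟨z, hzL⟩ * g) * conj (res L f (⟨z, hzL⟩ * g))) _
            (fun g => rfl)]
          rw [Finset.mul_sum]
          refine Finset.sum_congr rfl fun g _ => ?_
          rw [show res L (χ : G → ℂ) (⟨z, hzL⟩ * g) = ω * (χ : G → ℂ) g from hω g (mem_top _),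
            show res L f (⟨z, hzL⟩ * g) = ω' * f g from hω' g g.2, map_mul]
          show _ = _ * ((χ : G → ℂ) g * conj (f g))
          ring
        have hne : ∑ g : L, res L (χ : G → ℂ) g * conj (res L f g) ≠ 0 := by
          have h' := hfm
          rw [mult_eq, classInner_def] at h'
          exact right_ne_zero_of_mul h'
        have h2 : ω * conj ω' = 1 := mul_right_cancel₀ hne (hs.symm.trans (one_mul _).symm)
        have hω'v : ω' = (δ ⟨z, hzL⟩ : ℂ) * (γ ⟨z, hz.1⟩ : ℂ) := by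
          have h3 := hω' 1 L.one_mem
          have h4 : f 1 = e 1 := by
            rw [hfv 1 L.one_mem, show (⟨1, L.one_mem⟩ : L) = 1 from rfl, map_one, Units.val_one,
              one_mul]
          have h5 := hγ z hz 1 L.one_mem
          rw [mul_one] at h3 h5
          rw [hfv z hzL, h5, h4, ← mul_assoc] at h3
          exact (mul_right_cancel₀ (he.one_ne) h3).symm
        have hunit : ω' * conj ω' = 1 := by
          rw [hω'v, Complex.mul_conj', norm_mul, linear_norm_eq_one, linear_norm_eq_one]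
          simp
        have hωeq : ω' = ω := by
          calc ω' = ω * conj ω' * ω' := by rw [h2, one_mul]
            _ = ω * (ω' * conj ω') := by ring
            _ = ω := by rw [hunit, mul_one]
        rw [hΞS z hz.1, MonoidHom.div_apply, Units.val_div_eq_div_val,
          eq_div_iff (Units.ne_zero _), ← hω'v, hωeq, hω1, hξ z hz])
      intro m hm
      have h := hmain m hm
      rw [MonoidHom.div_apply, div_eq_one] at h
      rw [hfv m (hML hm), hτv m (hML hm), h]
    refine mult_ne_of_mid hML hχL hf hτM.chr hfm ?_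
    rw [mult_congr hfM (fun _ _ => rfl), mult_irr_self hτM]
    exact one_ne_zero
  · intro hM
    haveI := Fintype.ofFinite M
    haveI := Fintype.ofFinite K
    have hres : ∀ m ∈ M, (χ : G → ℂ) m = mult M (χ : G → ℂ) τ * τ m := fun m hm => by
      rw [mult_eq]
      exact congrFun (Clifford.restrict_eq_smul_of_invariant M χ.2 hτM
        (by rwa [mult_eq] at hM) fun g => funext fun n => hτi g n n.2) ⟨m, hm⟩
    have hmK : mult K (χ : G → ℂ) θ ≠ 0 := by
      refine mult_ne_of_mid hKM (isCharacter_restrict M (irr_isCharacter χ)) hτM hθ.chr hM ?_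
      rw [mult_congr hτK (fun _ _ => rfl), mult_irr_self hθ]
      exact one_ne_zero
    refine ⟨?_, hmK, lam_of_parts hS hlam hcompat χ hmK hθ hinv fun z hz => ?_⟩
    · obtain ⟨φ, hφ, hne⟩ := Ito.exists_constituent hχL (by simpa [res] using hχ1)
      set f := ext0 L φ
      have hf : Irr L f := by rw [Irr, res_ext0]; exact hφ
      have hfm : mult L (χ : G → ℂ) f ≠ 0 := by rw [mult_eq, res_ext0]; exact hne
      haveI : (M.subgroupOf L).Normal := normal_subgroupOf_of_le_normalizer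
        (by rw [Subgroup.normalizer_eq_top]; exact le_top)
      haveI := Fintype.ofFinite (M.subgroupOf L)
      set eM := Subgroup.subgroupOfEquivOfLe hML
      obtain ⟨φ', hφ', hne'⟩ := Ito.exists_constituent (hf.chr.mono hML)
        (by simpa [res] using hf.one_ne)
      have h1' : mult M f (ext0 M φ') ≠ 0 := by rw [mult_eq, res_ext0]; exact hne'
      have h2' := mult_ne_of_mid hML hχL hf
        (show Chr M (ext0 M φ') by rw [Chr, res_ext0]; exact isCharacter_of_isIrr hφ') hfm h1'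
      rw [mult_eq, res_ext0, show res M (χ : G → ℂ) = _ from
        funext (fun m : M => hres m m.2), show (fun m : M => mult M (χ : G → ℂ) τ * τ m) =
        mult M (χ : G → ℂ) τ • res M τ from rfl, classInner_smul_left] at h2'
      have heq : res M τ = φ' :=
        by_contra fun h' => right_ne_zero_of_mul h2' (classInner_isIrr_ne hτM hφ' h')
      have hfτ : mult M f τ ≠ 0 := by
        rw [mult_eq, heq, ← res_ext0 M φ', ← mult_eq]
        exact h1'
      have hτn : (fun n : M.subgroupOf L => res L τ n) = res M τ ∘ eM := funext fun n => rfl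
      have hg := Average.gallagher (M.subgroupOf L) hτL
        (hτn ▸ (isIrrCharacter_comp_mulEquiv eM).2 hτM) hf (by
          rw [hτn, show (fun n : M.subgroupOf L => res L f n) = res M f ∘ eM from funext fun n => rfl,
            Basics.classInner_comp_equiv, ← mult_eq]
          exact hfτ)
      obtain ⟨β', -, hβ', hβi⟩ := exists_deflate_quotient (M.subgroupOf L)
        (isCharacter_of_isIrr hg.1) (fun n hn => by
          have := Average.quotChar_mul_left (M.subgroupOf L) (res L τ) (res L f) ⟨n, hn⟩ 1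
          simpa using this)
      have hcomm : ∀ a b : L ⧸ M.subgroupOf L, a * b = b * a := by
        intro a b
        induction a using QuotientGroup.induction_on with | _ a => ?_
        induction b using QuotientGroup.induction_on with | _ b => ?_
        rw [← QuotientGroup.mk_mul, ← QuotientGroup.mk_mul, QuotientGroup.eq, mem_subgroupOf]
        have hmem : ⁅((b : G))⁻¹, ((a : G))⁻¹⁆ ∈ M := hML' (commutator_mem_commutator (L.inv_mem b.2) (L.inv_mem a.2))
        simpa [commutatorElement_def, mul_assoc] using hmem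
      have hq1 : Average.quotChar (M.subgroupOf L) (res L τ) (res L f) 1 = 1 :=
        (hβ' 1).symm.trans (irr_degree_one_of_comm hcomm (hβi hg.1))
      have hf1 : f 1 = θ 1 := by
        have h := congrFun hg.2 1
        rw [Pi.mul_apply, hq1, one_mul] at h
        exact (show res L f 1 = res L τ 1 from h.symm).trans (hτK 1 K.one_mem)
      obtain ⟨a, ha, -, had⟩ := irr_degree_dvd_card hθ
      exact not_dvd_degree hidx χ hf hfm (hf1.trans ha)
        fun hd => hS.card (hd.trans had)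
    · rw [hres z ((le_sup_right : S ⊓ R ≤ M) hz), hτz z hz, hres 1 M.one_mem,
        hτK 1 K.one_mem]
      ring

include hS hθ hinv in
/-- Nothing is counted when `λ` does not extend. -/
theorem count_zero (hcond : ¬ Cond S R lam) :
    Nat.card {χ : Cfsg.IrrCharacter G // ¬ p ∣ Cfsg.charDegree (χ : G → ℂ) ∧
      mult K (χ : G → ℂ) θ ≠ 0 ∧ Lam R lam (χ : G → ℂ)} = 0 := by
  classical
  refine Nat.card_eq_zero.2 (Or.inl ⟨fun ⟨χ, hdeg, _, hL⟩ => hcond ?_⟩)
  haveI := Fintype.ofFinite S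
  have hχS : Chr S (χ : G → ℂ) := isCharacter_restrict S (irr_isCharacter χ)
  obtain ⟨I, c, d, -, hc, -, -, h1⟩ := mult_expand (C := S) le_rfl hχS hχS
  choose b hb using fun ψ : Cfsg.IrrCharacter S => char_one_nat (irr_isCharacter ψ)
  have hsum : Cfsg.charDegree (χ : G → ℂ) = ∑ ψ ∈ I, c ψ * b ψ := by
    have h2 : (Cfsg.charDegree (χ : G → ℂ) : ℂ) = ((∑ ψ ∈ I, c ψ * b ψ : ℕ) : ℂ) := by
      push_cast
      rw [BlocksChars.Degrees.charDegree_cast χ, h1]
      exact Finset.sum_congr rfl fun ψ _ => by rw [hb]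
    exact_mod_cast h2
  obtain ⟨ψ, -, hψ⟩ : ∃ ψ ∈ I, ¬ p ∣ c ψ * b ψ := by
    by_contra hcon
    push Not at hcon
    exact hdeg (hsum ▸ Finset.dvd_sum hcon)
  have hb1 : (ψ : S → ℂ) 1 = 1 := by
    obtain ⟨k, hk⟩ := hS.pgroup.exists_card_eq
    obtain ⟨b', hb', -, hdvd⟩ := irr_degree_dvd_card ψ.2
    rw [hk, show b' = b ψ by exact_mod_cast hb'.symm.trans (hb ψ)] at hdvd
    obtain ⟨j, -, hj⟩ := (Nat.dvd_prime_pow hp.out).1 hdvd
    rcases Nat.eq_zero_or_pos j with rfl | hj0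
    · rw [hb, hj, pow_zero, Nat.cast_one]
    · exact absurd (Dvd.dvd.mul_left (hj ▸ dvd_pow_self p hj0.ne') (c ψ)) hψ
  obtain ⟨γ, hγ⟩ := ExtendChar.exists_hom (irr_isCharacter ψ) hb1
  refine ⟨γ, fun z hz => ?_⟩
  obtain ⟨ω, hω⟩ := central_scalar (show Irr ⊤ (χ : G → ℂ) from
    (isIrrCharacter_comp_mulEquiv Subgroup.topEquiv).2 χ.2) (mem_top z)
    fun h _ => Subgroup.mem_center_iff.1 (hS.central hz.2) h
  have hω1 : ω = lam z := by
    have h := hω 1 (mem_top _)
    rw [mul_one, hL z hz.2] at h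
    exact (mul_right_cancel₀ (irr_one_ne_zero χ.2) h).symm
  have hs : ∑ s : S, res S (χ : G → ℂ) s * conj ((ψ : S → ℂ) s) =
      ω * conj (γ ⟨z, hz.1⟩ : ℂ) * ∑ s : S, res S (χ : G → ℂ) s * conj ((ψ : S → ℂ) s) := by
    conv_lhs => rw [← Fintype.sum_equiv (Equiv.mulLeft (⟨z, hz.1⟩ : S))
      (fun s => res S (χ : G → ℂ) (⟨z, hz.1⟩ * s) * conj ((ψ : S → ℂ) (⟨z, hz.1⟩ * s))) _
      (fun s => rfl)]
    rw [Finset.mul_sum]
    refine Finset.sum_congr rfl fun s _ => ?_
    rw [← hγ, ← hγ, map_mul, Units.val_mul, map_mul,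
      show res S (χ : G → ℂ) (⟨z, hz.1⟩ * s) = ω * (χ : G → ℂ) s from hω s (mem_top _)]
    show _ = _ * ((χ : G → ℂ) s * _)
    ring
  have hne : ∑ s : S, res S (χ : G → ℂ) s * conj ((ψ : S → ℂ) s) ≠ 0 := by
    have h' : mult S (χ : G → ℂ) (ext0 S (ψ : S → ℂ)) ≠ 0 := by
      rw [hc]; exact Nat.cast_ne_zero.2 fun h0 => hψ (by rw [h0, zero_mul]; exact dvd_zero p)
    rw [mult_eq, res_ext0, classInner_def] at h'
    exact right_ne_zero_of_mul h'
  have h2 : ω * conj (γ ⟨z, hz.1⟩ : ℂ) = 1 := mul_right_cancel₀ hne (hs.symm.trans (one_mul _).symm)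
  have h3 : (γ ⟨z, hz.1⟩ : ℂ) * conj (γ ⟨z, hz.1⟩ : ℂ) = 1 := by
    rw [Complex.mul_conj']; simp [linear_norm_eq_one]
  calc (γ ⟨z, hz.1⟩ : ℂ) = ω * conj (γ ⟨z, hz.1⟩ : ℂ) * γ ⟨z, hz.1⟩ := by rw [h2, one_mul]
    _ = ω * ((γ ⟨z, hz.1⟩ : ℂ) * conj (γ ⟨z, hz.1⟩ : ℂ)) := by ring
    _ = lam z := by rw [h3, mul_one, hω1]

end Cfsg.Agent.CharTheory.RelMcKay
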