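import Mathlib
import Cfsg.Agent.Lib.CharTheory.RelMcKay.PPrime
import Cfsg.Agent.Lib.CharTheory.RelMcKay.Lifts

/-!
# The coprime case: `G` against the normalizer of its Sylow subgroup
-/

set_option autoImplicit false
set_option linter.style.haveILetI false
set_option linter.unusedSectionVars false

open Subgroup
open scoped ComplexConjugate commutatorElement

namespace Cfsg.Agent.CharTheory.RelMcKay

open Cfsg.Agent.Characters Cfsg.Agent.CharTheory

universe u

variable {G : Type u} [Group G] [Finite G] {p : ℕ} [hp : Fact p.Prime]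

/-- A function seen on a subgroup. -/
def down (N : Subgroup G) (f : G → ℂ) : N → ℂ := fun n => f n

theorem irr_down {N H : Subgroup G} (hHN : H ≤ N) (f : G → ℂ) :
    Irr (H.subgroupOf N) (down N f) ↔ Irr H f :=
  isIrrCharacter_comp_mulEquiv (Subgroup.subgroupOfEquivOfLe hHN) (χ := res H f)

theorem mult_down {N H : Subgroup G} (hHN : H ≤ N) (f g : G → ℂ) :
    mult (H.subgroupOf N) (down N f) (down N g) = mult H f g := by
  unfold mult down
  rw [Nat.card_congr (Subgroup.subgroupOfEquivOfLe hHN).toEquiv]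
  congr 1
  exact finsum_eq_of_bijective (Subgroup.subgroupOfEquivOfLe hHN)
    (Subgroup.subgroupOfEquivOfLe hHN).bijective fun h => rfl

theorem inv_down {N H : Subgroup G} {f : G → ℂ} {x : N} (h : Inv H f x) :
    Inv (H.subgroupOf N) (down N f) x := fun n hn => h n hn

omit [Finite G] in
theorem pairSub_down {N H : Subgroup G} (hHN : H ≤ N) (y x : N) :
    pairSub (H.subgroupOf N) y x = (pairSub H (y : G) x).subgroupOf N := by
  apply Subgroup.map_injective N.subtype_injective
  rw [Subgroup.subgroupOf_map_subtype, inf_eq_left.2 (pairSub_le hHN y.2 x.2), pairSub, pairSub,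
    Subgroup.map_sup, MonoidHom.map_closure, Subgroup.subgroupOf_map_subtype, inf_eq_left.2 hHN,
    Set.image_insert_eq, Set.image_singleton]
  rfl

theorem ext_down {N H : Subgroup G} (hHN : H ≤ N) (f : G → ℂ) (y x : N) :
    Ext (H.subgroupOf N) (down N f) y x ↔ Ext H f (y : G) x := by
  have hle : pairSub H (y : G) x ≤ N := pairSub_le hHN y.2 x.2
  unfold Ext
  rw [pairSub_down hHN]
  constructor
  · rintro ⟨η, hη, he⟩
    have hd : ∀ n : N, down N (ext0 N η) n = η n := fun n => ext0_apply N η n.2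
    refine ⟨ext0 N η, (irr_down hle _).1 (hη.congr fun n _ => hd n), fun k hk => ?_⟩
    rw [ext0_apply N η (hHN hk)]
    exact he ⟨k, hHN hk⟩ hk
  · rintro ⟨η, hη, he⟩
    exact ⟨down N η, (irr_down hle _).2 hη, fun k hk => he k hk⟩

/-- A pair only matters modulo the subgroup. -/
theorem ext_congr_mod {M : Subgroup G} {f : G → ℂ} {x y x' y' : G} (hx : x⁻¹ * x' ∈ M)
    (hy : y⁻¹ * y' ∈ M) : Ext M f y x ↔ Ext M f y' x' := by
  suffices h : pairSub M y x = pairSub M y' x' by unfold Ext; rw [h]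
  refine le_antisymm (pairSub_le (le_pairSub _ _ _) ?_ ?_) (pairSub_le (le_pairSub _ _ _) ?_ ?_)
  · have := mul_mem (right_mem_pairSub M x' y') (inv_mem (le_pairSub M x' y' hy))
    rw [mul_inv_rev, inv_inv, mul_inv_cancel_left] at this
    rwa [pairSub_comm] at this
  · have := mul_mem (left_mem_pairSub M x' y') (inv_mem (le_pairSub M x' y' hx))
    rw [mul_inv_rev, inv_inv, mul_inv_cancel_left] at this
    rwa [pairSub_comm] at this
  · have := mul_mem (left_mem_pairSub M y x) (le_pairSub M y x hy)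
    rwa [mul_inv_cancel_left] at this
  · have := mul_mem (right_mem_pairSub M y x) (le_pairSub M y x hx)
    rwa [mul_inv_cancel_left] at this

theorem base_eq {K S R : Subgroup G} [K.Normal] :
    base K S R = K ⊔ (⁅S, S⁆ ⊔ (S ⊓ R)) := by
  unfold base
  rw [← sup_assoc]
  congr 1
  refine le_antisymm (sup_le le_sup_left ?_)
    (sup_le le_sup_left ((commutator_mono le_sup_right le_sup_right).trans le_sup_right))
  let q := QuotientGroup.mk' K
  have h : (⁅K ⊔ S, K ⊔ S⁆ : Subgroup G).map q = (⁅S, S⁆ : Subgroup G).map q := by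
    rw [Subgroup.map_commutator, Subgroup.map_commutator, Subgroup.map_sup,
      QuotientGroup.map_mk'_self, bot_sup_eq]
  refine (le_comap_map q _).trans (le_of_eq ?_)
  rw [h, Subgroup.comap_map_eq, QuotientGroup.ker_mk', sup_comm]

/-- Commuting scalars: a constituent has the scalar of the character. -/
theorem scalar_eq_of_mult {H : Subgroup G} {f φ : G → ℂ} (hφ : Irr H φ) {z : G} (hz : z ∈ H)
    {ω ω' : ℂ} (hω : ∀ h ∈ H, f (z * h) = ω * f h) (hω' : ∀ h ∈ H, φ (z * h) = ω' * φ h)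
    (hne : mult H f φ ≠ 0) : ω' = ω := by
  haveI := Fintype.ofFinite H
  have hunit : ω' * conj ω' = 1 := by
    have h1 := hω' z⁻¹ (H.inv_mem hz)
    rw [mul_inv_cancel] at h1
    have h2 : φ z⁻¹ = conj (φ z) := char_inv hφ.chr (⟨z, hz⟩ : H)
    have h3 := hω' 1 H.one_mem
    rw [mul_one] at h3
    rw [h2, h3, map_mul] at h1
    obtain ⟨n, -, hn⟩ := irr_one_pos hφ
    rw [show φ 1 = (n : ℂ) from hn, Complex.conj_natCast, ← mul_assoc] at h1
    exact mul_right_cancel₀ (b := (n : ℂ)) (fun h => hφ.one_ne (by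
      rw [show φ 1 = (n : ℂ) from hn, h])) (h1.symm.trans (one_mul _).symm)
  rw [mult_eq, classInner_def] at hne
  have hs : ∑ g : H, res H f g * conj (res H φ g) =
      ω * conj ω' * ∑ g : H, res H f g * conj (res H φ g) := by
    conv_lhs => rw [← Fintype.sum_equiv (Equiv.mulLeft (⟨z, hz⟩ : H))
      (fun g => res H f (⟨z, hz⟩ * g) * conj (res H φ (⟨z, hz⟩ * g))) _ (fun g => rfl)]
    rw [Finset.mul_sum]
    refine Finset.sum_congr rfl fun g _ => ?_
    rw [show res H f (⟨z, hz⟩ * g) = ω * f g from hω g g.2,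
      show res H φ (⟨z, hz⟩ * g) = ω' * φ g from hω' g g.2, map_mul]
    simp only [res]
    ring
  have h2 : ω * conj ω' = 1 :=
    mul_right_cancel₀ (right_ne_zero_of_mul hne) (hs.symm.trans (one_mul _).symm)
  calc ω' = ω * conj ω' * ω' := by rw [h2, one_mul]
    _ = ω * (ω' * conj ω') := by ring
    _ = ω := by rw [hunit, mul_one]

/-- Elements of `p`-power order modulo `M` lie in the normal subgroup of `p'`-index. -/
theorem mem_of_pow_mem {L : Subgroup G} [L.Normal] (hidx : ¬ p ∣ L.index) {x : G} {k : ℕ}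
    (hx : x ^ p ^ k ∈ L) : x ∈ L := by
  rw [← QuotientGroup.eq_one_iff, ← orderOf_eq_one_iff]
  refine Nat.eq_one_of_dvd_coprimes
    (Nat.Coprime.pow_left k ((Nat.Prime.coprime_iff_not_dvd hp.out).2 hidx))
    (orderOf_dvd_of_pow_eq_one ?_) ?_
  · rw [← QuotientGroup.mk_pow, QuotientGroup.eq_one_iff]; exact hx
  · rw [Subgroup.index_eq_card]; exact orderOf_dvd_natCard _

variable {K S R : Subgroup G} (hS : Coprime p K S R)

include hS in
theorem exists_mul_normalizer (g : G) : ∃ k ∈ K, ∃ n ∈ normalizer (S : Set G), g = k * n := by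
  haveI := hS.normal
  haveI := hS.supNormal
  set L := K ⊔ S
  have hSL : S ≤ L := le_sup_right
  have hP : IsPGroup p (S.subgroupOf L) :=
    hS.pgroup.of_equiv (Subgroup.subgroupOfEquivOfLe hSL).symm
  have hidx : ¬ p ∣ (S.subgroupOf L).index := fun h => hS.sylow
    ((h.trans (dvd_of_eq rfl)).trans (Dvd.intro _ (Subgroup.relIndex_mul_index hSL)))
  let P : Sylow p L := hP.toSylow hidx
  have hPc : ((P : Subgroup L).map L.subtype) = S := by
    show (S.subgroupOf L).map L.subtype = S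
    rw [Subgroup.subgroupOf_map_subtype, inf_eq_left.2 hSL]
  have hg : g ∈ (⊤ : Subgroup G) := mem_top g
  rw [← Sylow.normalizer_sup_eq_top P] at hg
  have hg' : g ∈ ((normalizer (S : Set G) ⊔ L : Subgroup G) : Set G) := by
    rwa [hPc] at hg
  have hle : normalizer (S : Set G) ⊔ L ≤ K ⊔ normalizer (S : Set G) :=
    sup_le le_sup_right (sup_le_sup_left le_normalizer K)
  obtain ⟨k, hk, n, hn, he⟩ := Subgroup.mem_sup_of_normal_left.1 (hle hg')
  exact ⟨k, hk, n, hn, he.symm⟩

include hS in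
/-- The coprime case. -/
theorem coprime_case {θ φ lam : G → ℂ} (hθ : Irr K θ) (hinv : ∀ g, Inv K θ g)
    (hφ : Irr (K ⊓ centralizer (S : Set G)) φ)
    (hcorr : Corr p (K ⊓ centralizer (S : Set G)) θ φ)
    (hlam : ∀ a ∈ R, ∀ b ∈ R, lam (a * b) = lam a * lam b)
    (hcompat : ∀ r ∈ R ⊓ K, θ r = lam r * θ 1) :
    Nat.card {χ : Cfsg.IrrCharacter G // ¬ p ∣ Cfsg.charDegree (χ : G → ℂ) ∧
      mult K (χ : G → ℂ) θ ≠ 0 ∧ Lam R lam (χ : G → ℂ)} =
    Nat.card {ψ : Cfsg.IrrCharacter ↥(normalizer (S : Set G)) //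
      ¬ p ∣ Cfsg.charDegree (ψ : ↥(normalizer (S : Set G)) → ℂ) ∧
      mult ((K ⊓ centralizer (S : Set G)).subgroupOf (normalizer (S : Set G)))
        (ψ : ↥(normalizer (S : Set G)) → ℂ) (down (normalizer (S : Set G)) φ) ≠ 0 ∧
      Lam (R.subgroupOf (normalizer (S : Set G))) (down (normalizer (S : Set G)) lam)
        (ψ : ↥(normalizer (S : Set G)) → ℂ)} := by
  classical
  haveI := hS.normal
  haveI := hS.supNormal
  haveI := Fintype.ofFinite G
  set N := normalizer (S : Set G) with hNdef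
  set C := K ⊓ centralizer (S : Set G) with hCdef
  have hSK : S ≤ normalizer (K : Set G) := fun s _ => mem_normalizer_of_normal s
  have hθS : ∀ s ∈ S, Inv K θ s := fun s _ => hinv s
  have hCN : C ≤ N := inf_le_right.trans (centralizer_le_normalizer _)
  have hSN : S ≤ N := le_normalizer
  have hRN : R ≤ N := fun r hr => by
    rw [hNdef, mem_normalizer_iff]
    intro h
    rw [← Subgroup.mem_center_iff.1 (hS.central hr) h, mul_inv_cancel_right]
  have hNC : N ≤ normalizer (C : Set G) := fun n hn =>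
    centralizer_normalizes (mem_normalizer_of_normal n) hn
  have hφi : ∀ n ∈ N, Inv C φ n := fun n hn =>
    hcorr.inv hSK hS.card hS.pgroup hθ hθS hφ (mem_normalizer_of_normal n) hn (hinv n)
  have hKN : K ⊓ N ≤ C := fun k hk => by
    refine ⟨hk.1, mem_centralizer_iff.2 fun s hs => ?_⟩
    have h1 : k * s * k⁻¹ * s⁻¹ ∈ S := S.mul_mem (conj_mem hk.2 hs) (S.inv_mem hs)
    have h2 : k * s * k⁻¹ * s⁻¹ ∈ K := by
      have := K.mul_mem hk.1 (hS.normal.conj_mem _ (K.inv_mem hk.1) s)
      simpa [mul_assoc] using this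
    have h3 : k * s * k⁻¹ * s⁻¹ = 1 := by
      obtain ⟨j, hj⟩ := hS.pgroup.exists_card_eq
      rw [← orderOf_eq_one_iff]
      refine Nat.eq_one_of_dvd_coprimes
        (Nat.Coprime.pow_left j ((Nat.Prime.coprime_iff_not_dvd hp.out).2 hS.card)) ?_ ?_
      · rw [← hj, ← Subgroup.orderOf_mk _ h1]; exact orderOf_dvd_natCard _
      · rw [← Subgroup.orderOf_mk _ h2]; exact orderOf_dvd_natCard _
    rw [mul_inv_eq_one, mul_inv_eq_iff_eq_mul] at h3
    exact h3.symm
  -- the hypotheses in the normalizer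
  have hS' : Coprime p (C.subgroupOf N) (S.subgroupOf N) (R.subgroupOf N) := by
    haveI : (C.subgroupOf N).Normal := normal_subgroupOf_of_le_normalizer hNC
    haveI : (S.subgroupOf N).Normal := normal_in_normalizer
    refine ⟨inferInstance, fun hd => hS.card (hd.trans ?_),
      hS.pgroup.of_equiv (Subgroup.subgroupOfEquivOfLe hSN).symm, fun h => hS.sylow (h.trans ?_),
      inferInstance, fun r hr => ?_, ?_⟩
    · rw [Nat.card_congr (Subgroup.subgroupOfEquivOfLe hCN).toEquiv]
      exact card_dvd_of_le inf_le_left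
    · exact Dvd.intro _ (Subgroup.relIndex_mul_index hSN)
    · rw [Subgroup.mem_center_iff]
      exact fun n => Subtype.ext (Subgroup.mem_center_iff.1 (hS.central hr) (n : G))
    · intro r hr
      have hzc : S ⊓ R ≤ normalizer ((R ⊓ K : Subgroup G) : Set G) := fun z hz => by
        rw [mem_normalizer_iff]
        intro h
        rw [show z * h * z⁻¹ = h by
          rw [← Subgroup.mem_center_iff.1 (hS.central hz.2) h, mul_inv_cancel_right]]
      have h2 := hS.split (mem_subgroupOf.1 hr)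
      rw [← SetLike.mem_coe, coe_mul_of_left_le_normalizer_right _ _ hzc] at h2
      obtain ⟨z, hz, k, hk, he⟩ := h2
      have hkC : k ∈ C := ⟨hk.2, center_le_centralizer _ (hS.central hk.1)⟩
      have e : r = (⟨z, hSN hz.1⟩ : N) * ⟨k, hCN hkC⟩ := Subtype.ext he.symm
      rw [e]
      exact Subgroup.mul_mem_sup ⟨hz.1, hz.2⟩ ⟨hk.1, hkC⟩
  have hlam' : ∀ a ∈ R.subgroupOf N, ∀ b ∈ R.subgroupOf N,
      down N lam (a * b) = down N lam a * down N lam b := fun a ha b hb => hlam a ha b hb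
  have hφ' : Irr (C.subgroupOf N) (down N φ) := (irr_down hCN φ).2 hφ
  have hφi' : ∀ n : N, Inv (C.subgroupOf N) (down N φ) n := fun n => inv_down (hφi n n.2)
  have hcompat' : ∀ r ∈ R.subgroupOf N ⊓ C.subgroupOf N,
      down N φ r = down N lam r * down N φ 1 := by
    rintro r ⟨hrR, hrC⟩
    have hrK : (r : G) ∈ K := hrC.1
    obtain ⟨ω, hω⟩ := central_scalar hθ hrK fun h _ =>
      Subgroup.mem_center_iff.1 (hS.central hrR) h
    obtain ⟨ω', hω'⟩ := central_scalar hφ hrC fun h _ =>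
      Subgroup.mem_center_iff.1 (hS.central hrR) h
    have hne : mult C θ φ ≠ 0 := by
      obtain ⟨m, hm, hmp⟩ := hcorr
      rw [hm]; exact Nat.cast_ne_zero.2 fun h => hmp (h ▸ dvd_zero p)
    have he := scalar_eq_of_mult hφ hrC (fun h hh => hω h hh.1) hω' hne
    have h1 := hω 1 K.one_mem
    rw [mul_one, hcompat r ⟨hrR, hrK⟩] at h1
    have h2 := hω' 1 C.one_mem
    rw [mul_one, he, ← mul_right_cancel₀ hθ.one_ne h1] at h2
    exact h2
  have hcond : Cond S R lam ↔ Cond (S.subgroupOf N) (R.subgroupOf N) (down N lam) := by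
    set e := Subgroup.subgroupOfEquivOfLe hSN
    constructor
    · rintro ⟨ξ, hξ⟩
      exact ⟨ξ.comp e.toMonoidHom, fun z hz => hξ (z : G) ⟨hz.1, hz.2⟩⟩
    · rintro ⟨ξ, hξ⟩
      exact ⟨ξ.comp e.symm.toMonoidHom, fun z hz => hξ ⟨z, hSN hz.1⟩ ⟨hz.1, hz.2⟩⟩
  by_cases hc : Cond S R lam
  swap
  · rw [count_zero hS hθ hinv hc, count_zero hS' hφ' hφi' (fun h => hc (hcond.2 h))]
  obtain ⟨τ, hτ, hτK, hτi, ⟨ê, hê, hêM⟩, hcount⟩ := count_eq hS hθ hinv hlam hcompat hc
  obtain ⟨τ', hτ', hτK', hτi', ⟨ê', hê', hêM'⟩, hcount'⟩ :=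
    count_eq hS' hφ' hφi' hlam' hcompat' (hcond.1 hc)
  haveI := base_normal hS
  haveI := base_normal hS'
  haveI := hS'.normal
  haveI := hS'.supNormal
  rw [hcount, hcount', card_over hτ hτi, card_over hτ' hτi']
  set M := base K S R with hM
  set M' := base (C.subgroupOf N) (S.subgroupOf N) (R.subgroupOf N) with hM'
  set D := C ⊔ (⁅S, S⁆ ⊔ (S ⊓ R)) with hD
  have hWS : ⁅S, S⁆ ⊔ (S ⊓ R) ≤ S := sup_le (commutator_le_self S) inf_le_left
  have hDN : D ≤ N := sup_le hCN (hWS.trans hSN)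
  have hM'D : M' = D.subgroupOf N := by
    apply Subgroup.map_injective N.subtype_injective
    rw [hM', base_eq, Subgroup.subgroupOf_map_subtype, inf_eq_left.2 hDN, Subgroup.map_sup,
      Subgroup.map_sup, Subgroup.map_commutator, Subgroup.map_inf _ _ _ N.subtype_injective,
      Subgroup.subgroupOf_map_subtype, Subgroup.subgroupOf_map_subtype,
      Subgroup.subgroupOf_map_subtype, inf_eq_left.2 hCN, inf_eq_left.2 hSN, inf_eq_left.2 hRN]
  have hMW : M = K ⊔ (⁅S, S⁆ ⊔ (S ⊓ R)) := base_eq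
  have hNM : ∀ n : N, n ∈ M' ↔ (n : G) ∈ M := by
    intro n
    rw [hM'D, mem_subgroupOf]
    refine ⟨fun h => hMW ▸ (sup_le_sup_right (inf_le_left : C ≤ K) _) h, fun h => ?_⟩
    rw [hMW, Subgroup.mem_sup_of_normal_left] at h
    obtain ⟨k, hk, w, hw, he⟩ := h
    have hkN : k ∈ N := by
      rw [eq_mul_inv_of_mul_eq he]
      exact mul_mem n.2 (inv_mem (hSN (hWS hw)))
    rw [← he]
    exact Subgroup.mul_mem_sup (hKN ⟨hk, hkN⟩) hw
  have hidxL : ¬ p ∣ (K ⊔ S).index := not_dvd_index hS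
  have hidxL' : ¬ p ∣ (C.subgroupOf N ⊔ S.subgroupOf N).index := not_dvd_index hS'
  have hDn : N ≤ normalizer (D : Set G) := fun n hn =>
    mem_normalizer_iff_map_conj_eq.2 (by
      have h1 := mem_normalizer_iff_map_conj_eq.1 (hNC hn)
      have h2 := mem_normalizer_iff_map_conj_eq.1 hn
      have h3 : R.map (MulAut.conj n : G →* G) = R := by
        refine eq_of_le_of_card_ge ?_ (le_of_eq (card_map_of_injective
          (MulAut.conj n).injective).symm)
        rintro _ ⟨r, hr, rfl⟩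
        show n * r * n⁻¹ ∈ R
        rwa [Subgroup.mem_center_iff.1 (hS.central hr) n, mul_inv_cancel_right]
      rw [hD, Subgroup.map_sup, Subgroup.map_sup, Subgroup.map_commutator, h1, h2,
        Subgroup.map_inf S R _ (MulAut.conj n).injective, h2, h3])
  have hidxD : ∃ k, C.relIndex D = p ^ k := by
    obtain ⟨j, hj⟩ := hS.pgroup.exists_card_eq
    haveI : (C.subgroupOf N).Normal := hS'.normal
    have h1 : C.relIndex D = C.relIndex (⁅S, S⁆ ⊔ (S ⊓ R)) := by
      rw [← Subgroup.relIndex_subgroupOf hDN,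
        show D.subgroupOf N = C.subgroupOf N ⊔ (⁅S, S⁆ ⊔ (S ⊓ R)).subgroupOf N from
          Subgroup.subgroupOf_sup hCN (hWS.trans hSN),
        Subgroup.relIndex_sup_left, Subgroup.relIndex_subgroupOf (hWS.trans hSN)]
    have h2 : C.relIndex (⁅S, S⁆ ⊔ (S ⊓ R)) ∣ p ^ j :=
      (Subgroup.index_dvd_card _).trans (hj ▸ card_dvd_of_le hWS)
    obtain ⟨k, -, hk⟩ := (Nat.dvd_prime_pow hp.out).1 h2
    exact ⟨k, h1.trans hk⟩
  -- extendibility agrees
  have key : ∀ x y : N, y * x * y⁻¹ * x⁻¹ ∈ M' → (Ext M τ (y : G) x ↔ Ext M' τ' y x) := by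
    intro x y hcM'
    have hcM : (y : G) * x * (y : G)⁻¹ * (x : G)⁻¹ ∈ M := (hNM _).1 hcM'
    set n := Nat.card G
    have hn0 : 0 < n := Nat.card_pos
    have hpow : ∀ (r : ℕ), r.Prime → r ∣ n → ∀ (hd : True),
        (Ext M τ ((y : G) ^ ordCompl[r] n) ((x : G) ^ ordCompl[r] n) ↔
          Ext M' τ' (y ^ ordCompl[r] n) (x ^ ordCompl[r] n)) := by
      intro r hr hrn _
      haveI := Fact.mk hr
      set a := ordCompl[r] n
      set e := n.factorization r
      have hn' : r ^ e * a = n := Nat.ordProj_mul_ordCompl_eq_self n r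
      set x₁ := x ^ a with hx₁
      set y₁ := y ^ a with hy₁
      have hx1 : x₁ ^ r ^ e ∈ M' := by
        rw [hx₁, ← pow_mul, mul_comm, hn', hNM]
        rw [Subgroup.coe_pow, pow_card_eq_one']
        exact M.one_mem
      have hy1 : y₁ ^ r ^ e ∈ M' := by
        rw [hy₁, ← pow_mul, mul_comm, hn', hNM]
        rw [Subgroup.coe_pow, pow_card_eq_one']
        exact M.one_mem
      have hc1 : y₁ * x₁ * y₁⁻¹ * x₁⁻¹ ∈ M' :=
        comm_pow (mem_normalizer_of_normal y) (mem_normalizer_of_normal x) hcM' a a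
      rw [show (y : G) ^ a = (y₁ : G) from rfl, show (x : G) ^ a = (x₁ : G) from rfl]
      by_cases hrp : r = p
      · subst hrp
        refine iff_of_true ?_ ?_
        · have hxL : (x₁ : G) ∈ K ⊔ S := mem_of_pow_mem hidxL (k := e)
            (base_le ((hNM (x₁ ^ r ^ e)).1 hx1))
          have hyL : (y₁ : G) ∈ K ⊔ S := mem_of_pow_mem hidxL (k := e)
            (base_le ((hNM (y₁ ^ r ^ e)).1 hy1))
          exact ⟨ê, irr_of_restrict (le_pairSub M _ _)
            (hê.chr.mono (pairSub_le base_le hyL hxL)) hτ hêM, hêM⟩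
        · have hxL : x₁ ∈ C.subgroupOf N ⊔ S.subgroupOf N :=
            mem_of_pow_mem hidxL' (k := e) (base_le hx1)
          have hyL : y₁ ∈ C.subgroupOf N ⊔ S.subgroupOf N :=
            mem_of_pow_mem hidxL' (k := e) (base_le hy1)
          exact ⟨ê', irr_of_restrict (le_pairSub M' _ _)
            (hê'.chr.mono (pairSub_le base_le hyL hxL)) hτ' hêM', hêM'⟩
      · obtain ⟨x', y', hx'N, hy'N, hxx, hyy, hx'e, hy'e, hc'⟩ :=
          exists_lifts (p := p) (r := r) (Ne.symm hrp) N C D le_sup_left hDN hNC hDn hidxD x₁.2 y₁.2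
            (e := e) (by rw [hM'D] at hx1; exact hx1) (by rw [hM'D] at hy1; exact hy1)
            (by rw [hM'D] at hc1; exact hc1)
        have hDM : D ≤ M := hMW ▸ sup_le_sup_right (inf_le_left : C ≤ K) _
        have h2 : Ext M' τ' y₁ x₁ ↔ Ext M' τ' ⟨y', hy'N⟩ ⟨x', hx'N⟩ := by
          refine ext_congr_mod ?_ ?_
          · rw [hM'D]; exact hxx
          · rw [hM'D]; exact hyy
        rw [ext_congr_mod (hDM hxx) (hDM hyy), h2,
          ext_sup_iff (le_sup_left.trans le_sup_left : K ≤ M) hθ hinv hτ hτi hτK hc'.1,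
          ext_sup_iff (x := (⟨x', hx'N⟩ : N)) (y := ⟨y', hy'N⟩)
            (le_sup_left.trans le_sup_left : C.subgroupOf N ≤ M') hφ' hφi' hτ' hτi' hτK' hc',
          ext_down hCN φ]
        exact ext_iff_corr (r := r) (Ne.symm hrp) (Nat.card S) S K le_rfl hSK hS.card hS.pgroup y' x'
          (mem_normalizer_of_normal y') (mem_normalizer_of_normal x') hy'N hx'N e hy'e hx'e hc' θ φ
          hθ hθS (hinv y') (hinv x') hφ hcorr
    constructor
    · intro h
      refine (ext_of_forall_prime hτ' (mem_normalizer_of_normal y) (hτi' y)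
        (mem_normalizer_of_normal x) (hτi' x) hcM' (n := n) ?_ fun r hr hrn =>
          ⟨ordCompl[r] n, ordCompl[r] n, ?_, (hpow r hr hrn trivial).1 (h.mono hτ ?_ ?_)⟩)
      · rw [hNM, Subgroup.coe_pow, pow_card_eq_one']; exact M.one_mem
      · exact hr.not_dvd_mul (Nat.not_dvd_ordCompl hr hn0.ne') (Nat.not_dvd_ordCompl hr hn0.ne')
      · exact pow_mem (left_mem_pairSub M _ _) _
      · exact pow_mem (right_mem_pairSub M _ _) _
    · intro h
      refine (ext_of_forall_prime hτ (mem_normalizer_of_normal (y : G)) (hτi y)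
        (mem_normalizer_of_normal (x : G)) (hτi x) hcM (n := n) ?_ fun r hr hrn =>
          ⟨ordCompl[r] n, ordCompl[r] n, ?_, (hpow r hr hrn trivial).2 (h.mono hτ' ?_ ?_)⟩)
      · rw [pow_card_eq_one']; exact M.one_mem
      · exact hr.not_dvd_mul (Nat.not_dvd_ordCompl hr hn0.ne') (Nat.not_dvd_ordCompl hr hn0.ne')
      · exact pow_mem (left_mem_pairSub M' _ _) _
      · exact pow_mem (right_mem_pairSub M' _ _) _
  have hgood : ∀ x : N, Good M τ x ↔ Good M' τ' x := by
    intro x
    constructor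
    · exact fun h y hy => (key x y hy).1 (h y ((hNM _).1 hy))
    · intro h g hg
      obtain ⟨k, hk, n, hn, rfl⟩ := exists_mul_normalizer hS g
      have hkM : k⁻¹ ∈ M := (le_sup_left.trans le_sup_left : K ≤ M) (K.inv_mem hk)
      have hnk : n⁻¹ * (k⁻¹ * n) ∈ M := by
        have := (inferInstance : M.Normal).conj_mem _ hkM n⁻¹
        simpa [mul_assoc] using this
      have hy : (k * n)⁻¹ * n ∈ M := by rw [mul_inv_rev, mul_assoc]; exact hnk
      have hg' : n * (x : G) * n⁻¹ * (x : G)⁻¹ ∈ M := by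
        rw [← QuotientGroup.eq_one_iff] at hg ⊢
        have e : ((k * n : G) : G ⧸ M) = (n : G ⧸ M) := QuotientGroup.eq.2 hy
        simp only [QuotientGroup.mk_mul, QuotientGroup.mk_inv] at hg e ⊢
        rwa [e] at hg
      refine (ext_congr_mod (x := (x : G)) (x' := x) (by simp) hy).2 ?_
      exact (key x ⟨n, hn⟩ ((hNM _).2 hg')).2 (h ⟨n, hn⟩ ((hNM _).2 hg'))
  -- the quotients are isomorphic
  let f : N ⧸ M' →* G ⧸ M := QuotientGroup.map M' M N.subtype fun n hn => (hNM n).1 hn
  have hinj : Function.Injective f := by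
    rw [injective_iff_map_eq_one]
    intro z hz
    induction z using QuotientGroup.induction_on with | _ n => ?_
    have hz' : ((n : G) : G ⧸ M) = 1 := hz
    exact (QuotientGroup.eq_one_iff n).2 ((hNM n).2 ((QuotientGroup.eq_one_iff _).1 hz'))
  have hsurj : Function.Surjective f := by
    intro z
    induction z using QuotientGroup.induction_on with | _ g => ?_
    obtain ⟨k, hk, n, hn, rfl⟩ := exists_mul_normalizer hS g
    refine ⟨QuotientGroup.mk (⟨n, hn⟩ : N), ?_⟩
    show ((n : G) : G ⧸ M) = ((k * n : G) : G ⧸ M)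
    rw [QuotientGroup.mk_mul,
      (QuotientGroup.eq_one_iff k).2 ((le_sup_left.trans le_sup_left : K ≤ M) hk), one_mul]
  have hbij : Function.Bijective (ConjClasses.map f) := by
    refine ⟨fun a b he => ?_, ConjClasses.map_surjective hsurj⟩
    obtain ⟨a, rfl⟩ := ConjClasses.mk_surjective a
    obtain ⟨b, rfl⟩ := ConjClasses.mk_surjective b
    obtain ⟨c, hc⟩ := isConj_iff.1 (ConjClasses.mk_eq_mk_iff_isConj.1 he)
    obtain ⟨d, rfl⟩ := hsurj c
    refine ConjClasses.mk_eq_mk_iff_isConj.2 (isConj_iff.2 ⟨d, hinj ?_⟩)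
    rw [map_mul, map_mul, map_inv, hc]
  have hmk : ∀ n : N, ConjClasses.map f (ConjClasses.mk (n : N ⧸ M')) =
      ConjClasses.mk ((n : G) : G ⧸ M) := fun n => rfl
  have hiff : ∀ c : ConjClasses (N ⧸ M'),
      (∀ n : N, ConjClasses.mk (n : N ⧸ M') = c → Good M' τ' n) ↔
      (∀ g : G, ConjClasses.mk (g : G ⧸ M) = ConjClasses.map f c → Good M τ g) := by
    intro c
    constructor
    · intro h g hg
      obtain ⟨k, hk, n, hn, rfl⟩ := exists_mul_normalizer hS g
      have hkM : k ∈ M := (le_sup_left.trans le_sup_left : K ≤ M) hk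
      have e : ((k * n : G) : G ⧸ M) = (n : G ⧸ M) := by
        rw [QuotientGroup.mk_mul, (QuotientGroup.eq_one_iff k).2 hkM, one_mul]
      have hgn : Good M τ n := (hgood ⟨n, hn⟩).2 (h ⟨n, hn⟩ (hbij.1 ((hmk _).trans (e ▸ hg))))
      intro y hy
      have hy' : y * n * y⁻¹ * n⁻¹ ∈ M := by
        rw [← QuotientGroup.eq_one_iff] at hy ⊢
        simp only [QuotientGroup.mk_mul, QuotientGroup.mk_inv] at hy e ⊢
        rwa [e] at hy
      exact (ext_congr_mod (y := y) (y' := y) (QuotientGroup.eq.1 e) (by simp)).2 (hgn y hy')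
    · intro h n hn
      exact (hgood n).1 (h n (by rw [← hn, hmk]))
  exact (Nat.card_congr ((Equiv.ofBijective _ hbij).subtypeEquiv hiff)).symm

end Cfsg.Agent.CharTheory.RelMcKay
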