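import Mathlib
import Cfsg.Agent.Lib.CharTheory.RelMcKay.Compare
import Cfsg.Agent.S1489

/-!
# Counting functions, the Clifford step and the orbit decomposition
-/

set_option autoImplicit false
set_option linter.style.haveILetI false
set_option linter.unusedSectionVars false

open Subgroup
open scoped ComplexConjugate

namespace Cfsg.Agent.CharTheory.RelMcKay

open Cfsg.Agent.Characters Cfsg.Agent.CharTheory

universe u

variable {G : Type u} [Group G]

/-- The characters of `p'`-degree of `H` over `θ ∈ Irr M` and over `λ` on `R`. -/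
noncomputable def cnt (p : ℕ) (H M : Subgroup G) (θ : G → ℂ) (R : Subgroup G) (lam : G → ℂ) : ℕ :=
  Nat.card {χ : Cfsg.IrrCharacter H // ¬ p ∣ Cfsg.charDegree (χ : H → ℂ) ∧
    mult M (ext0 H (χ : H → ℂ)) θ ≠ 0 ∧ Lam R lam (ext0 H (χ : H → ℂ))}

/-- The characters of `p'`-degree of `H` over `λ` on `R`. -/
noncomputable def cntL (p : ℕ) (H R : Subgroup G) (lam : G → ℂ) : ℕ :=
  Nat.card {χ : Cfsg.IrrCharacter H // ¬ p ∣ Cfsg.charDegree (χ : H → ℂ) ∧
    Lam R lam (ext0 H (χ : H → ℂ))}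

theorem Lam.congr {R : Subgroup G} {lam f f' : G → ℂ} (h : Lam R lam f) (he : ∀ r ∈ R, f' r = f r) :
    Lam R lam f' := fun r hr => by rw [he r hr, h r hr, he 1 R.one_mem]

theorem lam_down {N R : Subgroup G} (hRN : R ≤ N) (lam f : G → ℂ) :
    Lam (R.subgroupOf N) (down N lam) (down N f) ↔ Lam R lam f :=
  ⟨fun h r hr => h ⟨r, hRN hr⟩ hr, fun h r hr => h r hr⟩

/-- The pullback of characters of a subgroup of a subgroup. -/
noncomputable def irrDown {N A : Subgroup G} (hA : A ≤ N) :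
    Cfsg.IrrCharacter A ≃ Cfsg.IrrCharacter (A.subgroupOf N) where
  toFun χ := ⟨(χ : A → ℂ) ∘ Subgroup.subgroupOfEquivOfLe hA,
    (isIrrCharacter_comp_mulEquiv (Subgroup.subgroupOfEquivOfLe hA)).2 χ.2⟩
  invFun χ := ⟨(χ : A.subgroupOf N → ℂ) ∘ (Subgroup.subgroupOfEquivOfLe hA).symm,
    (isIrrCharacter_comp_mulEquiv (Subgroup.subgroupOfEquivOfLe hA).symm).2 χ.2⟩
  left_inv χ := Subtype.ext (funext fun a => by simp)
  right_inv χ := Subtype.ext (funext fun a => by simp)

theorem ext0_irrDown {N A : Subgroup G} (hA : A ≤ N) (χ : Cfsg.IrrCharacter A) :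
    ext0 (A.subgroupOf N) (irrDown hA χ : A.subgroupOf N → ℂ) = down N (ext0 A (χ : A → ℂ)) := by
  funext n
  by_cases h : (n : G) ∈ A
  · rw [ext0_apply (A.subgroupOf N) _ (show n ∈ A.subgroupOf N from h), down, ext0_apply A _ h]
    rfl
  · rw [ext0, dif_neg (show ¬ n ∈ A.subgroupOf N from h), down, ext0, dif_neg h]

theorem charDegree_irrDown {N A : Subgroup G} (hA : A ≤ N) (χ : Cfsg.IrrCharacter A) :
    Cfsg.charDegree (irrDown hA χ : A.subgroupOf N → ℂ) = Cfsg.charDegree (χ : A → ℂ) := rfl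

variable [Finite G] {p : ℕ} [hp : Fact p.Prime]

theorem cnt_down {N A M R : Subgroup G} (hA : A ≤ N) (hM : M ≤ N) (hR : R ≤ N) (θ lam : G → ℂ) :
    cnt p (A.subgroupOf N) (M.subgroupOf N) (down N θ) (R.subgroupOf N) (down N lam) =
      cnt p A M θ R lam := by
  refine (Nat.card_congr ((irrDown hA).subtypeEquiv fun χ => ?_)).symm
  rw [ext0_irrDown, mult_down hM, lam_down hR, charDegree_irrDown]

theorem cntL_down {N A R : Subgroup G} (hA : A ≤ N) (hR : R ≤ N) (lam : G → ℂ) :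
    cntL p (A.subgroupOf N) (R.subgroupOf N) (down N lam) = cntL p A R lam := by
  refine (Nat.card_congr ((irrDown hA).subtypeEquiv fun χ => ?_)).symm
  rw [ext0_irrDown, lam_down hR, charDegree_irrDown]

/-- Characters of the whole group. -/
noncomputable def irrTop : Cfsg.IrrCharacter G ≃ Cfsg.IrrCharacter (⊤ : Subgroup G) where
  toFun χ := ⟨(χ : G → ℂ) ∘ Subgroup.topEquiv, (isIrrCharacter_comp_mulEquiv Subgroup.topEquiv).2 χ.2⟩
  invFun χ := ⟨(χ : (⊤ : Subgroup G) → ℂ) ∘ Subgroup.topEquiv.symm,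
    (isIrrCharacter_comp_mulEquiv Subgroup.topEquiv.symm).2 χ.2⟩
  left_inv χ := Subtype.ext (funext fun _ => congrArg (χ : G → ℂ) rfl)
  right_inv χ := Subtype.ext (funext fun _ => congrArg (χ : (⊤ : Subgroup G) → ℂ) (Subtype.ext rfl))

theorem ext0_irrTop (χ : Cfsg.IrrCharacter G) :
    ext0 ⊤ (irrTop χ : (⊤ : Subgroup G) → ℂ) = (χ : G → ℂ) := by
  funext g
  rw [ext0_apply _ _ (mem_top g)]
  rfl

theorem cnt_top (M R : Subgroup G) (θ lam : G → ℂ) :
    cnt p ⊤ M θ R lam = Nat.card {χ : Cfsg.IrrCharacter G // ¬ p ∣ Cfsg.charDegree (χ : G → ℂ) ∧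
      mult M (χ : G → ℂ) θ ≠ 0 ∧ Lam R lam (χ : G → ℂ)} :=
  (Nat.card_congr (irrTop.subtypeEquiv fun χ => by rw [ext0_irrTop]; rfl)).symm

theorem cntL_top (R : Subgroup G) (lam : G → ℂ) :
    cntL p ⊤ R lam = Nat.card {χ : Cfsg.IrrCharacter G // ¬ p ∣ Cfsg.charDegree (χ : G → ℂ) ∧
      Lam R lam (χ : G → ℂ)} :=
  (Nat.card_congr (irrTop.subtypeEquiv fun χ => by rw [ext0_irrTop]; rfl)).symm

/-- The Clifford step, in the whole group. -/
theorem clifford_top {M : Subgroup G} [hMn : M.Normal] {θ : G → ℂ} (hθ : Irr M θ)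
    (hidx : ¬ p ∣ (stab M θ).index) {R : Subgroup G} (hR : R ≤ Subgroup.center G)
    (hRT : R ≤ stab M θ) (lam : G → ℂ) :
    cnt p ⊤ M θ R lam = cnt p (stab M θ) M θ R lam := by
  classical
  haveI := Fintype.ofFinite G
  rw [cnt_top, cnt]
  set T := stab M θ with hTdef
  have hMT : M ≤ T := fun m hm => ⟨le_normalizer hm, hθ.inv_mem hm⟩
  haveI := Fintype.ofFinite T
  haveI := Fintype.ofFinite M
  haveI := Fintype.ofFinite (M.subgroupOf T)
  have hT : ∀ g : G, g ∈ T ↔ ∀ n : M,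
      res M θ ⟨g * n * g⁻¹, hMn.conj_mem (n : G) n.2 g⟩ = res M θ n :=
    fun g => ⟨fun hg n => hg.2 n n.2,
      fun hg => ⟨mem_normalizer_of_normal g, fun n hn => hg ⟨n, hn⟩⟩⟩
  have hover : ∀ ψ : Cfsg.IrrCharacter T, mult M (ext0 T (ψ : T → ℂ)) θ ≠ 0 →
      Cfsg.classInner (Cfsg.indFun (M.subgroupOf T)
        (fun x => res M θ ⟨(x : T), Subgroup.mem_subgroupOf.mp x.2⟩)) (ψ : T → ℂ) ≠ 0 := by
    intro ψ h
    rw [frobenius_reciprocity (M.subgroupOf T) _ (irr_isClassFunction ψ), classInner_conj_symm]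
    have e : Cfsg.classInner (fun x : M.subgroupOf T => (ψ : T → ℂ) x)
        (fun x : M.subgroupOf T => res M θ ⟨(x : T), Subgroup.mem_subgroupOf.mp x.2⟩) =
        mult M (ext0 T (ψ : T → ℂ)) θ := by
      rw [mult_eq, ← Basics.classInner_comp_equiv (Subgroup.subgroupOfEquivOfLe hMT)]
      exact congrArg₂ Cfsg.classInner (funext fun x => (ext0_apply T _ (x : T).2).symm) rfl
    rw [e]
    simpa using h
  have hind : ∀ ψ : Cfsg.IrrCharacter T, mult M (ext0 T (ψ : T → ℂ)) θ ≠ 0 →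
      Cfsg.IsIrrCharacter G (Cfsg.indFun T (ψ : T → ℂ)) := fun ψ h =>
    (S1489.result M T (res M θ) hθ hT hMT ψ ψ ψ.2 ψ.2 (hover ψ h) (hover ψ h)).1
  have hfacts : ∀ (ψ : Cfsg.IrrCharacter T) (h : mult M (ext0 T (ψ : T → ℂ)) θ ≠ 0),
      mult T (Cfsg.indFun T (ψ : T → ℂ)) (ext0 T (ψ : T → ℂ)) ≠ 0 ∧
      mult M (Cfsg.indFun T (ψ : T → ℂ)) θ ≠ 0 ∧
      Cfsg.charDegree (Cfsg.indFun T (ψ : T → ℂ)) = T.index * Cfsg.charDegree (ψ : T → ℂ) := by
    intro ψ h
    have hirr := hind ψ h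
    have h1 : mult T (Cfsg.indFun T (ψ : T → ℂ)) (ext0 T (ψ : T → ℂ)) ≠ 0 := by
      have h2 := frobenius_reciprocity T (ψ : T → ℂ)
        (char_isClassFunction (isCharacter_of_isIrr hirr))
      rw [classInner_isIrr_self hirr] at h2
      rw [mult_eq, res_ext0, classInner_conj_symm]
      have h3 : Cfsg.classInner (ψ : T → ℂ) (res T (Cfsg.indFun T (ψ : T → ℂ))) = 1 := h2.symm
      rw [h3, map_one]
      exact one_ne_zero
    refine ⟨h1, mult_ne_of_mid hMT (isCharacter_restrict T (isCharacter_of_isIrr hirr))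
      (show Irr T (ext0 T (ψ : T → ℂ)) by rw [Irr, res_ext0]; exact ψ.2) hθ.chr h1 h, ?_⟩
    have h2 := indFun_one T (ψ : T → ℂ)
    rw [← BlocksChars.Degrees.charDegree_cast_of_isCharacter (isCharacter_of_isIrr hirr),
      ← BlocksChars.Degrees.charDegree_cast ψ] at h2
    exact_mod_cast h2
  have hlam : ∀ (ψ : Cfsg.IrrCharacter T) (h : mult M (ext0 T (ψ : T → ℂ)) θ ≠ 0),
      Lam R lam (Cfsg.indFun T (ψ : T → ℂ)) ↔ Lam R lam (ext0 T (ψ : T → ℂ)) := by
    intro ψ h
    have hirr : Irr ⊤ (Cfsg.indFun T (ψ : T → ℂ)) :=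
      (isIrrCharacter_comp_mulEquiv Subgroup.topEquiv).2 (hind ψ h)
    have hψ : Irr T (ext0 T (ψ : T → ℂ)) := by rw [Irr, res_ext0]; exact ψ.2
    refine forall₂_congr fun r hr => ?_
    obtain ⟨ω, hω⟩ := central_scalar hirr (mem_top r) fun g _ =>
      Subgroup.mem_center_iff.1 (hR hr) g
    obtain ⟨ω', hω'⟩ := central_scalar hψ (hRT hr) fun g _ =>
      Subgroup.mem_center_iff.1 (hR hr) g
    have he := scalar_eq_of_mult hψ (hRT hr) (fun g _ => hω g (mem_top g)) hω' (hfacts ψ h).1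
    have h1 := hω 1 (mem_top _)
    have h2 := hω' 1 T.one_mem
    rw [mul_one] at h1 h2
    rw [h1, h2, he, mul_left_inj' hirr.one_ne, mul_left_inj' hψ.one_ne]
  symm
  refine Nat.card_eq_of_bijective (fun ψ => ⟨⟨_, hind ψ.1 ψ.2.2.1⟩, ?_, (hfacts ψ.1 ψ.2.2.1).2.1,
    (hlam ψ.1 ψ.2.2.1).2 ψ.2.2.2⟩) ⟨fun ψ ψ' he => ?_, fun χ => ?_⟩
  · show ¬ p ∣ Cfsg.charDegree (Cfsg.indFun T _)
    rw [(hfacts ψ.1 ψ.2.2.1).2.2]
    exact fun hd => (hp.out.dvd_mul.1 hd).elim hidx ψ.2.1
  · have := congrArg (fun z => ((z.1 : Cfsg.IrrCharacter G) : G → ℂ)) he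
    exact Subtype.ext (Subtype.ext ((S1489.result M T (res M θ) hθ hT hMT _ _ ψ.1.2 ψ'.1.2
      (hover _ ψ.2.2.1) (hover _ ψ'.2.2.1)).2 this))
  · obtain ⟨χ, hdeg, hM, hL⟩ := χ
    have hM' := hM
    rw [mult_eq] at hM'
    obtain ⟨ψ, hψ, hind', hinner⟩ := S0854.result M (res M θ) hθ T hT hMT (χ : G → ℂ) χ.2 hM'
    have hψm : mult M (ext0 T ψ) θ ≠ 0 := by
      rw [mult_eq]
      refine fun h0 => hM' ?_
      rw [show res M (χ : G → ℂ) = (fun n : M => (χ : G → ℂ) n) from rfl, ← hinner]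
      refine Eq.trans ?_ h0
      exact congrArg₂ Cfsg.classInner (funext fun n => (ext0_apply T ψ (hMT n.2)).symm) rfl
    refine ⟨⟨⟨ψ, hψ⟩, ?_, hψm, (hlam ⟨ψ, hψ⟩ hψm).1 ?_⟩, Subtype.ext (Subtype.ext hind')⟩
    · intro hd
      apply hdeg
      rw [← hind', (hfacts ⟨ψ, hψ⟩ hψm).2.2]
      exact Dvd.dvd.mul_left hd _
    · show Lam R lam (Cfsg.indFun T ψ)
      rw [hind']; exact hL

/-- The Clifford step in a subgroup. -/
theorem clifford {H M : Subgroup G} (hMH : M ≤ H) (hH : H ≤ normalizer (M : Set G)) {θ : G → ℂ}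
    (hθ : Irr M θ) (hidx : ¬ p ∣ (stab M θ).relIndex H) {R : Subgroup G} (hRH : R ≤ H)
    (hR : R ≤ Subgroup.center G) (hRT : R ≤ stab M θ) (lam : G → ℂ) :
    cnt p H M θ R lam = cnt p (stab M θ ⊓ H) M θ R lam := by
  haveI : (M.subgroupOf H).Normal := normal_subgroupOf_of_le_normalizer hH
  have hstab : stab (M.subgroupOf H) (down H θ) = (stab M θ ⊓ H).subgroupOf H := by
    ext h
    rw [mem_subgroupOf]
    constructor
    · exact fun hh => ⟨⟨hH h.2, fun m hm => hh.2 ⟨m, hMH hm⟩ hm⟩, h.2⟩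
    · exact fun hh => ⟨mem_normalizer_of_normal h, fun m hm => hh.1.2 m hm⟩
  have h1 := clifford_top (G := H) (M := M.subgroupOf H) (θ := down H θ) (p := p)
    ((irr_down hMH θ).2 hθ) (by rwa [hstab, Subgroup.inf_subgroupOf_right])
    (R := R.subgroupOf H) (fun r hr => Subgroup.mem_center_iff.2 fun g =>
      Subtype.ext (Subgroup.mem_center_iff.1 (hR hr) (g : G)))
    (by rw [hstab, Subgroup.inf_subgroupOf_right]; exact fun r hr => hRT hr) (down H lam)
  rw [hstab, cnt_down inf_le_right hMH hRH, ← Subgroup.subgroupOf_self H,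
    cnt_down le_rfl hMH hRH] at h1
  exact h1

/-- The parameters of the orbit decomposition. -/
def Theta (M S R : Subgroup G) (lam : G → ℂ) : Type u :=
  {θ : Cfsg.IrrCharacter M // (∀ s ∈ S, Inv M (ext0 M (θ : M → ℂ)) s) ∧
    ∀ r ∈ R ⊓ M, ext0 M (θ : M → ℂ) r = lam r * ext0 M (θ : M → ℂ) 1}

/-- The ambient function of a parameter. -/
noncomputable def Theta.fn {M S R : Subgroup G} {lam : G → ℂ} (θ : Theta M S R lam) : G → ℂ :=
  ext0 M (θ.1 : M → ℂ)

theorem Theta.irr {M S R : Subgroup G} {lam : G → ℂ} (θ : Theta M S R lam) : Irr M θ.fn := by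
  rw [Irr, Theta.fn, res_ext0]; exact θ.1.2

/-- Conjugacy under a subgroup normalizing `M`. -/
def orbit {M S R : Subgroup G} {lam : G → ℂ} (A : Subgroup G) (hA : A ≤ normalizer (M : Set G)) :
    Setoid (Theta M S R lam) where
  r θ θ' := ∃ a ∈ A, ∀ m ∈ M, θ'.fn m = θ.fn (a * m * a⁻¹)
  iseqv :=
    { refl := fun θ => ⟨1, A.one_mem, fun m _ => by simp⟩
      symm := fun {θ θ'} ⟨a, ha, h⟩ => ⟨a⁻¹, A.inv_mem ha, fun m hm => by
        rw [h _ (conj_mem (hA (A.inv_mem ha)) hm)]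
        congr 1
        group⟩
      trans := fun {θ θ' θ''} ⟨a, ha, h⟩ ⟨b, hb, h'⟩ => ⟨a * b, A.mul_mem ha hb, fun m hm => by
        rw [h' m hm, h _ (conj_mem (hA hb) hm)]
        congr 1
        group⟩ }

/-- The count splits over the orbits of invariant constituents. -/
theorem cntL_eq_sum {H M S R : Subgroup G} (hMH : M ≤ H) (hH : H ≤ normalizer (M : Set G))
    (hSH : S ≤ H) (hRH : R ≤ H) (hR : R ≤ Subgroup.center G) (hS : IsPGroup p S)
    (hidx : ¬ p ∣ S.relIndex H) (lam : G → ℂ) :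
    cntL p H R lam = ∑ᶠ o : Quotient (orbit (S := S) (R := R) (lam := lam)
      (normalizer (S : Set G) ⊓ H) (inf_le_right.trans hH)), cnt p H M o.out.fn R lam := by
  classical
  set st := orbit (S := S) (R := R) (lam := lam) (normalizer (S : Set G) ⊓ H)
    (inf_le_right.trans hH) with hst
  haveI := Fintype.ofFinite M
  haveI : Finite (Theta M S R lam) := Subtype.finite
  haveI : Finite (Quotient st) := Quotient.finite st
  haveI := Fintype.ofFinite (Quotient st)
  set A := {χ : Cfsg.IrrCharacter H // ¬ p ∣ Cfsg.charDegree (χ : H → ℂ) ∧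
    Lam R lam (ext0 H (χ : H → ℂ))}
  haveI : (M.subgroupOf H).Normal := normal_subgroupOf_of_le_normalizer hH
  haveI := Fintype.ofFinite H
  haveI := Fintype.ofFinite (M.subgroupOf H)
  let eM := Subgroup.subgroupOfEquivOfLe hMH
  have hchr : ∀ χ : Cfsg.IrrCharacter H, Irr H (ext0 H (χ : H → ℂ)) := fun χ => by
    rw [Irr, res_ext0]; exact χ.2
  -- Clifford inside `H`
  have hmult : ∀ (χ : Cfsg.IrrCharacter H) (f : G → ℂ), mult M (ext0 H (χ : H → ℂ)) f =
      Cfsg.classInner (fun n : M.subgroupOf H => (χ : H → ℂ) n) (res M f ∘ eM) := fun χ f => by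
    rw [mult_eq, ← Basics.classInner_comp_equiv eM]
    exact congrArg₂ Cfsg.classInner (funext fun n => ext0_apply H _ (n : H).2) rfl
  have horb : ∀ (χ : Cfsg.IrrCharacter H) (f f' : G → ℂ), Irr M f → Irr M f' →
      mult M (ext0 H (χ : H → ℂ)) f ≠ 0 → mult M (ext0 H (χ : H → ℂ)) f' ≠ 0 →
      ∃ g ∈ H, ∀ m ∈ M, f' m = f (g * m * g⁻¹) := by
    intro χ f f' hf hf' h h'
    rw [hmult] at h h'
    obtain ⟨g, hg⟩ := Clifford.exists_conjBy_eq (M.subgroupOf H) χ.2
      ((isIrrCharacter_comp_mulEquiv eM).2 hf) ((isIrrCharacter_comp_mulEquiv eM).2 hf') h h'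
    exact ⟨g, g.2, fun m hm => (congrFun hg ⟨⟨m, hMH hm⟩, hm⟩).symm⟩
  -- existence of an invariant constituent
  have hex : ∀ a : A, ∃ θ : Theta M S R lam, mult M (ext0 H (a.1 : H → ℂ)) θ.fn ≠ 0 := by
    rintro ⟨χ, hdeg, hL⟩
    obtain ⟨φ, hφ, hne⟩ := Ito.exists_constituent ((hchr χ).chr.mono hMH)
      (by simpa [res] using (hchr χ).one_ne)
    set f := ext0 M φ
    have hf : Irr M f := by rw [Irr, res_ext0]; exact hφ
    have hfm : mult M (ext0 H (χ : H → ℂ)) f ≠ 0 := by rw [mult_eq, res_ext0]; exact hne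
    let T := (stab M f ⊓ H).subgroupOf H
    have hdegree := Clifford.card_mul_degree (M.subgroupOf H) χ.2
      ((isIrrCharacter_comp_mulEquiv eM).2 hf) (by rw [← hmult]; exact hfm) T (fun g => by
        constructor
        · exact fun hg => funext fun n => hg.1.2 _ n.2
        · exact fun hg => ⟨⟨hH g.2, fun m hm => congrFun hg ⟨⟨m, hMH hm⟩, hm⟩⟩, g.2⟩)
    obtain ⟨c, hc⟩ := classInner_char_nat
      (isCharacter_restrict (M.subgroupOf H) (irr_isCharacter χ))
      (isCharacter_of_isIrr ((isIrrCharacter_comp_mulEquiv eM).2 hf))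
    obtain ⟨b, -, hb⟩ := irr_one_pos ((isIrrCharacter_comp_mulEquiv eM).2 hf)
    rw [hc, hb, ← BlocksChars.Degrees.charDegree_cast χ, ← T.card_mul_index] at hdegree
    have hd : Nat.card T * Cfsg.charDegree (χ : H → ℂ) = Nat.card T * (T.index * (c * b)) := by
      have : ((Nat.card T * Cfsg.charDegree (χ : H → ℂ) : ℕ) : ℂ) =
          ((Nat.card T * (T.index * (c * b)) : ℕ) : ℂ) := by
        push_cast at hdegree ⊢
        rw [hdegree]; ring
      exact_mod_cast this
    have hT : ¬ p ∣ T.index := fun h => hdeg (by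
      rw [Nat.eq_of_mul_eq_mul_left Nat.card_pos hd]; exact Dvd.dvd.mul_right h _)
    -- a conjugate of `S` fixes `f`
    obtain ⟨Q⟩ : Nonempty (Sylow p T) := inferInstance
    have hQ : IsPGroup p ((Q : Subgroup T).map T.subtype) := Q.isPGroup'.map _
    have hQi : ¬ p ∣ ((Q : Subgroup T).map T.subtype).index := by
      rw [Subgroup.index_map, Subgroup.range_subtype, Subgroup.ker_subtype, sup_bot_eq]
      exact fun h => (hp.out.dvd_mul.1 h).elim Q.not_dvd_index hT
    have hSi : ¬ p ∣ (S.subgroupOf H).index := hidx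
    obtain ⟨g, hg⟩ := MulAction.exists_smul_eq H
      ((hS.of_equiv (Subgroup.subgroupOfEquivOfLe hSH).symm).toSylow hSi) (hQ.toSylow hQi)
    refine ⟨⟨⟨res M (cj (g : G) f), cj_irr (hH g.2) hf⟩, fun s hs m hm => ?_, fun r hr => ?_⟩, ?_⟩
    · have hgs : g * ⟨s, hSH hs⟩ * g⁻¹ ∈ (Q : Subgroup T).map T.subtype := by
        have h := congrArg (fun P : Sylow p H => (P : Subgroup H)) hg
        simp only [Sylow.coe_subgroup_smul, IsPGroup.toSylow_coe] at h
        rw [← h, Subgroup.pointwise_smul_def]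
        exact ⟨⟨s, hSH hs⟩, hs, rfl⟩
      have hst : ((g * ⟨s, hSH hs⟩ * g⁻¹ : H) : G) ∈ stab M f := (map_subtype_le _ hgs).1
      rw [ext0_apply M _ (conj_mem (hH (hSH hs)) hm), ext0_apply M _ hm]
      show f ((g : G) * (s * m * s⁻¹) * (g : G)⁻¹) = f ((g : G) * m * (g : G)⁻¹)
      rw [← hst.2 _ (conj_mem (hH g.2) hm)]
      congr 1
      push_cast
      group
    · have hirr : Irr M (cj (g : G) f) := cj_irr (hH g.2) hf
      rw [ext0_apply M _ hr.2, ext0_apply M _ M.one_mem]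
      show cj (g : G) f r = lam r * cj (g : G) f 1
      obtain ⟨ω, hω⟩ := central_scalar (hchr χ) (hRH hr.1) fun h _ =>
        Subgroup.mem_center_iff.1 (hR hr.1) h
      obtain ⟨ω', hω'⟩ := central_scalar hirr hr.2 fun h _ =>
        Subgroup.mem_center_iff.1 (hR hr.1) h
      have hm' : mult M (ext0 H (χ : H → ℂ)) (cj (g : G) f) ≠ 0 := by
        rw [← mult_congr (f := cj (g : G) (ext0 H (χ : H → ℂ)))
          (fun m hm => (hchr χ).chr.conj_apply g.2 (hMH hm)) (fun _ _ => rfl), mult_cj (hH g.2)]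
        exact hfm
      have he := scalar_eq_of_mult hirr hr.2 (fun h hh => hω h (hMH hh)) hω' hm'
      have h1 := hω 1 H.one_mem
      rw [mul_one, hL r hr.1] at h1
      have h2 := hω' 1 M.one_mem
      rw [mul_one, he, ← mul_right_cancel₀ (hchr χ).one_ne h1] at h2
      exact h2
    · show mult M (ext0 H (χ : H → ℂ)) (ext0 M _) ≠ 0
      rw [mult_congr (g' := cj (g : G) f) (fun _ _ => rfl) (fun m hm => ext0_apply M _ hm),
        ← mult_congr (f := cj (g : G) (ext0 H (χ : H → ℂ)))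
          (fun m hm => (hchr χ).chr.conj_apply g.2 (hMH hm)) (fun _ _ => rfl), mult_cj (hH g.2)]
      exact hfm
  -- two of them are conjugate under the normalizer
  have huniq : ∀ (a : A) (θ θ' : Theta M S R lam), mult M (ext0 H (a.1 : H → ℂ)) θ.fn ≠ 0 →
      (mult M (ext0 H (a.1 : H → ℂ)) θ'.fn ≠ 0 ↔ st.r θ θ') := by
    intro a θ θ' h
    constructor
    · intro h'
      obtain ⟨g, hg, hgf⟩ := horb a.1 θ.fn θ'.fn θ.irr θ'.irr h h'
      let T := (stab M θ.fn ⊓ H)
      have hST : S ≤ T := fun s hs => ⟨⟨hH (hSH hs), θ.2.1 s hs⟩, hSH hs⟩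
      have hgST : S.map (MulAut.conj g).toMonoidHom ≤ T := by
        rintro _ ⟨s, hs, rfl⟩
        have hgs : g * s * g⁻¹ ∈ H := H.mul_mem (H.mul_mem hg (hSH hs)) (H.inv_mem hg)
        refine ⟨⟨hH hgs, fun m hm => ?_⟩, hgs⟩
        show θ.fn (g * s * g⁻¹ * m * (g * s * g⁻¹)⁻¹) = θ.fn m
        have hm1 : g⁻¹ * m * g ∈ M := by simpa using conj_mem (hH (H.inv_mem hg)) hm
        have e1 := θ'.2.1 s hs _ hm1
        have e2 : θ'.fn (s * (g⁻¹ * m * g) * s⁻¹) = θ'.fn (g⁻¹ * m * g) := e1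
        rw [hgf _ (conj_mem (hH (hSH hs)) hm1), hgf _ hm1] at e2
        convert e2 using 2 <;> group
      have hidxT : ¬ p ∣ (S.subgroupOf T).index := fun hd =>
        hidx (hd.trans (Dvd.intro _ (Subgroup.relIndex_mul_relIndex S T H hST inf_le_right)))
      have hidxT' : ¬ p ∣ ((S.map (MulAut.conj g).toMonoidHom).subgroupOf T).index := by
        intro hd
        apply hidxT
        have hc : Nat.card (S.map (MulAut.conj g).toMonoidHom) = Nat.card S :=
          card_map_of_injective (MulAut.conj g).injective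
        have h1 := Subgroup.card_mul_index (S.subgroupOf T)
        have h2 := Subgroup.card_mul_index ((S.map (MulAut.conj g).toMonoidHom).subgroupOf T)
        rw [Nat.card_congr (Subgroup.subgroupOfEquivOfLe hST).toEquiv] at h1
        rw [Nat.card_congr (Subgroup.subgroupOfEquivOfLe hgST).toEquiv, hc, ← h1] at h2
        rwa [← Nat.eq_of_mul_eq_mul_left Nat.card_pos h2]
      obtain ⟨t, ht⟩ := MulAction.exists_smul_eq T
        ((hS.of_equiv (Subgroup.subgroupOfEquivOfLe hST).symm).toSylow hidxT)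
        (((hS.map (MulAut.conj g).toMonoidHom).of_equiv
          (Subgroup.subgroupOfEquivOfLe hgST).symm).toSylow hidxT')
      refine ⟨(t : G)⁻¹ * g, ⟨?_, H.mul_mem (H.inv_mem t.2.2) hg⟩, fun m hm => ?_⟩
      · have h1 := congrArg (fun P : Sylow p T => (P : Subgroup T)) ht
        simp only [Sylow.coe_subgroup_smul, IsPGroup.toSylow_coe] at h1
        have h2 := congrArg (Subgroup.map T.subtype) h1
        have h3 : S.map (MulAut.conj (t : G)).toMonoidHom = S.map (MulAut.conj g).toMonoidHom := by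
          conv_lhs => rw [show S = (S.subgroupOf T).map T.subtype by
            rw [Subgroup.map_subgroupOf_eq_of_le hST]]
          conv_rhs => rw [show S.map (MulAut.conj g).toMonoidHom =
            ((S.map (MulAut.conj g).toMonoidHom).subgroupOf T).map T.subtype by
              rw [Subgroup.map_subgroupOf_eq_of_le hgST]]
          rw [← h2, Subgroup.map_map]
          exact (Subgroup.map_map (S.subgroupOf T) T.subtype
            (MulAut.conj t : T ≃* T).toMonoidHom).symm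
        have h4 := congrArg (Subgroup.map (MulAut.conj (t : G)⁻¹).toMonoidHom) h3
        rw [Subgroup.map_map, Subgroup.map_map] at h4
        refine mem_normalizer_iff_map_conj_eq.2 ?_
        refine Eq.trans ?_ (h4.symm.trans ?_)
        · congr 1
          ext x
          simp [mul_assoc]
        · convert Subgroup.map_id S
          ext x
          simp [mul_assoc]
      · rw [hgf m hm]
        have hm1 : (t : G)⁻¹ * (g * m * g⁻¹) * t ∈ M := by
          simpa using conj_mem (hH (H.inv_mem t.2.2)) (conj_mem (hH hg) hm)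
        rw [show g * m * g⁻¹ = (t : G) * ((t : G)⁻¹ * (g * m * g⁻¹) * t) * (t : G)⁻¹ by group,
          t.2.1.2 _ hm1]
        congr 1
        group
    · rintro ⟨n, hn, hn'⟩
      rw [mult_congr (g' := cj n θ.fn) (fun _ _ => rfl) hn',
        ← mult_congr (f := cj n (ext0 H (a.1 : H → ℂ)))
          (fun m hm => (hchr a.1).chr.conj_apply hn.2 (hMH hm)) (fun _ _ => rfl),
        mult_cj (hH hn.2)]
      exact h
  choose F hF using hex
  have e1 := Nat.card_congr (Equiv.sigmaFiberEquiv fun a : A => Quotient.mk st (F a))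
  rw [Nat.card_sigma] at e1
  rw [finsum_eq_sum_of_fintype, cntL, ← e1]
  refine Finset.sum_congr rfl fun o _ => Nat.card_congr
    { toFun := fun a => ⟨a.1.1, a.1.2.1, (huniq a.1 (F a.1) o.out (hF a.1)).2 (Quotient.exact
        (a.2.trans (Quotient.out_eq o).symm)), a.1.2.2⟩
      invFun := fun χ => ⟨⟨χ.1, χ.2.1, χ.2.2.2⟩, by
        refine Eq.trans ?_ (Quotient.out_eq o)
        exact Quotient.sound ((huniq ⟨χ.1, χ.2.1, χ.2.2.2⟩ (F _) o.out (hF _)).1 χ.2.2.1)⟩
      left_inv := fun a => rfl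
      right_inv := fun χ => rfl }

end Cfsg.Agent.CharTheory.RelMcKay
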