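import Mathlib
import Cfsg.Agent.Lib.CharTheory.RelMcKay.Count

/-!
# The central extension attached to an invariant character of degree prime to `p`

For `θ` invariant in `G`, irreducible on the normal subgroup `M`, there is a central extension
`π : Γ → G / M` with a linear character `λ` of its kernel such that, for every `M ≤ H`, the
`p'`-degree characters of `H` over `θ` correspond to those of the preimage of `H / M` over `λ`.
-/

set_option autoImplicit false
set_option linter.style.haveILetI false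
set_option linter.unusedSectionVars false

open Subgroup
open scoped ComplexConjugate

namespace Cfsg.Agent.CharTheory.RelMcKay

open Cfsg.Agent.Characters Cfsg.Agent.CharTheory

universe u

variable {p : ℕ} [hp : Fact p.Prime]

theorem charDegree_mul_eq {A : Type u} [Group A] [Finite A] {B : Type u} [Group B] [Finite B]
    {H : Type u} [Group H] [Finite H] {χ : H → ℂ} {β : B → ℂ} {τ : A → ℂ}
    (hχ : Cfsg.IsCharacter H χ) (hβ : Cfsg.IsCharacter B β) (hτ : Cfsg.IsCharacter A τ)
    (h : χ 1 = β 1 * τ 1) :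
    Cfsg.charDegree χ = Cfsg.charDegree β * Cfsg.charDegree τ := by
  rw [← BlocksChars.Degrees.charDegree_cast_of_isCharacter hχ,
    ← BlocksChars.Degrees.charDegree_cast_of_isCharacter hβ,
    ← BlocksChars.Degrees.charDegree_cast_of_isCharacter hτ] at h
  exact_mod_cast h

/-- Gallagher's correspondence between two quotients of one group. -/
theorem gallagher_bij {A H B : Type u} [Group A] [Group H] [Group B] [Finite A] [Finite H]
    [Finite B] (π : A →* H) (hπ : Function.Surjective π) (f : A →* B) (hf : Function.Surjective f)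
    {τ : A → ℂ} (hτ : Cfsg.IsIrrCharacter A τ) (hτN : Irr f.ker τ)
    (hτp : ¬ p ∣ Cfsg.charDegree τ) (c : A → ℂ) (hc : ∀ x ∈ π.ker, ∀ y, τ (x * y) = c x * τ y)
    (hcn : ∀ x ∈ π.ker, c x * conj (c x) = 1) :
    Nat.card {χ : Cfsg.IrrCharacter H // ¬ p ∣ Cfsg.charDegree (χ : H → ℂ) ∧
        mult f.ker ((χ : H → ℂ) ∘ π) τ ≠ 0} =
      Nat.card {β : Cfsg.IrrCharacter B // ¬ p ∣ Cfsg.charDegree (β : B → ℂ) ∧
        ∀ x ∈ π.ker, (β : B → ℂ) (f x) = conj (c x) * (β : B → ℂ) 1} := by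
  classical
  haveI := Fintype.ofFinite A
  haveI := Fintype.ofFinite f.ker
  have hτc := isCharacter_of_isIrr hτ
  have hτ1 : τ 1 ≠ 0 := irr_one_ne_zero hτ
  have hdeg : ∀ (χ : Cfsg.IrrCharacter H) (β : Cfsg.IrrCharacter B),
      ((β : B → ℂ) ∘ f) * τ = (χ : H → ℂ) ∘ π →
      (¬ p ∣ Cfsg.charDegree (χ : H → ℂ) ↔ ¬ p ∣ Cfsg.charDegree (β : B → ℂ)) := by
    intro χ β h
    rw [charDegree_mul_eq (irr_isCharacter χ) (irr_isCharacter β) hτc
      (by simpa using (congrFun h 1).symm), hp.out.dvd_mul]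
    exact ⟨fun h1 h2 => h1 (Or.inl h2), fun h1 h2 => h2.elim h1 hτp⟩
  have hex : ∀ χ : {χ : Cfsg.IrrCharacter H // ¬ p ∣ Cfsg.charDegree (χ : H → ℂ) ∧
      mult f.ker ((χ : H → ℂ) ∘ π) τ ≠ 0},
      ∃ β : {β : Cfsg.IrrCharacter B // ¬ p ∣ Cfsg.charDegree (β : B → ℂ) ∧
        ∀ x ∈ π.ker, (β : B → ℂ) (f x) = conj (c x) * (β : B → ℂ) 1},
        ((β.1 : B → ℂ) ∘ f) * τ = (χ.1 : H → ℂ) ∘ π := by
    rintro ⟨χ, hd, hm⟩
    rw [mult_eq] at hm
    obtain ⟨hη, hprod⟩ := Average.gallagher f.ker hτ hτN (isIrrCharacter_comp_surjective π hπ χ.2) hm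
    set η := Average.quotChar f.ker τ ((χ : H → ℂ) ∘ π) with hηdef
    have hηx : ∀ x ∈ π.ker, ∀ y, η (x * y) = conj (c x) * η y := by
      intro x hx y
      simp only [hηdef, Average.quotChar_apply, Finset.mul_sum]
      refine Finset.sum_congr rfl fun n _ => ?_
      have hxn : (n : A) * x * (n : A)⁻¹ ∈ π.ker := (inferInstance : π.ker.Normal).conj_mem x hx _
      have hcx : c ((n : A) * x * (n : A)⁻¹) = c x := by
        have h1 := hc _ hxn 1
        have h2 := hc x hx 1
        rw [mul_one] at h1 h2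
        rw [char_isClassFunction hτc x (n : A), h2] at h1
        exact (mul_right_cancel₀ hτ1 h1).symm
      have h1 : (n : A) * (x * y) = ((n : A) * x * (n : A)⁻¹) * ((n : A) * y) := by group
      rw [h1, hc _ hxn, hcx, Function.comp_apply, Function.comp_apply, map_mul π
        ((n : A) * x * (n : A)⁻¹), show π ((n : A) * x * (n : A)⁻¹) = 1 from hxn, one_mul,
        map_mul (starRingEnd ℂ)]
      ring
    obtain ⟨β, -, hβf, hβirr⟩ := exists_deflate f hf (isCharacter_of_isIrr hη) fun x hx => by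
      have := Average.quotChar_mul_left f.ker τ ((χ : H → ℂ) ∘ π) ⟨x, hx⟩ 1
      rw [mul_one] at this
      exact this
    refine ⟨⟨⟨β, hβirr hη⟩, (hdeg χ ⟨β, hβirr hη⟩ ?_).1 hd, fun x hx => ?_⟩, ?_⟩
    · show (β ∘ f) * τ = _
      rw [hβf]; exact hprod
    · show β (f x) = conj (c x) * β 1
      rw [show β (f x) = η x from congrFun hβf x,
        show β 1 = η 1 from (congrArg β (map_one f).symm).trans (congrFun hβf 1), ← hηx x hx 1, mul_one]
    · show (β ∘ f) * τ = _
      rw [hβf]; exact hprod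
  choose Φ hΦ using hex
  refine Nat.card_eq_of_bijective Φ ⟨fun a b he => ?_, fun b => ?_⟩
  · refine Subtype.ext (Subtype.ext (funext fun h => ?_))
    obtain ⟨x, rfl⟩ := hπ h
    have ha := congrFun (hΦ a) x
    have hb := congrFun (hΦ b) x
    rw [he] at ha
    exact ha.symm.trans hb
  · obtain ⟨β, hd, hL⟩ := b
    set η := (β : B → ℂ) ∘ f with hηdef
    have hη : Cfsg.IsIrrCharacter A η := isIrrCharacter_comp_surjective f hf β.2
    have hηN : ∀ (n : f.ker) (g : A), η ((n : A) * g) = η g := fun n g => by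
      show (β : B → ℂ) (f ((n : A) * g)) = (β : B → ℂ) (f g)
      rw [map_mul, show f (n : A) = 1 from n.2, one_mul]
    have hquot : Average.quotChar f.ker τ (η * τ) = η := by
      funext g
      have h1 : Average.quotChar f.ker τ (η * τ) g = η g * Average.quotChar f.ker τ τ g := by
        simp only [Average.quotChar_apply, Finset.mul_sum, Pi.mul_apply, hηN]
        exact Finset.sum_congr rfl fun n _ => by ring
      rw [h1, Average.quotChar_self f.ker hτ hτN, mul_one]
    have hψ : Cfsg.IsIrrCharacter A (η * τ) := by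
      refine isIrr_of_isCharacter_of_norm_one (isCharacter_mul (isCharacter_of_isIrr hη) hτc) ?_
      have := Average.classInner_quotChar_self f.ker τ (η * τ)
      rwa [hquot, classInner_isIrr_self hη] at this
    obtain ⟨χ, -, hχπ, hχirr⟩ := exists_deflate π hπ (isCharacter_of_isIrr hψ) fun x hx => by
      have h1 := hc x hx 1
      rw [mul_one] at h1
      show (β : B → ℂ) (f x) * τ x = (β : B → ℂ) (f 1) * τ 1
      rw [hL x hx, h1, map_one]
      linear_combination ((β : B → ℂ) 1 * τ 1) * hcn x hx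
    have hm : mult f.ker (χ ∘ π) τ ≠ 0 := by
      have h1 : mult f.ker (η * τ) τ = η 1 := by
        rw [mult_eq]
        exact (Average.quotChar_one f.ker τ (η * τ)).symm.trans (congrFun hquot 1)
      rw [hχπ, h1]
      exact irr_one_ne_zero hη
    let a : {χ : Cfsg.IrrCharacter H // ¬ p ∣ Cfsg.charDegree (χ : H → ℂ) ∧
        mult f.ker ((χ : H → ℂ) ∘ π) τ ≠ 0} :=
      ⟨⟨χ, hχirr hψ⟩, (hdeg ⟨χ, hχirr hψ⟩ β hχπ.symm).2 hd, hm⟩
    refine ⟨a, Subtype.ext (Subtype.ext (funext fun y => ?_))⟩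
    obtain ⟨x, rfl⟩ := hf y
    have h2 : ((Φ a).1 : B → ℂ) ∘ f = η := by
      rw [← hquot]
      funext g
      have h3 : ∀ g, ((Φ a).1 : B → ℂ) (f g) * τ g = η g * τ g := fun g => by
        have := congrFun (hΦ a) g
        exact this.trans (congrFun hχπ g)
      have h4 : Average.quotChar f.ker τ (η * τ) g =
          ((Φ a).1 : B → ℂ) (f g) * Average.quotChar f.ker τ τ g := by
        simp only [Average.quotChar_apply, Finset.mul_sum, Pi.mul_apply]
        refine Finset.sum_congr rfl fun n _ => ?_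
        rw [← h3, map_mul, show f (n : A) = 1 from n.2, one_mul]
        ring
      rw [h4, Average.quotChar_self f.ker hτ hτN, mul_one]
      rfl
    exact congrFun h2 x

variable {G : Type u} [Group G] [Finite G]

/-- The central extension attached to an invariant character. -/
theorem triple {M : Subgroup G} [hMn : M.Normal] {θ : G → ℂ} (hθ : Irr M θ)
    (hinv : ∀ g, Inv M θ g) (hθp : ¬ p ∣ Cfsg.charDegree (res M θ)) :
    ∃ (Γ : Type u) (_ : Group Γ) (_ : Finite Γ) (π : Γ →* G ⧸ M) (lam : Γ → ℂ),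
      Function.Surjective π ∧ π.ker ≤ Subgroup.center Γ ∧
      (∀ a ∈ π.ker, ∀ b ∈ π.ker, lam (a * b) = lam a * lam b) ∧
      ∀ H : Subgroup G, M ≤ H → cnt p H M θ ⊥ (fun _ => 1) =
        cntL p ((H.map (QuotientGroup.mk' M)).comap π) π.ker lam := by
  classical
  haveI := Fintype.ofFinite G
  haveI := Fintype.ofFinite M
  obtain ⟨d, ρ, hρ, hρθ⟩ := hθ
  haveI := hρ
  have hinv' : ∀ g : G, Clifford.conjBy M g ρ.character = ρ.character := fun g => by
    rw [hρθ]; exact funext fun m => hinv g m m.2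
  have hdpos : 0 < d := by
    have := finrank_pos_of_isIrreducible ρ
    rwa [Module.finrank_fin_fun] at this
  set n0 := Nat.card G with hn0def
  have hn0 : 0 < n0 := Nat.card_pos
  let D : Extension.LiftGroup ρ →* ℂˣ :=
    ((Units.map (LinearMap.det : ((Fin d → ℂ) →ₗ[ℂ] (Fin d → ℂ)) →* ℂ)).comp
      (Extension.mat ρ)) ^ n0
  let Γ0 : Subgroup (Extension.LiftGroup ρ) := D.ker
  let π0 : Γ0 →* G := (Extension.proj ρ).comp Γ0.subtype
  have hdetsc : ∀ c : ℂˣ, D (Extension.sc ρ c) = c ^ (d * n0) := by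
    intro c
    apply Units.ext
    simp [D, Extension.scU_coe, LinearMap.det_smul, Module.finrank_fin_fun, pow_mul]
  have hsurj : Function.Surjective π0 := by
    intro g
    obtain ⟨e₀, he₀⟩ := Extension.proj_surjective ρ hinv' g
    obtain ⟨z, hz⟩ := IsAlgClosed.exists_pow_nat_eq ((D e₀ : ℂ)⁻¹) (Nat.mul_pos hdpos hn0)
    have hz0 : z ≠ 0 := by
      rintro rfl
      rw [zero_pow (Nat.mul_pos hdpos hn0).ne', eq_comm, inv_eq_zero] at hz
      exact (D e₀).ne_zero hz
    refine ⟨⟨Extension.sc ρ (Units.mk0 z hz0) * e₀, ?_⟩, ?_⟩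
    · show D _ = 1
      rw [map_mul, hdetsc]
      apply Units.ext
      simp [hz]
    · simp [π0, he₀]
  have hinclmem : ∀ m : M, Extension.incl ρ m ∈ Γ0 := by
    intro m
    show D _ = 1
    let δ : M →* ℂˣ :=
      MonoidHom.toHomUnits ((LinearMap.det : ((Fin d → ℂ) →ₗ[ℂ] (Fin d → ℂ)) →* ℂ).comp ρ)
    have h1 : D (Extension.incl ρ m) = δ m ^ n0 := Units.ext (by simp [D, δ])
    have h2 : m ^ n0 = 1 := Subtype.ext (by rw [Subgroup.coe_pow, hn0def, pow_card_eq_one']; rfl)
    rw [h1, ← map_pow, h2, map_one]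
  let j : M →* Γ0 := (Extension.incl ρ).codRestrict Γ0 hinclmem
  have hπj : ∀ m : M, π0 (j m) = (m : G) := fun _ => rfl
  have hker : ∀ x : Γ0, π0 x = 1 → ∃ c : ℂˣ,
      (x : Extension.LiftGroup ρ) = Extension.sc ρ c ∧ c ^ (d * n0) = 1 := by
    intro x hx
    obtain ⟨c, hc⟩ := Extension.proj_eq_one ρ hx
    refine ⟨c, hc, ?_⟩
    have hxD : D (x : Extension.LiftGroup ρ) = 1 := x.2
    have hc' : (x : Extension.LiftGroup ρ) = Extension.sc ρ c := hc
    rwa [hc', hdetsc] at hxD
  haveI : NeZero (d * n0) := ⟨(Nat.mul_pos hdpos hn0).ne'⟩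
  haveI : Finite π0.ker := by
    choose c hc hc1 using fun x : π0.ker => hker x.1 x.2
    refine Finite.of_injective (fun x => (⟨c x, hc1 x⟩ : rootsOfUnity (d * n0) ℂ)) fun a b h => ?_
    have h' : c a = c b := congrArg Subtype.val h
    exact Subtype.ext (Subtype.ext (by rw [hc a, hc b, h']))
  haveI : Finite Γ0 := π0.finite_iff_finite_ker_range.mpr ⟨inferInstance, inferInstance⟩
  haveI hN' : (j.range).Normal := ⟨by
    rintro _ ⟨m, rfl⟩ x
    exact ⟨MulAut.conjNormal (π0 x) m,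
      Subtype.ext (Extension.conj_incl ρ (x : Extension.LiftGroup ρ) m).symm⟩⟩
  -- the character `τ`
  let τr : Representation ℂ Γ0 (Fin d → ℂ) :=
    (Units.coeHom _).comp ((Extension.mat ρ).comp Γ0.subtype)
  set τ : Γ0 → ℂ := τr.character with hτdef
  have hτj : ∀ m : M, τ (j m) = θ m := fun m => congrFun hρθ m
  have hτc : Cfsg.IsCharacter Γ0 τ := isCharacter_character τr
  -- central kernel
  choose cc hcc hcc1 using fun x : π0.ker => hker x.1 x.2
  have hcomm : ∀ x ∈ π0.ker, ∀ y : Γ0, x * y = y * x := fun x hx y => Subtype.ext (by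
    rw [Subgroup.coe_mul, Subgroup.coe_mul, hcc ⟨x, hx⟩]
    exact Extension.sc_comm ρ _ _)
  let c : Γ0 → ℂ := fun x => if h : x ∈ π0.ker then (cc ⟨x, h⟩ : ℂ) else 1
  have hτsc : ∀ x ∈ π0.ker, ∀ y : Γ0, τ (x * y) = c x * τ y := by
    intro x hx y
    show LinearMap.trace ℂ _ (τr (x * y)) = c x * LinearMap.trace ℂ _ (τr y)
    have h3 : τr x = c x • LinearMap.id := by
      show Units.val (Extension.mat ρ (x : Extension.LiftGroup ρ)) = _
      rw [hcc ⟨x, hx⟩, Extension.mat_sc, Extension.scU_coe]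
      simp only [c, dif_pos hx]
    rw [map_mul, h3, ← Module.End.one_eq_id, smul_mul_assoc, one_mul, map_smul, smul_eq_mul]
  have hcn : ∀ x ∈ π0.ker, c x * conj (c x) = 1 := by
    intro x hx
    simp only [c, dif_pos hx]
    have h1 : ((cc ⟨x, hx⟩ : ℂˣ) : ℂ) ^ (d * n0) = 1 := by
      rw [← Units.val_pow_eq_pow_val, hcc1, Units.val_one]
    rw [Complex.mul_conj', Complex.norm_eq_one_of_pow_eq_one h1 (NeZero.ne _)]
    simp
  have hcmul : ∀ x ∈ π0.ker, ∀ y ∈ π0.ker, c (x * y) = c x * c y := by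
    intro x hx y hy
    have hτ1 : τ 1 ≠ 0 := by
      rw [← map_one j, hτj]; exact (show Irr M θ from ⟨d, ρ, hρ, hρθ⟩).one_ne
    have h1 := hτsc _ (mul_mem hx hy) 1
    have h2 := hτsc x hx y
    have h3 := hτsc y hy 1
    rw [mul_one] at h1 h3
    rw [h3, h1, ← mul_assoc] at h2
    exact mul_right_cancel₀ hτ1 h2
  -- the extension
  let f : Γ0 →* Γ0 ⧸ j.range := QuotientGroup.mk' j.range
  have hf : Function.Surjective f := QuotientGroup.mk'_surjective _
  let π : Γ0 ⧸ j.range →* G ⧸ M := QuotientGroup.lift j.range ((QuotientGroup.mk' M).comp π0) (by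
    rintro _ ⟨m, rfl⟩
    exact (QuotientGroup.eq_one_iff _).2 m.2)
  have hπf : ∀ x, π (f x) = ((π0 x : G) : G ⧸ M) := fun x => rfl
  have hπs : Function.Surjective π := fun q => by
    obtain ⟨g, rfl⟩ := QuotientGroup.mk'_surjective M q
    obtain ⟨x, rfl⟩ := hsurj g
    exact ⟨f x, rfl⟩
  have hkerπ : ∀ z ∈ π.ker, ∃ x ∈ π0.ker, f x = z := by
    intro z hz
    obtain ⟨y, rfl⟩ := hf z
    have hy : π0 y ∈ M := (QuotientGroup.eq_one_iff _).1 hz
    refine ⟨y * (j ⟨π0 y, hy⟩)⁻¹, ?_, ?_⟩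
    · rw [MonoidHom.mem_ker, map_mul, map_inv, hπj, mul_inv_cancel]
    · rw [map_mul, show f (j ⟨π0 y, hy⟩)⁻¹ = 1 from (QuotientGroup.eq_one_iff _).2
        (j.range.inv_mem ⟨_, rfl⟩), mul_one]
  have hfinj : ∀ x ∈ π0.ker, ∀ y ∈ π0.ker, f x = f y → x = y := by
    intro x hx y hy h
    obtain ⟨m, hm⟩ := QuotientGroup.eq.1 h
    have : π0 (x⁻¹ * y) = 1 := by
      rw [map_mul, map_inv, show π0 x = 1 from hx, show π0 y = 1 from hy, inv_one, one_mul]
    rw [← hm, hπj] at this
    have hm1 : m = 1 := Subtype.ext this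
    rw [hm1, map_one] at hm
    exact inv_mul_eq_one.1 hm.symm
  let lam : Γ0 ⧸ j.range → ℂ :=
    fun z => if h : ∃ x ∈ π0.ker, f x = z then conj (c h.choose) else 1
  have hlam : ∀ x ∈ π0.ker, lam (f x) = conj (c x) := by
    intro x hx
    have h : ∃ y ∈ π0.ker, f y = f x := ⟨x, hx, rfl⟩
    simp only [lam, dif_pos h]
    rw [hfinj _ h.choose_spec.1 x hx h.choose_spec.2]
  refine ⟨Γ0 ⧸ j.range, inferInstance, inferInstance, π, lam, hπs, ?_, ?_, ?_⟩
  · intro z hz
    obtain ⟨x, hx, rfl⟩ := hkerπ z hz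
    refine Subgroup.mem_center_iff.2 fun w => ?_
    obtain ⟨y, rfl⟩ := hf w
    rw [← map_mul, ← map_mul, hcomm x hx y]
  · intro a ha b hb
    obtain ⟨x, hx, rfl⟩ := hkerπ a ha
    obtain ⟨y, hy, rfl⟩ := hkerπ b hb
    rw [← map_mul, hlam _ (mul_mem hx hy), hlam x hx, hlam y hy, hcmul x hx y hy, map_mul]
  intro H hMH
  set A := H.comap π0 with hA
  set B := (H.map (QuotientGroup.mk' M)).comap π with hB
  let πA : A →* H := (π0.comp A.subtype).codRestrict H fun x => x.2
  have hπA : Function.Surjective πA := fun h => by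
    obtain ⟨x, hx⟩ := hsurj h
    exact ⟨⟨x, show π0 x ∈ H from hx ▸ h.2⟩, Subtype.ext hx⟩
  let fA : A →* B := (f.comp A.subtype).codRestrict B fun x => ⟨π0 x, x.2, rfl⟩
  have hfA : Function.Surjective fA := by
    rintro ⟨z, g, hg, hz⟩
    obtain ⟨y, rfl⟩ := hf z
    have h1 : π0 y * g⁻¹ ∈ M := by
      rw [← QuotientGroup.eq_one_iff, QuotientGroup.mk_mul, QuotientGroup.mk_inv]
      rw [show ((g : G) : G ⧸ M) = ((π0 y : G) : G ⧸ M) from hz, mul_inv_cancel]
    have h2 : π0 y ∈ H := by simpa using H.mul_mem (hMH h1) hg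
    exact ⟨⟨y, h2⟩, rfl⟩
  have hjA : ∀ m : M, j m ∈ A := fun m => hMH m.2
  let jA : M →* fA.ker := ((j.codRestrict A hjA)).codRestrict fA.ker fun m =>
    Subtype.ext ((QuotientGroup.eq_one_iff (j m)).2 ⟨m, rfl⟩)
  have hjAb : Function.Bijective jA := by
    constructor
    · intro a b h
      have h1 : π0 (j a) = π0 (j b) :=
        congrArg (fun x : fA.ker => π0 ((x : A) : Γ0)) h
      exact Subtype.ext h1
    · rintro ⟨x, hx⟩
      obtain ⟨m, hm⟩ := (QuotientGroup.eq_one_iff (x : Γ0)).1 (congrArg Subtype.val hx)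
      exact ⟨m, Subtype.ext (Subtype.ext hm)⟩
  set τA : A → ℂ := fun x => τ x with hτA
  have hτN : Irr fA.ker τA := by
    refine (isIrrCharacter_comp_mulEquiv (MulEquiv.ofBijective jA hjAb)).1 ?_
    rw [show res fA.ker τA ∘ (MulEquiv.ofBijective jA hjAb) = res M θ from
      funext fun m => hτj m]
    exact ⟨d, ρ, hρ, hρθ⟩
  have hτAi : Cfsg.IsIrrCharacter A τA :=
    NormalSylow.isIrr_of_restrict fA.ker.subtype (isCharacter_comp A.subtype hτc) hτN
  have hdegτ : Cfsg.charDegree τA = Cfsg.charDegree (res M θ) := by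
    have h1 := BlocksChars.Degrees.charDegree_cast_of_isCharacter (isCharacter_of_isIrr hτAi)
    have h2 := BlocksChars.Degrees.charDegree_cast_of_isCharacter
      (show Cfsg.IsCharacter M (res M θ) from ⟨d, ρ, hρθ⟩)
    have h3 : τA 1 = res M θ 1 := by
      show τ 1 = θ (1 : M)
      rw [← hτj, map_one]
    rw [h3, ← h2] at h1
    exact_mod_cast h1
  have key := gallagher_bij (p := p) πA hπA fA hfA hτAi hτN (hdegτ ▸ hθp) (fun x => c x)
    (fun x hx y => hτsc x (show π0 x = 1 from congrArg Subtype.val hx) y)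
    (fun x hx => hcn x (show π0 x = 1 from congrArg Subtype.val hx))
  rw [cnt, cntL]
  refine Eq.trans (Nat.card_congr (Equiv.subtypeEquivRight fun χ => ?_))
    (key.trans (Nat.card_congr (Equiv.subtypeEquivRight fun β => ?_)))
  · have hm : mult fA.ker ((χ : H → ℂ) ∘ πA) τA = mult M (ext0 H (χ : H → ℂ)) θ := by
      unfold mult
      rw [← Nat.card_congr (Equiv.ofBijective jA hjAb)]
      congr 1
      refine (finsum_eq_of_bijective jA hjAb fun m => ?_).symm
      rw [← hτj m]
      congr 1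
      exact ext0_apply H _ (hMH m.2)
    rw [hm]
    refine and_congr_right fun _ => and_iff_left_of_imp fun _ r hr => ?_
    rw [Subgroup.mem_bot.1 hr, one_mul]
  · refine and_congr_right fun _ => ?_
    have h1B : (1 : Γ0 ⧸ j.range) ∈ B := B.one_mem
    constructor
    · intro h z hz
      obtain ⟨x, hx, rfl⟩ := hkerπ z hz
      have hxA : x ∈ A := by
        show π0 x ∈ H
        rw [show π0 x = 1 from hx]; exact H.one_mem
      rw [hlam x hx, ext0_apply B _ h1B, ext0_apply B _ (show f x ∈ B from (fA ⟨x, hxA⟩).2)]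
      exact h ⟨x, hxA⟩ (Subtype.ext hx)
    · intro h x hx
      have hx0 : (x : Γ0) ∈ π0.ker := congrArg Subtype.val hx
      have hfx : f x ∈ π.ker := by
        rw [MonoidHom.mem_ker, hπf, show π0 x = 1 from hx0]; rfl
      have := h _ hfx
      rw [hlam _ hx0, ext0_apply B _ h1B, ext0_apply B _ (show f (x : Γ0) ∈ B from (fA x).2)] at this
      exact this

end Cfsg.Agent.CharTheory.RelMcKay
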