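import Mathlib
import Cfsg.Agent.Lib.CharTheory.RelMcKay.Triple
import Cfsg.Agent.Lib.PLocal.PSolvable

/-!
# Reduction of the relative count to a central extension of the quotient
-/

set_option autoImplicit false
set_option linter.style.haveILetI false
set_option linter.unusedSectionVars false

open Subgroup
open scoped ComplexConjugate

namespace Cfsg.Agent.CharTheory.RelMcKay

open Cfsg.Agent.Characters Cfsg.Agent.CharTheory

universe u

variable {G : Type u} [Group G] [Finite G] {p : ℕ} [hp : Fact p.Prime]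

theorem relIndex_not_dvd {S H : Subgroup G} (hSH : S ≤ H) (hSi : ¬ p ∣ S.index) :
    ¬ p ∣ S.relIndex H :=
  fun h => hSi (h.trans (Dvd.intro _ (Subgroup.relIndex_mul_index hSH)))

theorem index_not_dvd_of_le {S T : Subgroup G} (hST : S ≤ T) (hSi : ¬ p ∣ S.index) : ¬ p ∣ T.index :=
  fun h => hSi (h.trans (Subgroup.index_dvd_of_le hST))

/-- A `p`-subgroup normalizing a Sylow subgroup lies in it. -/
theorem pgroup_le_of_normalizes {S Q : Subgroup G} (hS : IsPGroup p S) (hSi : ¬ p ∣ S.index)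
    (hQ : IsPGroup p Q) (hQS : Q ≤ normalizer (S : Set G)) : Q ≤ S := by
  have hP : IsPGroup p (Q ⊔ S : Subgroup G) := hQ.to_sup_of_normal_right' hS hQS
  obtain ⟨k, hk⟩ := hP.exists_card_eq
  have h1 : S.relIndex (Q ⊔ S) ∣ p ^ k := hk ▸ Subgroup.index_dvd_card _
  have h2 : S.relIndex (Q ⊔ S) = 1 := Nat.eq_one_of_dvd_coprimes
    (Nat.Coprime.pow_left k ((Nat.Prime.coprime_iff_not_dvd hp.out).2
      (relIndex_not_dvd le_sup_right hSi))) h1 dvd_rfl
  exact le_sup_left.trans (Subgroup.relIndex_eq_one.1 h2)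

theorem center_le_normalizer {Z A : Subgroup G} (hZ : Z ≤ Subgroup.center G) :
    Z ≤ normalizer (A : Set G) := fun z hz => by
  rw [mem_normalizer_iff]
  intro h
  rw [show z * h * z⁻¹ = h by rw [← Subgroup.mem_center_iff.1 (hZ hz) h, mul_inv_cancel_right]]

theorem normalizer_sup_center {Z S : Subgroup G} (hZ : Z ≤ Subgroup.center G) (hS : IsPGroup p S)
    (hSi : ¬ p ∣ S.index) :
    normalizer ((Z ⊔ S : Subgroup G) : Set G) = normalizer (S : Set G) := by
  apply le_antisymm
  · intro g hg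
    refine mem_normalizer_iff_map_conj_eq.2 ?_
    have h1 : S.map (MulAut.conj g : G →* G) ≤ Z ⊔ S := by
      have := mem_normalizer_iff_map_conj_eq.1 hg
      exact (Subgroup.map_mono le_sup_right).trans this.le
    exact eq_of_le_of_card_ge (pgroup_le_of_normalizes hS hSi (hS.map _)
      (h1.trans (sup_le (center_le_normalizer hZ) le_normalizer)))
      (le_of_eq (card_map_of_injective (MulAut.conj g).injective).symm)
  · intro g hg
    refine mem_normalizer_iff_map_conj_eq.2 ?_
    have hZe : Z.map (MulAut.conj g : G →* G) = Z := by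
      refine eq_of_le_of_card_ge ?_ (le_of_eq (card_map_of_injective (MulAut.conj g).injective).symm)
      rintro _ ⟨z, hz, rfl⟩
      show g * z * g⁻¹ ∈ Z
      rwa [Subgroup.mem_center_iff.1 (hZ hz) g, mul_inv_cancel_right]
    rw [Subgroup.map_sup, hZe, mem_normalizer_iff_map_conj_eq.1 hg]

variable (p) in
/-- The statement proved by induction on the index of a central subgroup. -/
def Main (n : ℕ) : Prop :=
  ∀ (G : Type u) [Group G] [Finite G] (Z S : Subgroup G) (lam : G → ℂ),
    Z ≤ Subgroup.center G → (∀ a ∈ Z, ∀ b ∈ Z, lam (a * b) = lam a * lam b) →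
    IsPGroup p S → ¬ p ∣ S.index →
    (∀ _h : Z.Normal, Cfsg.IsPSolvable p (G ⧸ Z)) → Z.index ≤ n →
    cntL p ⊤ Z lam = cntL p (normalizer (S : Set G)) Z lam

/-- Characters over an invariant character of degree divisible by `p`. -/
theorem cnt_eq_zero {H M : Subgroup G} (hMH : M ≤ H) (hH : H ≤ normalizer (M : Set G)) {θ : G → ℂ}
    (hθ : Irr M θ) (hinv : ∀ h ∈ H, Inv M θ h) (hd : p ∣ Cfsg.charDegree (res M θ))
    (R : Subgroup G) (lam : G → ℂ) : cnt p H M θ R lam = 0 := by
  rw [cnt, Nat.card_eq_zero]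
  refine Or.inl ⟨?_⟩
  rintro ⟨χ, hdeg, hm, -⟩
  apply hdeg
  haveI : (M.subgroupOf H).Normal := normal_subgroupOf_of_le_normalizer hH
  haveI := Fintype.ofFinite H
  haveI := Fintype.ofFinite M
  haveI := Fintype.ofFinite (M.subgroupOf H)
  let eM := Subgroup.subgroupOfEquivOfLe hMH
  have hθ' : Cfsg.IsIrrCharacter (M.subgroupOf H) (res M θ ∘ eM) :=
    (isIrrCharacter_comp_mulEquiv eM).2 hθ
  have e : mult M (ext0 H (χ : H → ℂ)) θ =
      Cfsg.classInner (fun n : M.subgroupOf H => (χ : H → ℂ) n) (res M θ ∘ eM) := by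
    rw [mult_eq, ← Basics.classInner_comp_equiv eM]
    exact congrArg₂ Cfsg.classInner (funext fun n => ext0_apply H _ (n : H).2) rfl
  rw [e] at hm
  have h1 := congrFun (Clifford.restrict_eq_smul_of_invariant (M.subgroupOf H) χ.2 hθ' hm
    fun g => funext fun n => hinv g g.2 _ n.2) 1
  obtain ⟨c, hc⟩ := classInner_char_nat (isCharacter_restrict (M.subgroupOf H) (irr_isCharacter χ))
    (isCharacter_of_isIrr hθ')
  rw [hc, Pi.smul_apply, smul_eq_mul, show (res M θ ∘ eM) 1 = res M θ 1 from rfl,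
    ← BlocksChars.Degrees.charDegree_cast_of_isCharacter hθ.chr] at h1
  have h2 : (Cfsg.charDegree (χ : H → ℂ) : ℂ) = ((c * Cfsg.charDegree (res M θ) : ℕ) : ℂ) := by
    push_cast
    rw [BlocksChars.Degrees.charDegree_cast χ]
    exact h1
  rw [show Cfsg.charDegree (χ : H → ℂ) = _ from Nat.cast_injective h2]
  exact Dvd.dvd.mul_left hd c

/-- The reduction, for an invariant character. -/
theorem reduction_inv {n : ℕ} (IH : Main.{u} p n) {M : Subgroup G} [hMn : M.Normal]
    (hidx : M.index ≤ n) (hsolv : Cfsg.IsPSolvable p (G ⧸ M)) {S : Subgroup G} (hS : IsPGroup p S)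
    (hSi : ¬ p ∣ S.index) {θ : G → ℂ} (hθ : Irr M θ) (hinv : ∀ g, Inv M θ g) :
    cnt p ⊤ M θ ⊥ (fun _ => 1) =
      cnt p (normalizer ((M ⊔ S : Subgroup G) : Set G)) M θ ⊥ (fun _ => 1) := by
  have hMN : M ≤ normalizer ((M ⊔ S : Subgroup G) : Set G) := le_sup_left.trans le_normalizer
  by_cases hd : p ∣ Cfsg.charDegree (res M θ)
  · rw [cnt_eq_zero le_top (fun g _ => mem_normalizer_of_normal g) hθ (fun g _ => hinv g) hd,
      cnt_eq_zero hMN (fun g _ => mem_normalizer_of_normal g) hθ (fun g _ => hinv g) hd]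
  obtain ⟨Γ, _, _, π, lam, hπ, hZ, hlam, hcnt⟩ := triple (p := p) hθ hinv hd
  set mk := QuotientGroup.mk' M with hmk
  have hmks : Function.Surjective mk := QuotientGroup.mk'_surjective M
  set Sq := S.map mk with hSq
  have hSqp : IsPGroup p Sq := hS.map mk
  have hSqi : ¬ p ∣ Sq.index := fun h => hSi (h.trans (Subgroup.index_map_dvd S hmks))
  -- a Sylow subgroup above `S`
  set P := Sq.comap π with hP
  have hkP : π.ker ≤ P := MonoidHom.ker_le_comap π _
  obtain ⟨Q⟩ : Nonempty (Sylow p P) := inferInstance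
  set Sb := (Q : Subgroup P).map P.subtype with hSb
  have hSbP : Sb ≤ P := map_subtype_le _
  have hSbp : IsPGroup p Sb := Q.isPGroup'.map _
  have hSbi : ¬ p ∣ Sb.index := by
    rw [hSb, Subgroup.index_map, Subgroup.range_subtype, Subgroup.ker_subtype, sup_bot_eq,
      show P.index = Sq.index from Subgroup.index_comap_of_surjective Sq hπ]
    exact fun h => (hp.out.dvd_mul.1 h).elim Q.not_dvd_index hSqi
  have hPeq : P = π.ker ⊔ Sb := by
    refine le_antisymm ?_ (sup_le hkP hSbP)
    have h1 : Sq = Sb.map π := by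
      refine (eq_of_le_of_card_ge ((Subgroup.map_mono hSbP).trans (Subgroup.map_comap_le π Sq)) ?_).symm
      have h2 : ¬ p ∣ (Sb.map π).index := fun h => hSbi (h.trans (Subgroup.index_map_dvd Sb hπ))
      obtain ⟨k, hk⟩ := hSqp.exists_card_eq
      have hle : Sb.map π ≤ Sq := (Subgroup.map_mono hSbP).trans (Subgroup.map_comap_le π Sq)
      have h3 : (Sb.map π).relIndex Sq = 1 := Nat.eq_one_of_dvd_coprimes
        (Nat.Coprime.pow_left k ((Nat.Prime.coprime_iff_not_dvd hp.out).2
          (relIndex_not_dvd hle h2))) (hk ▸ Subgroup.index_dvd_card _) dvd_rfl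
      exact Nat.le_of_dvd Nat.card_pos (card_dvd_of_le (Subgroup.relIndex_eq_one.1 h3))
    rw [hP, h1, Subgroup.comap_map_eq, sup_comm]
  have hidxZ : π.ker.index ≤ n := by
    rw [Subgroup.index_ker, Nat.card_congr (Equiv.subtypeUnivEquiv (p := fun x => x ∈ π.range)
      fun x => MonoidHom.mem_range.2 (hπ x)), ← Subgroup.index_eq_card]
    exact hidx
  have hkey := IH Γ π.ker Sb lam hZ hlam hSbp hSbi (fun _ =>
    PLocal.PSolvable.congr (QuotientGroup.quotientKerEquivOfSurjective π hπ).symm hsolv) hidxZ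
  have h1 : (((⊤ : Subgroup G)).map mk).comap π = ⊤ := by
    rw [Subgroup.map_top_of_surjective mk hmks, Subgroup.comap_top]
  have hN : normalizer ((M ⊔ S : Subgroup G) : Set G) =
      (normalizer (Sq : Set (G ⧸ M))).comap mk := by
    rw [Subgroup.comap_normalizer_eq_of_surjective Sq hmks, hSq, Subgroup.comap_map_eq,
      QuotientGroup.ker_mk', sup_comm]
  have h2 : ((normalizer ((M ⊔ S : Subgroup G) : Set G)).map mk).comap π =
      normalizer (Sb : Set Γ) := by
    rw [hN, Subgroup.map_comap_eq_self_of_surjective hmks,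
      Subgroup.comap_normalizer_eq_of_surjective Sq hπ, ← hP, hPeq,
      normalizer_sup_center hZ hSbp hSbi]
  rw [hcnt ⊤ le_top, hcnt _ hMN, h1, h2]
  exact hkey

/-- The reduction, for a character invariant under a Sylow subgroup. -/
theorem reduction {n : ℕ} (IH : Main.{u} p n) {M : Subgroup G} [hMn : M.Normal]
    (hidx : M.index ≤ n) (hsolv : Cfsg.IsPSolvable p (G ⧸ M)) {S : Subgroup G} (hS : IsPGroup p S)
    (hSi : ¬ p ∣ S.index) {θ : G → ℂ} (hθ : Irr M θ) (hθS : ∀ s ∈ S, Inv M θ s) :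
    cnt p ⊤ M θ ⊥ (fun _ => 1) =
      cnt p (normalizer ((M ⊔ S : Subgroup G) : Set G)) M θ ⊥ (fun _ => 1) := by
  set T := stab M θ with hT
  set N := normalizer ((M ⊔ S : Subgroup G) : Set G) with hN
  have hMT : M ≤ T := fun m hm => ⟨mem_normalizer_of_normal m, hθ.inv_mem hm⟩
  have hST : S ≤ T := fun s hs => ⟨mem_normalizer_of_normal s, hθS s hs⟩
  have hMN : M ≤ N := le_sup_left.trans le_normalizer
  have hSN : S ≤ N := le_sup_right.trans le_normalizer
  rw [clifford_top hθ (index_not_dvd_of_le hST hSi) bot_le bot_le,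
    clifford hMN (fun g _ => mem_normalizer_of_normal g) hθ
      (fun h => relIndex_not_dvd hSN hSi (h.trans (Subgroup.relIndex_dvd_of_le_left N hST)))
      bot_le bot_le bot_le]
  rw [← cnt_down (le_refl T) hMT bot_le, ← cnt_down (inf_le_left : T ⊓ N ≤ T) hMT bot_le,
    Subgroup.subgroupOf_self, Subgroup.bot_subgroupOf, Subgroup.inf_subgroupOf_left]
  have hN' : N.subgroupOf T =
      normalizer ((M.subgroupOf T ⊔ S.subgroupOf T : Subgroup T) : Set T) := by
    rw [← Subgroup.subgroupOf_sup hMT hST, Subgroup.subgroupOf_normalizer_eq (sup_le hMT hST)]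
  rw [hN']
  haveI : (M.subgroupOf T).Normal := hMn.subgroupOf T
  let f : T ⧸ M.subgroupOf T →* G ⧸ M := QuotientGroup.map _ M T.subtype fun _ h => h
  have hf : Function.Injective f := by
    rw [injective_iff_map_eq_one]
    intro z hz
    induction z using QuotientGroup.induction_on with | _ t => ?_
    exact (QuotientGroup.eq_one_iff t).2 ((QuotientGroup.eq_one_iff (t : G)).1 hz)
  refine reduction_inv IH (M := M.subgroupOf T) (θ := down T θ) ?_
    (PLocal.PSolvable.congr (MonoidHom.ofInjective hf).symm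
      (PLocal.PSolvable.subgroup hsolv f.range))
    (hS.of_equiv (Subgroup.subgroupOfEquivOfLe hST).symm) (relIndex_not_dvd hST hSi)
    ((irr_down hMT θ).2 hθ) (fun t => inv_down t.2.2)
  refine (Nat.le_of_dvd (Nat.pos_of_ne_zero Subgroup.index_ne_zero_of_finite) ?_).trans hidx
  exact relIndex_dvd_index_of_normal M T

end Cfsg.Agent.CharTheory.RelMcKay
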