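import Mathlib
import Cfsg.Agent.Lib.CharTheory.RelMcKay.Reduction

/-!
# Counting characters of degree prime to `p` over a central subgroup
-/

set_option autoImplicit false
set_option linter.style.haveILetI false
set_option linter.unusedSectionVars false

open Subgroup
open scoped ComplexConjugate

namespace Cfsg.Agent.CharTheory.RelMcKay

open Cfsg.Agent.Characters Cfsg.Agent.CharTheory

universe u

variable {G : Type u} [Group G] [Finite G] {p : ℕ} [hp : Fact p.Prime]

/-- Below `M`, the condition on the central subgroup is automatic. -/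
theorem cnt_drop {H M Z : Subgroup G} (hMH : M ≤ H) (hZM : Z ≤ M) (hZ : Z ≤ Subgroup.center G)
    {θ lam : G → ℂ} (hθ : Irr M θ) (hcompat : ∀ r ∈ Z, θ r = lam r * θ 1) :
    cnt p H M θ Z lam = cnt p H M θ ⊥ (fun _ => 1) := by
  refine Nat.card_congr (Equiv.subtypeEquivRight fun χ => and_congr_right fun _ =>
    and_congr_right fun hm => iff_of_true ?_ fun r hr => by rw [Subgroup.mem_bot.1 hr, one_mul])
  intro r hr
  have hχ : Irr H (ext0 H (χ : H → ℂ)) := by rw [Irr, res_ext0]; exact χ.2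
  obtain ⟨ω, hω⟩ := central_scalar hχ (hMH (hZM hr)) fun g _ => Subgroup.mem_center_iff.1 (hZ hr) g
  obtain ⟨ω', hω'⟩ := central_scalar hθ (hZM hr) fun g _ => Subgroup.mem_center_iff.1 (hZ hr) g
  have he := scalar_eq_of_mult hθ (hZM hr) (fun m hm' => hω m (hMH hm')) hω' hm
  have h1 := hω 1 H.one_mem
  have h2 := hω' 1 M.one_mem
  rw [mul_one] at h1 h2
  have h3 := hcompat r hr
  rw [h2, he] at h3
  rw [h1, mul_right_cancel₀ hθ.one_ne h3]

theorem finsum_setoid_congr {α : Type*} {s t : Setoid α} (h : s = t) (f : α → ℕ) :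
    ∑ᶠ o : Quotient s, f o.out = ∑ᶠ o : Quotient t, f o.out := by
  subst h; rfl

theorem orbit_congr {M S R : Subgroup G} {lam : G → ℂ} {A A' : Subgroup G} (e : A = A')
    (hA : A ≤ normalizer (M : Set G)) (hA' : A' ≤ normalizer (M : Set G)) :
    orbit (S := S) (R := R) (lam := lam) A hA = orbit A' hA' := by
  subst e; rfl

/-- Equal counts over every invariant constituent give equal counts. -/
theorem cntL_congr {H H' M S R : Subgroup G} (hMH : M ≤ H) (hMH' : M ≤ H')
    (hM : ∀ g, g ∈ normalizer (M : Set G)) (hSH : S ≤ H) (hSH' : S ≤ H') (hRH : R ≤ H)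
    (hRH' : R ≤ H') (hR : R ≤ Subgroup.center G) (hS : IsPGroup p S) (hSi : ¬ p ∣ S.index)
    (hA : normalizer (S : Set G) ⊓ H = normalizer (S : Set G) ⊓ H') (lam : G → ℂ)
    (h : ∀ θ : Theta M S R lam, cnt p H M θ.fn R lam = cnt p H' M θ.fn R lam) :
    cntL p H R lam = cntL p H' R lam := by
  rw [cntL_eq_sum hMH (fun g _ => hM g) hSH hRH hR hS (relIndex_not_dvd hSH hSi),
    cntL_eq_sum hMH' (fun g _ => hM g) hSH' hRH' hR hS (relIndex_not_dvd hSH' hSi),
    finsum_setoid_congr (orbit_congr hA (fun g _ => hM g) (fun g _ => hM g))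
      (fun θ => cnt p H M θ.fn R lam)]
  exact finsum_congr fun o => h _

/-- Conjugate parameters have equal counts. -/
theorem cnt_cj {H M R : Subgroup G} (hMH : M ≤ H) {θ θ' lam : G → ℂ} {a : G} (ha : a ∈ H)
    (haM : a ∈ normalizer (M : Set G)) (h : ∀ m ∈ M, θ' m = θ (a * m * a⁻¹)) :
    cnt p H M θ' R lam = cnt p H M θ R lam := by
  refine Nat.card_congr (Equiv.subtypeEquivRight fun χ => ?_)
  have hχ : Irr H (ext0 H (χ : H → ℂ)) := by rw [Irr, res_ext0]; exact χ.2
  rw [mult_congr (g' := cj a θ) (fun _ _ => rfl) h,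
    ← mult_congr (f := cj a (ext0 H (χ : H → ℂ))) (fun m hm => hχ.chr.conj_apply ha (hMH hm))
      (fun _ _ => rfl), mult_cj haM]

/-- Corresponding characters have the same central scalars. -/
theorem scalar_transfer {C K : Subgroup G} (hCK : C ≤ K) {θ φ : G → ℂ} (hθ : Irr K θ)
    (hφ : Irr C φ) (hm : mult C θ φ ≠ 0) {r : G} (hr : r ∈ C) (hrc : r ∈ Subgroup.center G) :
    θ r * φ 1 = φ r * θ 1 := by
  obtain ⟨ω, hω⟩ := central_scalar hθ (hCK hr) fun g _ => Subgroup.mem_center_iff.1 hrc g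
  obtain ⟨ω', hω'⟩ := central_scalar hφ hr fun g _ => Subgroup.mem_center_iff.1 hrc g
  have he := scalar_eq_of_mult hφ hr (fun g hg => hω g (hCK hg)) hω' hm
  have h1 := hω 1 K.one_mem
  have h2 := hω' 1 C.one_mem
  rw [mul_one] at h1 h2
  rw [h1, h2, he]
  ring

/-- The coprime case, one parameter at a time. -/
theorem coprime_param {K S Z : Subgroup G} (hS : Coprime p K S Z) {θ φ lam : G → ℂ}
    (hlam : ∀ a ∈ Z, ∀ b ∈ Z, lam (a * b) = lam a * lam b)
    (hθ : Irr K θ) (hθS : ∀ s ∈ S, Inv K θ s)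
    (hcompat : ∀ r ∈ Z ⊓ K, θ r = lam r * θ 1)
    (hφ : Irr (K ⊓ centralizer (S : Set G)) φ)
    (hcorr : Corr p (K ⊓ centralizer (S : Set G)) θ φ) :
    cnt p ⊤ K θ Z lam =
      cnt p (normalizer (S : Set G)) (K ⊓ centralizer (S : Set G)) φ Z lam := by
  haveI := hS.normal
  set C := K ⊓ centralizer (S : Set G) with hC
  set N := normalizer (S : Set G) with hN
  set T := stab K θ with hT
  have hSK : S ≤ normalizer (K : Set G) := fun s _ => mem_normalizer_of_normal s
  have hKT : K ≤ T := fun k hk => ⟨mem_normalizer_of_normal k, hθ.inv_mem hk⟩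
  have hST : S ≤ T := fun s hs => ⟨mem_normalizer_of_normal s, hθS s hs⟩
  have hZT : Z ≤ T := fun z hz => ⟨mem_normalizer_of_normal z, fun k _ => by
    rw [← Subgroup.mem_center_iff.1 (hS.central hz) k, mul_inv_cancel_right]⟩
  have hCN : C ≤ N := inf_le_right.trans (centralizer_le_normalizer _)
  have hNC : N ≤ normalizer (C : Set G) := fun n hn =>
    centralizer_normalizes (mem_normalizer_of_normal n) hn
  have hZN : Z ≤ N := center_le_normalizer hS.central
  have hstab : stab C φ ⊓ N = T ⊓ N := by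
    ext n
    constructor
    · rintro ⟨hn, hnN⟩
      refine ⟨⟨mem_normalizer_of_normal n, fun k hk => ?_⟩, hnN⟩
      have hnS : ∀ s ∈ S, Inv K (cj n θ) s := fun s hs m hm => by
        show θ (n * (s * m * s⁻¹) * n⁻¹) = θ (n * m * n⁻¹)
        have h1 := hθS _ (conj_mem hnN hs) _ (conj_mem (mem_normalizer_of_normal n) hm)
        rw [← h1]
        congr 1
        group
      exact (glauberman hSK hS.card hS.pgroup).2.2.1 (cj n θ) θ φ
        (cj_irr (mem_normalizer_of_normal n) hθ) hnS hθ hθS hφ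
        ((hcorr.cj (hNC hnN)).congr (fun _ _ => rfl) (fun c hc => (hn.2 c hc).symm)) hcorr k hk
    · rintro ⟨hn, hnN⟩
      exact ⟨⟨hNC hnN, hcorr.inv hSK hS.card hS.pgroup hθ hθS hφ (mem_normalizer_of_normal n) hnN
        hn.2⟩, hnN⟩
  rw [clifford_top hθ (index_not_dvd_of_le hST hS.sylow) hS.central hZT,
    clifford hCN hNC hφ ?_ hZN hS.central ?_, hstab]
  rotate_left
  · rw [← Subgroup.inf_relIndex_right, hstab, Subgroup.inf_relIndex_right]
    exact fun h => relIndex_not_dvd (le_normalizer : S ≤ N) hS.sylow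
      (h.trans (Subgroup.relIndex_dvd_of_le_left N hST))
  · exact fun z hz => ⟨hNC (hZN hz), fun c _ => by
      rw [← Subgroup.mem_center_iff.1 (hS.central hz) c, mul_inv_cancel_right]⟩
  have hCT : C ≤ T := inf_le_left.trans hKT
  rw [← cnt_down (le_refl T) hKT hZT, ← cnt_down (inf_le_left : T ⊓ N ≤ T) hCT hZT,
    Subgroup.subgroupOf_self, Subgroup.inf_subgroupOf_left, cnt_top]
  set K' := K.subgroupOf T
  set S' := S.subgroupOf T
  set Z' := Z.subgroupOf T
  have hC' : C.subgroupOf T = K' ⊓ centralizer (S' : Set T) := by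
    ext t
    simp only [mem_subgroupOf, hC, Subgroup.mem_inf, mem_centralizer_iff, SetLike.mem_coe, K', S']
    refine and_congr_right fun _ => ⟨fun h s hs => Subtype.ext (h (s : G) hs), fun h s hs => ?_⟩
    exact congrArg Subtype.val (h ⟨s, hST hs⟩ hs)
  have hN' : N.subgroupOf T = normalizer (S' : Set T) := Subgroup.subgroupOf_normalizer_eq hST
  have hS' : Coprime p K' S' Z' := by
    haveI : K'.Normal := hS.normal.subgroupOf T
    refine ⟨inferInstance, ?_, hS.pgroup.of_equiv (Subgroup.subgroupOfEquivOfLe hST).symm,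
      relIndex_not_dvd hST hS.sylow, ?_, ?_, ?_⟩
    · rw [Nat.card_congr (Subgroup.subgroupOfEquivOfLe hKT).toEquiv]
      exact hS.card
    · rw [← Subgroup.subgroupOf_sup hKT hST]
      exact hS.supNormal.subgroupOf T
    · intro z hz
      exact Subgroup.mem_center_iff.2 fun t =>
        Subtype.ext (Subgroup.mem_center_iff.1 (hS.central hz) (t : G))
    · show Z.subgroupOf T ≤ (S.subgroupOf T ⊓ Z.subgroupOf T) ⊔ (Z.subgroupOf T ⊓ K.subgroupOf T)
      rw [show S.subgroupOf T ⊓ Z.subgroupOf T = (S ⊓ Z).subgroupOf T from rfl,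
        show Z.subgroupOf T ⊓ K.subgroupOf T = (Z ⊓ K).subgroupOf T from rfl,
        ← Subgroup.subgroupOf_sup (inf_le_left.trans hST) (inf_le_left.trans hZT)]
      exact Subgroup.comap_mono hS.split
  have hkey := coprime_case hS' (θ := down T θ) (φ := down T φ) (lam := down T lam)
    ((irr_down hKT θ).2 hθ) (fun t => inv_down t.2.2) (hC' ▸ (irr_down hCT φ).2 hφ) ?_
    (fun a ha b hb => hlam a ha b hb) (fun r hr => hcompat r ⟨hr.1, hr.2⟩)
  swap
  · obtain ⟨m, hm, hmp⟩ := hcorr
    exact ⟨m, by rw [← hC', mult_down hCT]; exact hm, hmp⟩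
  refine hkey.trans ?_
  rw [hC', hN']
  set N' := normalizer (S' : Set T)
  have hC'N : K' ⊓ centralizer (S' : Set T) ≤ N' := inf_le_right.trans (centralizer_le_normalizer _)
  have hZ'N : Z' ≤ N' := center_le_normalizer hS'.central
  rw [← cnt_down (le_refl N') hC'N hZ'N, Subgroup.subgroupOf_self, cnt_top]

/-- The count in the coprime case. -/
theorem coprime_count {K S Z : Subgroup G} (hS : Coprime p K S Z) {lam : G → ℂ}
    (hlam : ∀ a ∈ Z, ∀ b ∈ Z, lam (a * b) = lam a * lam b) :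
    cntL p ⊤ Z lam = cntL p (normalizer (S : Set G)) Z lam := by
  classical
  haveI := hS.normal
  set C := K ⊓ centralizer (S : Set G) with hC
  set N := normalizer (S : Set G) with hN
  have hSK : S ≤ normalizer (K : Set G) := fun s _ => mem_normalizer_of_normal s
  have hSN : S ≤ N := le_normalizer
  have hCN : C ≤ N := inf_le_right.trans (centralizer_le_normalizer _)
  have hNC : N ≤ normalizer (C : Set G) := fun n hn =>
    centralizer_normalizes (mem_normalizer_of_normal n) hn
  have hZN : Z ≤ N := center_le_normalizer hS.central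
  have hC0 : ∀ r ∈ Z ⊓ K, r ∈ C := fun r hr =>
    ⟨hr.2, center_le_centralizer _ (hS.central hr.1)⟩
  have gl := glauberman hSK hS.card hS.pgroup
  have hne : ∀ {θ φ : G → ℂ}, Corr p C θ φ → mult C θ φ ≠ 0 := fun {θ φ} h => by
    obtain ⟨m, hm, hmp⟩ := h
    rw [hm]
    exact Nat.cast_ne_zero.2 fun h0 => hmp (h0 ▸ dvd_zero p)
  -- the bijection of parameters
  have hex : ∀ θ : Theta K S Z lam, ∃ φ : Theta C S Z lam, Corr p C θ.fn φ.fn := by
    intro θ
    obtain ⟨φ, hφ, hc⟩ := gl.1 θ.fn θ.irr θ.2.1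
    have he : ∀ c ∈ C, ext0 C (res C φ) c = φ c := fun c hc => ext0_apply C _ hc
    refine ⟨⟨⟨res C φ, hφ⟩, fun s hs c hc' => ?_, fun r hr => ?_⟩,
      hc.congr (fun _ _ => rfl) he⟩
    · show ext0 C (res C φ) (s * c * s⁻¹) = ext0 C (res C φ) c
      rw [show s * c * s⁻¹ = c by
        rw [(mem_centralizer_iff.1 hc'.2) s hs, mul_inv_cancel_right]]
    · show ext0 C (res C φ) r = lam r * ext0 C (res C φ) 1
      rw [he r hr.2, he 1 C.one_mem]
      have h1 := scalar_transfer inf_le_left θ.irr hφ (hne hc) hr.2 (hS.central hr.1)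
      rw [show θ.fn r = lam r * θ.fn 1 from θ.2.2 r ⟨hr.1, hr.2.1⟩] at h1
      exact mul_right_cancel₀ θ.irr.one_ne (by linear_combination -h1)
  choose e he using hex
  have hbij : Function.Bijective e := by
    constructor
    · intro a b hab
      refine Subtype.ext (Subtype.ext (funext fun k => ?_))
      have h := gl.2.2.1 a.fn b.fn (e a).fn a.irr a.2.1 b.irr b.2.1 (e a).irr (he a)
        (hab ▸ he b) k k.2
      simp only [Theta.fn, ext0_apply K _ k.2] at h
      exact h
    · intro φ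
      obtain ⟨θ, hθ, hθS, hc⟩ := gl.2.2.2 φ.fn φ.irr
      have het : ∀ k ∈ K, ext0 K (res K θ) k = θ k := fun k hk => ext0_apply K _ hk
      let θ' : Theta K S Z lam := ⟨⟨res K θ, hθ⟩,
        fun s hs k hk => by
          rw [het _ (conj_mem (hSK hs) hk), het k hk]; exact hθS s hs k hk,
        fun r hr => by
          rw [het r hr.2, het 1 K.one_mem]
          have h1 := scalar_transfer inf_le_left hθ φ.irr (hne hc) (hC0 r hr) (hS.central hr.1)
          rw [show φ.fn r = lam r * φ.fn 1 from φ.2.2 r ⟨hr.1, hC0 r hr⟩] at h1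
          exact mul_right_cancel₀ φ.irr.one_ne (by linear_combination h1)⟩
      refine ⟨θ', Subtype.ext (Subtype.ext (funext fun c => ?_))⟩
      have h := gl.2.1 θ'.fn (e θ').fn φ.fn θ'.irr θ'.2.1 (e θ').irr φ.irr (he θ')
        (hc.congr (fun c hc' => het c hc'.1) fun _ _ => rfl) c c.2
      simp only [Theta.fn, ext0_apply C _ c.2] at h
      exact h
  let E := Equiv.ofBijective e hbij
  rw [cntL_eq_sum (M := K) le_top (fun g _ => mem_normalizer_of_normal g) le_top le_top hS.central hS.pgroup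
      (relIndex_not_dvd le_top hS.sylow),
    cntL_eq_sum hCN hNC hSN hZN hS.central hS.pgroup (relIndex_not_dvd hSN hS.sylow)]
  set sK := orbit (M := K) (S := S) (R := Z) (lam := lam) (N ⊓ ⊤)
    (inf_le_right.trans fun g _ => mem_normalizer_of_normal g) with hsK
  set sC := orbit (M := C) (S := S) (R := Z) (lam := lam) (N ⊓ N) (inf_le_right.trans hNC) with hsC
  have hequiv : ∀ a b, sK.r a b ↔ sC.r (E a) (E b) := by
    intro a b
    constructor
    · rintro ⟨n, ⟨hn, -⟩, hnf⟩
      refine ⟨n, ⟨hn, hn⟩, gl.2.1 b.fn (e b).fn (cj n (e a).fn) b.irr b.2.1 (e b).irr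
        (cj_irr (hNC hn) (e a).irr) (he b) ?_⟩
      exact ((he a).cj (hNC hn)).congr (fun c hc => hnf c hc.1) fun _ _ => rfl
    · rintro ⟨n, ⟨hn, -⟩, hnf⟩
      refine ⟨n, ⟨hn, mem_top n⟩, ?_⟩
      refine gl.2.2.1 b.fn (cj n a.fn) (e b).fn b.irr b.2.1
        (cj_irr (mem_normalizer_of_normal n) a.irr) (fun s hs m hm => ?_) (e b).irr (he b)
        (((he a).cj (hNC hn)).congr (fun _ _ => rfl) hnf)
      show a.fn (n * (s * m * s⁻¹) * n⁻¹) = a.fn (n * m * n⁻¹)
      refine Eq.trans (congrArg a.fn ?_)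
        (a.2.1 _ (conj_mem hn hs) _ (conj_mem (mem_normalizer_of_normal n) hm))
      group
  refine finsum_eq_of_bijective (Quotient.congr E hequiv) (Quotient.congr E hequiv).bijective
    fun o => ?_
  set φ := (Quotient.congr E hequiv o).out with hφdef
  obtain ⟨θ, hθ⟩ := hbij.2 φ
  have hrel : sK.r o.out θ := by
    rw [hequiv]
    have h1 : (Quotient.congr E hequiv o) = Quotient.mk sC (E o.out) := by
      conv_lhs => rw [← Quotient.out_eq o]
      rfl
    have h2 : sC.r (E o.out) φ := Quotient.exact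
      (h1.symm.trans (Quotient.out_eq _).symm)
    rw [show E θ = φ from hθ]
    exact h2
  obtain ⟨n, ⟨hn, -⟩, hnf⟩ := hrel
  rw [← cnt_cj (θ' := θ.fn) le_top (mem_top n) (mem_normalizer_of_normal n) hnf,
    ← show e θ = φ from hθ]
  exact coprime_param hS hlam θ.irr θ.2.1 θ.2.2 (e θ).irr (he θ)

/-- A central subgroup splits into its Sylow and `p'`-parts. -/
theorem center_split {Z S : Subgroup G} (hZ : Z ≤ Subgroup.center G) (hS : IsPGroup p S)
    (hSi : ¬ p ∣ S.index) : Z ≤ (S ⊓ Z) ⊔ (Z ⊓ Cfsg.pPrimeCore p G) := by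
  intro z hz
  set e := (orderOf z).factorization p
  set m := ordCompl[p] (orderOf z)
  have hord : p ^ e * m = orderOf z := Nat.ordProj_mul_ordCompl_eq_self _ p
  have hm : ¬ p ∣ m := Nat.not_dvd_ordCompl hp.out (orderOf_pos z).ne'
  have hzn : ∀ k : ℕ, (zpowers (z ^ k)).Normal := fun k => ⟨fun x hx g => by
    rwa [Subgroup.mem_center_iff.1 ((Subgroup.center G).pow_mem (hZ hz) k |> fun h =>
      (zpowers_le_of_mem h) hx) g, mul_inv_cancel_right]⟩
  have h1 : z ^ m ∈ S := by
    refine pgroup_le_of_normalizes hS hSi (Q := zpowers (z ^ m)) ?_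
      (zpowers_le_of_mem (center_le_normalizer hZ (Z.pow_mem hz m))) (mem_zpowers _)
    refine IsPGroup.of_card (n := e) ?_
    rw [Nat.card_zpowers, orderOf_pow_of_dvd (n := m) (fun h => hm (by rw [h]; exact dvd_zero p))
      (Dvd.intro_left _ hord), ← hord, Nat.mul_div_cancel _ (Nat.pos_of_ne_zero fun h => hm (by rw [h]; exact dvd_zero p))]
  have h2 : z ^ p ^ e ∈ Cfsg.pPrimeCore p G := by
    haveI := hzn (p ^ e)
    refine PLocal.Cores.le_pPrimeCore ?_ (mem_zpowers _)
    rw [Nat.card_zpowers, orderOf_pow_of_dvd (pow_ne_zero e hp.out.ne_zero) (Dvd.intro _ hord),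
      ← hord, Nat.mul_div_cancel_left _ (pow_pos hp.out.pos e)]
    exact ((Nat.Prime.coprime_iff_not_dvd hp.out).2 hm).symm
  obtain ⟨u, v, huv⟩ := Int.isCoprime_iff_gcd_eq_one.2 (show Int.gcd (m : ℤ) ((p ^ e : ℕ) : ℤ) = 1
    from (Nat.Coprime.pow_left e ((Nat.Prime.coprime_iff_not_dvd hp.out).2 hm)).symm)
  rw [show z = (z ^ m) ^ u * (z ^ p ^ e) ^ v by
    rw [← zpow_natCast z m, ← zpow_natCast z (p ^ e), ← zpow_mul, ← zpow_mul, ← zpow_add,
      show (m : ℤ) * u + ((p ^ e : ℕ) : ℤ) * v = 1 by rw [← huv]; ring, zpow_one]]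
  exact Subgroup.mul_mem_sup ((S ⊓ Z).zpow_mem ⟨h1, Z.pow_mem hz m⟩ u)
    ((Z ⊓ Cfsg.pPrimeCore p G).zpow_mem ⟨Z.pow_mem hz _, h2⟩ v)

/-- The preimage of `O_{p'}` of a central quotient is not larger only by `Z`. -/
theorem pPrimeCore_le {Z S : Subgroup G} [Z.Normal] (hZ : Z ≤ Subgroup.center G) (hS : IsPGroup p S)
    (hSi : ¬ p ∣ S.index) (h : Cfsg.pPrimeCore p (G ⧸ Z) ≠ ⊥) : ¬ Cfsg.pPrimeCore p G ≤ Z := by
  intro hK
  apply h
  set q := QuotientGroup.mk' Z
  have hq := QuotientGroup.mk'_surjective Z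
  set T := (Cfsg.pPrimeCore p (G ⧸ Z)).comap q with hTdef
  have hZT : Z ≤ T := (QuotientGroup.ker_mk' Z).ge.trans (MonoidHom.ker_le_comap q _)
  have hi : ¬ p ∣ Z.relIndex T := by
    have hmul := Subgroup.card_mul_index (Z.subgroupOf T)
    rw [Nat.card_congr (subgroupOfEquivOfLe hZT).toEquiv, hTdef,
      PLocal.Cores.card_comap_eq _ hq, QuotientGroup.ker_mk'] at hmul
    rw [Subgroup.relIndex, hTdef, Nat.eq_of_mul_eq_mul_left Nat.card_pos hmul]
    exact PLocal.Cores.not_dvd_card_pPrimeCore hp.out.ne_one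
  have hSZ : ¬ p ∣ (S ⊓ Z).relIndex T := by
    rw [← Subgroup.relIndex_mul_relIndex (S ⊓ Z) Z T inf_le_right hZT, hp.out.dvd_mul,
      Subgroup.inf_relIndex_right, not_or]
    obtain ⟨Q⟩ : Nonempty (Sylow p Z) := inferInstance
    refine ⟨fun h => Q.not_dvd_index (h.trans (Subgroup.index_dvd_of_le fun x hx => ?_)), hi⟩
    exact pgroup_le_of_normalizes hS hSi (Q.isPGroup'.map Z.subtype)
      ((map_subtype_le _).trans (center_le_normalizer hZ)) (mem_map_of_mem _ hx)
  have hcomp : Cfsg.HasNormalPComplement p T := PLocal.PSolvable.hasNormalPComplement_of_central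
    (Z := (S ⊓ Z).subgroupOf T)
    (fun z hz => Subgroup.mem_center_iff.mpr fun g =>
      Subtype.ext (Subgroup.mem_center_iff.mp (hZ hz.2) g.1))
    ((hS.to_le inf_le_left).comap_subtype) hSZ
  obtain ⟨N, hN, hNc, k, hk⟩ :=
    Transfer.NormalPComplement.hasNormalPComplement_iff_exists.mp hcomp
  have hNZ : N ≤ Z.subgroupOf T := fun x hx =>
    hK (PLocal.Cores.map_subtype_pPrimeCore_le T ⟨x, PLocal.Cores.le_pPrimeCore hNc hx, rfl⟩)
  have h1 : Z.relIndex T = 1 := Nat.eq_one_of_dvd_coprimes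
    (Nat.Coprime.pow_left k ((Nat.Prime.coprime_iff_not_dvd hp.out).2 hi))
    (hk ▸ Subgroup.index_dvd_of_le hNZ) dvd_rfl
  rw [← map_comap_eq_self_of_surjective hq (Cfsg.pPrimeCore p (G ⧸ Z)), Subgroup.map_eq_bot_iff,
    QuotientGroup.ker_mk']
  exact Subgroup.relIndex_eq_one.1 h1

omit [Finite G] in
theorem isPSolvable_quotient {Z M : Subgroup G} [Z.Normal] [M.Normal] (hZM : Z ≤ M)
    (h : Cfsg.IsPSolvable p (G ⧸ Z)) : Cfsg.IsPSolvable p (G ⧸ M) := by
  refine PLocal.PSolvable.of_surjective h (f := QuotientGroup.map Z M (MonoidHom.id G) hZM) ?_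
  intro y
  obtain ⟨x, rfl⟩ := QuotientGroup.mk'_surjective M y
  exact ⟨QuotientGroup.mk' Z x, rfl⟩

/-- The main statement. -/
theorem main (n : ℕ) : Main.{u} p n := by
  induction n with
  | zero =>
    intro G _ _ Z S lam _ _ _ _ _ h
    exact absurd (Nat.le_zero.1 h) Subgroup.index_ne_zero_of_finite
  | succ n IH => ?_
  intro G _ _ Z S lam hZ hlam hS hSi hsolv hidx
  haveI hZn : Z.Normal := ⟨fun z hz g => by
    rwa [Subgroup.mem_center_iff.1 (hZ hz) g, mul_inv_cancel_right]⟩
  have hsol := hsolv hZn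
  by_cases hZt : Z = ⊤
  · have hN : normalizer (S : Set G) = ⊤ := top_le_iff.1 fun g _ =>
      center_le_normalizer hZ (hZt ▸ mem_top g)
    rw [hN]
  haveI : Nontrivial (G ⧸ Z) := QuotientGroup.nontrivial_iff.2 hZt
  set N := normalizer (S : Set G) with hN
  have hSN : S ≤ N := le_normalizer
  have hZN : Z ≤ N := center_le_normalizer hZ
  have hlt : ∀ M : Subgroup G, Z ≤ M → ¬ M ≤ Z → M.index ≤ n := by
    intro M hZM hMZ
    have h1 : M.index < Z.index := Subgroup.index_strictAnti (lt_of_le_not_ge hZM hMZ)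
    omega
  -- reduction to the normalizer of `M ⊔ S`
  have hred : ∀ (M : Subgroup G) (_ : M.Normal), Z ≤ M → ¬ M ≤ Z →
      ∀ (H : Subgroup G), H = normalizer ((M ⊔ S : Subgroup G) : Set G) → N ≤ H →
      cntL p ⊤ Z lam = cntL p H Z lam := by
    intro M _ hZM hMZ H hH hNH
    have hMH : M ≤ H := hH ▸ le_sup_left.trans le_normalizer
    refine cntL_congr le_top hMH (fun g => mem_normalizer_of_normal g) le_top (hSN.trans hNH) le_top
      (hZN.trans hNH) hZ hS hSi (by rw [inf_top_eq, inf_eq_left.2 hNH]) lam fun θ => ?_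
    rw [cnt_drop le_top hZM hZ θ.irr (fun r hr => θ.2.2 r ⟨hr, hZM hr⟩),
      cnt_drop hMH hZM hZ θ.irr (fun r hr => θ.2.2 r ⟨hr, hZM hr⟩), hH]
    exact reduction IH (hlt M hZM hMZ) (isPSolvable_quotient hZM hsol) hS hSi θ.irr θ.2.1
  set q := QuotientGroup.mk' Z
  have hq := QuotientGroup.mk'_surjective Z
  rcases PLocal.PSolvable.exists_core_ne_bot hsol with hcore | hcore
  · set M := (Cfsg.pCore p (G ⧸ Z)).comap q with hM
    have hZM : Z ≤ M := (QuotientGroup.ker_mk' Z).ge.trans (MonoidHom.ker_le_comap q _)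
    have hMS : M ≤ Z ⊔ S := by
      have h1 : Cfsg.pCore p (G ⧸ Z) ≤ S.map q :=
        PLocal.Cores.pCore_le_sylow ((hS.map q).toSylow fun h =>
          hSi (h.trans (Subgroup.index_map_dvd S hq)))
      refine (Subgroup.comap_mono h1).trans ?_
      rw [Subgroup.comap_map_eq, QuotientGroup.ker_mk', sup_comm]
    have hMN : N = normalizer ((M ⊔ S : Subgroup G) : Set G) := by
      rw [show M ⊔ S = Z ⊔ S from le_antisymm (sup_le hMS le_sup_right) (sup_le_sup_right hZM S),
        normalizer_sup_center hZ hS hSi]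
    refine hred M inferInstance hZM (fun hle => hcore ?_) N hMN le_rfl
    rw [← map_comap_eq_self_of_surjective hq (Cfsg.pCore p (G ⧸ Z)), Subgroup.map_eq_bot_iff,
      QuotientGroup.ker_mk']
    exact hle
  set K := Cfsg.pPrimeCore p G with hK
  have hsplit := center_split hZ hS hSi
  by_cases hnorm : (K ⊔ S).Normal
  · exact coprime_count (K := K) ⟨inferInstance, PLocal.Cores.not_dvd_card_pPrimeCore hp.out.ne_one,
      hS, hSi, hnorm, hZ, hsplit⟩ hlam
  set M := K ⊔ Z with hM
  set H := normalizer ((K ⊔ S : Subgroup G) : Set G) with hH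
  have hNH : N ≤ H := fun g hg => mem_normalizer_iff_map_conj_eq.2 (by
    rw [Subgroup.map_sup, mem_normalizer_iff_map_conj_eq.1 hg,
      mem_normalizer_iff_map_conj_eq.1 (mem_normalizer_of_normal (M := K) g)])
  have hMS : M ⊔ S = K ⊔ S := by
    refine le_antisymm (sup_le (sup_le le_sup_left (hsplit.trans ?_)) le_sup_right)
      (sup_le_sup_right le_sup_left S)
    exact sup_le (inf_le_left.trans le_sup_right) (inf_le_right.trans le_sup_left)
  rw [hred M inferInstance le_sup_right (fun hle => pPrimeCore_le hZ hS hSi hcore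
    (le_sup_left.trans hle)) H (by rw [hH, hMS]) hNH]
  -- recursion in the proper subgroup `H`
  have hHne : H ≠ ⊤ := fun h => hnorm (Subgroup.normalizer_eq_top_iff.1 h)
  have hZH : Z ≤ H := hZN.trans hNH
  have hSH : S ≤ H := hSN.trans hNH
  have hidxH : (Z.subgroupOf H).index ≤ n := by
    have h1 := Subgroup.relIndex_mul_index hZH
    have h2 : 1 < H.index := by
      have := Subgroup.index_ne_zero_of_finite (H := H)
      have : H.index ≠ 1 := fun h => hHne (Subgroup.index_eq_one.1 h)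
      omega
    have h3 : 0 < Z.relIndex H := Nat.pos_of_ne_zero fun h => by
      rw [h, zero_mul] at h1
      exact Subgroup.index_ne_zero_of_finite h1.symm
    show Z.relIndex H ≤ n
    nlinarith
  let f : H ⧸ Z.subgroupOf H →* G ⧸ Z := QuotientGroup.map _ Z H.subtype fun _ h => h
  have hf : Function.Injective f := by
    rw [injective_iff_map_eq_one]
    intro z hz
    induction z using QuotientGroup.induction_on with | _ t => ?_
    exact (QuotientGroup.eq_one_iff t).2 ((QuotientGroup.eq_one_iff (t : G)).1 hz)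
  have hkey := IH H (Z.subgroupOf H) (S.subgroupOf H) (down H lam)
    (fun z hz => Subgroup.mem_center_iff.2 fun t =>
      Subtype.ext (Subgroup.mem_center_iff.1 (hZ hz) (t : G)))
    (fun a ha b hb => hlam a ha b hb)
    (hS.of_equiv (Subgroup.subgroupOfEquivOfLe hSH).symm) (relIndex_not_dvd hSH hSi)
    (fun _ => PLocal.PSolvable.congr (MonoidHom.ofInjective hf).symm
      (PLocal.PSolvable.subgroup hsol f.range)) hidxH
  rw [← Subgroup.subgroupOf_normalizer_eq hSH, cntL_down hNH hZH, ← Subgroup.subgroupOf_self H,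
    cntL_down le_rfl hZH] at hkey
  exact hkey

end Cfsg.Agent.CharTheory.RelMcKay
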